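import Cfsg.Agent.Omega.NOThreeL.Low.Defs

/-!
# THEOREM R-LOW (#21762, helper597): definitions and the statements of the parts

Box R of NO-3L (`Data S`, some `C_Z(P) ≠ 1`), not (A), `V* = ⟨Z^M₀⟩` not FF: `V* ≤ Q = O₂(C_G(Z))`.

* `SitR S V F B P` : the situation after the gallery argument: `U = zl S P` is a bad line on `S`, its points meet
  `F` trivially;
* `SitG Fa S V F B P` : moreover the lines of the members of `Fa` are in `V`, the good ones in `B`;
* `NSitR` : the natural case with trivial radical (`C_U(O²P) = 1`), same field names as `Low.NSit`;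
* `StR1`, … : the statements of the parts.

`Blk`, `Rtv`, `Tor` are those of THEOREM LOW.
-/

set_option autoImplicit false

namespace Cfsg.Agent.Omega.NOThreeL.RLow

open Subgroup Cfsg Cfsg.Agent.ZN Cfsg.Agent.Omega.MinPar Cfsg.Agent.Omega.Frame Cfsg.Agent.Omega.FrameNOFF
open Cfsg.Agent.Omega.Node.NO3L (Data)
open Cfsg.Agent.Omega.NOThreeL.Basic (CaseA WP)
open Cfsg.Agent.Omega.NOThreeL.Merge (MZ)
open Cfsg.Agent.Omega.NOThreeL.Low (Blk Rtv Tor)
open Cfsg.Agent.Omega.NOne.Flat (Hyp EE WW NN BadX)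
open Cfsg.Agent.Omega.NOne.NearFF (c)
open Cfsg.Agent.Omega.NO3S (FFMod)
open Cfsg.Agent.Omega.FrameFF (cv)
open Cfsg.Agent.Omega.FFThm (OffM NatKM SymKM)
open Cfsg.Agent.Omega.NatPair (ap)
open Cfsg.Agent.Lib.SL2Mat (up)
open scoped Pointwise

universe u

section defs

variable {G : Type u} [Group G] [Finite G]

/-- **The situation** (output of `StR1`). -/
structure SitR (S : Sylow 2 G) (V F B P : Subgroup G) : Prop where
  ctx : Ctx G
  D : Data (S : Subgroup G)
  notA : ¬ CaseA (S : Subgroup G)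
  flat : Hyp V F
  VS : V ≤ (S : Subgroup G)
  hP : IsParS (S : Subgroup G) P
  UV : zl (S : Subgroup G) P ≤ V
  /-- `U = V_P` is bad -/
  bad : ¬ zl (S : Subgroup G) P ≤ EE V F
  FB : F ≤ B
  BW : B ≤ WW V F
  /-- `B` is normal in `X = C_G(F)` -/
  XB : centralizer (F : Set G) ≤ normalizer (B : Set G)
  comm : B ≤ centralizer (B : Set G)
  sq : ∀ b ∈ B, b ^ 2 = 1
  BS : B ≤ (S : Subgroup G)
  CB : WW V F ⊓ centralizer (B : Set G) ≤ (S : Subgroup G)
  ZB : zc (S : Subgroup G) ≤ B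
  /-- **(S+)**: the points of the bad line meet `F` trivially -/
  pt0 : ∀ g ∈ P, MulAut.conj g • zc (S : Subgroup G) ⊓ F = ⊥
  /-- box R: `|Z| ≥ 4` -/
  card : 2 < Nat.card (zc (S : Subgroup G))

/-- **(S+)**: the points of the bad line meet `F` trivially. -/
theorem SitR.pt {S : Sylow 2 G} {V F B P : Subgroup G} (s : SitR S V F B P) (Q : Subgroup G)
    (_ : IsParS (S : Subgroup G) Q) (_ : ¬ zl (S : Subgroup G) Q ≤ EE V F) (g : G) (hg : g ∈ Q)
    (e : Q = P := by rfl) : MulAut.conj g • zc (S : Subgroup G) ⊓ F = ⊥ := s.pt0 g (e ▸ hg)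

/-- **The situation for a set `Fa` of minimal parabolics**: their lines are in `V`. -/
structure SitG (Fa : Set (Subgroup G)) (S : Sylow 2 G) (V F B P : Subgroup G) : Prop extends
    SitR S V F B P where
  /-- all lines of the family on `S` are in `V` -/
  LV : ∀ Q ∈ Fa, zl (S : Subgroup G) Q ≤ V
  /-- the good lines of the family are in `B` -/
  good : ∀ Q ∈ Fa, zl (S : Subgroup G) Q ≤ EE V F → zl (S : Subgroup G) Q ≤ B
  /-- **(S+)**: points of bad lines of the family meet `F` trivially -/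
  ptA : ∀ Q ∈ Fa, ¬ zl (S : Subgroup G) Q ≤ EE V F → ∀ g ∈ Q, MulAut.conj g • zc (S : Subgroup G) ⊓ F = ⊥

end defs

section nsit

variable {G : Type u} [Group G] [Finite G]

/-- **The natural situation** at a bad block `i`; same field names as `Low.NSit`. -/
structure NSitR (S : Sylow 2 G) (V F B P : Subgroup G) {K : Type} [Field K] {k : ℕ}
    (N : NatKM K (S : Subgroup G) P (zl (S : Subgroup G) P) ⊥ k) (i : Fin k) (β : G → K) : Prop
    extends SitR S V F B P where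
  /-- the block is bad -/
  bad_i : ∃ w, Blk N i w ∧ w ∉ EE V F
  βmul : ∀ b ∈ B, ∀ c ∈ B, β (b * c) = β b + β c
  βsurj : ∀ x : K, ∃ b ∈ B, β b = x
  /-- `B ∩ N = C_B(N_i)` -/
  βN : ∀ b ∈ B, β b = 0 ↔ b ∈ NN V F
  /-- `B` acts on `N_i` as the full root group -/
  act : ∀ b ∈ B, ∀ v, Blk N i v → Blk N i (b * v * b⁻¹) ∧ N.e (b * v * b⁻¹) i = ap (up (β b)) (N.e v i)
  /-- `N_i ∩ E = R_i` -/
  blkE : ∀ v, Blk N i v → (v ∈ EE V F ↔ N.e v i 1 = 0)
  /-- `N_i ∩ F = 1` -/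
  blkF : ∀ v, Blk N i v → v ∈ F → v = 1
  /-- `R_i ≤ B` -/
  rtB : ∀ v, Rtv N i v → v ∈ B
  /-- all `R_j ≤ E` -/
  rtE : ∀ v ∈ zl (S : Subgroup G) P, (∀ j, N.e v j 1 = 0) → v ∈ EE V F
  /-- `I = V ∩ B = R_i × F` -/
  I : ∀ a ∈ V ⊓ B, ∃ r, Rtv N i r ∧ r⁻¹ * a ∈ F
  cardB : (NN V F).relIndex B = Nat.card K
  /-- (*) `ζ ζ_i ∈ F` -/
  zF : ∀ z ∈ zc (S : Subgroup G), ∃ r, Rtv N i r ∧ N.e r i = N.e z i ∧ r⁻¹ * z ∈ F
  /-- no full-support vector of `U` is in `F` -/
  nfull : ∀ f ∈ F, f ∈ zl (S : Subgroup G) P → ∃ j, N.e f j = 0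
  /-- full-support vectors of `U` are in points of `U` -/
  full : ∀ v ∈ zl (S : Subgroup G) P, (∀ j, N.e v j ≠ 0) → ∃ g ∈ P, v ∈ MulAut.conj g • zc (S : Subgroup G)

end nsit

/-! ### The statements of the parts -/

section parts

/-- **R1** (597): the front. -/
def StR1 : Prop :=
  ∀ (G : Type u) [Group G] [Finite G], Ctx G → ∀ S : Sylow 2 G, Full (S : Subgroup G) → Data (S : Subgroup G) →
    ¬ CaseA (S : Subgroup G) →
    (∃ P, IsParS (S : Subgroup G) P ∧ zc (S : Subgroup G) ⊓ centralizer (P : Set G) ≠ ⊥) →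
    ¬ FFMod (S : Subgroup G) (MZ (S : Subgroup G)) →
    ¬ zl (S : Subgroup G) (MZ (S : Subgroup G)) ≤ o2 (CZ (S : Subgroup G)) →
      ∃ V F B P, SitG {Q | IsParS (S : Subgroup G) Q} S V F B P

/-- **RA**: `U` is an FF-module. -/
def StRA : Prop :=
  ∀ (G : Type u) [Group G] [Finite G] (S : Sylow 2 G) (V F B P : Subgroup G), SitR S V F B P →
    ∃ A ≤ P, OffM (zl (S : Subgroup G) P) A

/-- **RB**: `U` is not of symmetric type (radical or not). -/
def StRB : Prop :=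
  ∀ (G : Type u) [Group G] [Finite G] (S : Sylow 2 G) (V F B P : Subgroup G), SitR S V F B P →
    ∀ k m : ℕ, 0 < k → 2 ≤ m →
      SymKM (S : Subgroup G) P (zl (S : Subgroup G) P) (cv (S : Subgroup G) P) k m → False

/-- **RC** (k = 1 or D = E_P): natural type: no radical. -/
def StRC : Prop :=
  ∀ (G : Type u) [Group G] [Finite G] (S : Sylow 2 G) (V F B P : Subgroup G), SitR S V F B P →
    ∀ (K : Type) [Field K] [Finite K] [CharP K 2] (k : ℕ), 0 < k →
      Nonempty (NatKM K (S : Subgroup G) P (zl (S : Subgroup G) P) (cv (S : Subgroup G) P) k) →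
      cv (S : Subgroup G) P = ⊥

/-- **RD**: the natural situation. -/
def StRD : Prop :=
  ∀ (G : Type u) [Group G] [Finite G] (S : Sylow 2 G) (V F B P : Subgroup G), SitR S V F B P →
    ∀ (K : Type) [Field K] [Finite K] [CharP K 2] (k : ℕ)
      (N : NatKM K (S : Subgroup G) P (zl (S : Subgroup G) P) ⊥ k), 0 < k →
      ∃ (i : Fin k) (β : G → K), NSitR S V F B P N i β

/-- **RE**: the torus. -/
def StRE : Prop :=
  ∀ (G : Type u) [Group G] [Finite G] (S : Sylow 2 G) (V F B P : Subgroup G)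
    (K : Type) [Field K] [Finite K] [CharP K 2] (k : ℕ)
    (N : NatKM K (S : Subgroup G) P (zl (S : Subgroup G) P) ⊥ k) (i : Fin k) (β : G → K),
    NSitR S V F B P N i β → Tor (F := F) N i

/-- **RF**: (CE) `C_V(B) = R_i F`. -/
def StRF : Prop :=
  ∀ (G : Type u) [Group G] [Finite G] (S : Sylow 2 G) (V F B P : Subgroup G)
    (K : Type) [Field K] [Finite K] [CharP K 2] (k : ℕ)
    (N : NatKM K (S : Subgroup G) P (zl (S : Subgroup G) P) ⊥ k) (i : Fin k) (β : G → K),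
    NSitR S V F B P N i β → ∀ r ∈ V, (∀ b ∈ B, b * r = r * b) → ∃ s, Rtv N i s ∧ s⁻¹ * r ∈ F

/-- **R2** (319): `k ≥ 2` is impossible. -/
def StR2 : Prop :=
  ∀ (G : Type u) [Group G] [Finite G] (S : Sylow 2 G) (V F B P : Subgroup G)
    (K : Type) [Field K] [Finite K] [CharP K 2] (k : ℕ)
    (N : NatKM K (S : Subgroup G) P (zl (S : Subgroup G) P) ⊥ k) (i : Fin k) (β : G → K),
    NSitR S V F B P N i β →
    (∀ r ∈ V, (∀ b ∈ B, b * r = r * b) → ∃ s, Rtv N i s ∧ s⁻¹ * r ∈ F) → 2 ≤ k → False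

/-- **R3** (920): `k = 1` is impossible if there is a radical line. -/
def StR3 : Prop :=
  ∀ (G : Type u) [Group G] [Finite G] (S : Sylow 2 G) (V F B P : Subgroup G)
    (K : Type) [Field K] [Finite K] [CharP K 2]
    (N : NatKM K (S : Subgroup G) P (zl (S : Subgroup G) P) ⊥ 1) (β : G → K),
    NSitR S V F B P N 0 β → Tor (F := F) N 0 →
    ∀ R : Subgroup G, IsParS (S : Subgroup G) R → zc (S : Subgroup G) ⊓ centralizer (R : Set G) ≠ ⊥ →
      zl (S : Subgroup G) R ≤ V → zl (S : Subgroup G) R ≤ B → False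

end parts

end Cfsg.Agent.Omega.NOThreeL.RLow
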