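import Cfsg.Agent.Omega.NOThreeL.RLow.Defs
import Cfsg.Agent.Omega.NOThreeL.Low.CE

/-!
# THEOREM R-LOW (#21762, helper597), part RF: (CE) `C_V(B) = R_i F`

Port of `Low/CE.lean` (P9a of THEOREM LOW) to the frame `NSitR`; `r ∈ V` instead of `r ∈ E`: for `r ∈ V - E` the
commutators `[r, B] F` are not trivial (`β` is onto).

* `bh_of_sit` : `BH V F B`;
* `stRF : StRF`.
-/

set_option autoImplicit false

namespace Cfsg.Agent.Omega.NOThreeL.RLow.CER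

open Subgroup Cfsg Cfsg.Agent.ZN Cfsg.Agent.Omega.MinPar Cfsg.Agent.Omega.NoFF.Basic
open Cfsg.Agent.Omega.NOne.Flat (Hyp EE WW NN BadX badX_inv conj_eq_of_cent)
open Cfsg.Agent.Omega.NOne.Flat.Hyp (W_le_X E_le_W NN_le_W)
open Cfsg.Agent.Omega.NOne.NearFF (c c_def)
open Cfsg.Agent.Omega.NOThreeL.Low (Blk Rtv)
open Cfsg.Agent.Omega.NOThreeL.Low.Key
open Cfsg.Agent.Omega.NOThreeL.Low.CE (blk_conj blk_ext blk_mul blk_inv e_mul_inv)
open Cfsg.Agent.Omega.NOThreeL.NF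
open Cfsg.Agent.Omega.FFThm (NatKM)
open Cfsg.Agent.Omega.NatPair (ap)
open Cfsg.Agent.Lib.SL2Mat (up)
open scoped Pointwise

universe u

variable {G : Type u} [Group G]

theorem bh_of_sit [Finite G] {S : Sylow 2 G} {V F B P : Subgroup G} (s : SitR S V F B P) : BH V F B :=
  { toHyp := s.flat, le_W := s.BW, F_le := s.FB, abel := s.comm, norm := s.XB }

/-- **RF** : (CE) `C_V(B) = R_i F`. -/
theorem stRF : StRF.{u} := by
  intro G _ _ S V F B P K _ _ _ k N i β n r hrV hrB0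
  have s := n.toSitR
  have hrB : r ∈ centralizer (B : Set G) := mem_centralizer_iff.2 hrB0
  -- `r ∈ E`
  have hrE : r ∈ EE V F := by
    by_contra hrE
    obtain ⟨b, hbB, hb1⟩ := n.βsurj 1
    have h1 : c r b ∈ F := by
      have e : c r b = 1 := by
        rw [c_def]
        have := hrB0 b hbB
        calc _ = r * (b * r⁻¹) * b⁻¹ := by group
          _ = r * (r⁻¹ * b) * b⁻¹ := by
            have e3 : b * r⁻¹ = r⁻¹ * b := by
              calc b * r⁻¹ = r⁻¹ * (r * b) * r⁻¹ := by group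
                _ = r⁻¹ * (b * r) * r⁻¹ := by rw [this]
                _ = r⁻¹ * b := by group
            rw [e3]
          _ = 1 := by group
      rw [e]; exact one_mem _
    have h2 : b ∈ NN V F := (s.flat.c_mem_F_iff hrV hrE (s.BW hbB)).1 h1
    have h3 : β b = 0 := (n.βN b hbB).2 h2
    rw [hb1] at h3
    exact one_ne_zero h3
  have bh : BH V F B := bh_of_sit s
  have hF := s.flat
  have hSP : (S : Subgroup G) ≤ P := s.hP.le
  have hPU : P ≤ normalizer (zl (S : Subgroup G) P : Set G) := ZN.le_normalizer_zl _ _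
  obtain ⟨x, hx, hb⟩ := exists_bad hF
  have hxi : x⁻¹ ∈ centralizer (F : Set G) := inv_mem hx
  -- `r' = x⁻¹ r x`
  obtain ⟨r', hr'⟩ : ∃ r', r' = x⁻¹ * r * x := ⟨_, rfl⟩
  have hrr : r = x * r' * x⁻¹ := by rw [hr']; group
  have hr'W : r' ∈ WW V F := by
    have h1 : r' ∈ MulAut.conj x⁻¹ • EE V F := by
      rw [mem_conj, hr']
      have e : x⁻¹⁻¹ * (x⁻¹ * r * x) * x⁻¹ = r := by group
      rwa [e]
    exact NOne.Flat.Hyp.conjE_le_W hxi h1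
  have hr'B : ∀ b ∈ B, b * r' = r' * b := by
    intro b hbB
    have h1 : x * b * x⁻¹ ∈ B := norm_conj_mem (s.XB hx) hbB
    have h2 := mem_centralizer_iff.1 hrB _ h1
    have e1 : b * r' = x⁻¹ * (x * b * x⁻¹ * r) * x := by rw [hr']; group
    have e2 : r' * b = x⁻¹ * (r * (x * b * x⁻¹)) * x := by rw [hr']; group
    rw [e1, e2, h2]
  have hr'S : r' ∈ (S : Subgroup G) := s.CB (mem_inf.2 ⟨hr'W, mem_centralizer_iff.2 hr'B⟩)
  -- `r'` normalises the block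
  have hblk : ∀ v, Blk N i v → Blk N i (r' * v * r'⁻¹) := fun v hv => by
    refine blk_conj hSP hPU hr'S (fun v hv => ?_) hv
    rw [← hr'B v (n.rtB v hv)]; group
  obtain ⟨w, hw, hwE⟩ := n.bad_i
  have hwV : w ∈ V := s.UV hw.1
  have hw1 : N.e w i 1 ≠ 0 := fun h0 => hwE ((n.blkE w hw).2 h0)
  -- `d = [w, r']`
  have hd : Blk N i (w * (r' * w * r'⁻¹)⁻¹) := blk_mul hw (blk_inv (hblk w hw))
  obtain ⟨d, hdd⟩ : ∃ d, d = w * (r' * w * r'⁻¹)⁻¹ := ⟨_, rfl⟩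
  rw [← hdd] at hd
  have hdV : d ∈ V := s.UV hd.1
  have hdc : ∀ b ∈ B, b * d * b⁻¹ = d := by
    intro b hbB
    -- `b w b⁻¹ = z⁻¹ w`, `z = [w, b] ∈ V ∩ B`
    have hz := bh.c_memI hwV hbB
    obtain ⟨z, hzz⟩ : ∃ z, z = c w b := ⟨_, rfl⟩
    rw [← hzz] at hz
    have e1 : b * w * b⁻¹ = z⁻¹ * w := by rw [hzz, c_def]; group
    have e2 : b * r' * b⁻¹ = r' := by rw [hr'B b hbB]; group
    have e3 : r' * z * r'⁻¹ = z := by rw [← hr'B z hz.2]; group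
    have e4 : b * d * b⁻¹ = (b * w * b⁻¹) * ((b * r' * b⁻¹) * (b * w * b⁻¹) * (b * r' * b⁻¹)⁻¹)⁻¹ := by
      rw [hdd]; group
    have e5 : z * d = d * z := hF.V_comm hz.1 hdV
    have e6 : z⁻¹ * w * (r' * (z⁻¹ * w) * r'⁻¹)⁻¹ = z⁻¹ * d * (r' * z * r'⁻¹) := by rw [hdd]; group
    rw [e4, e1, e2, e6, e3, mul_assoc, ← e5, inv_mul_cancel_left]
  -- `d ∈ R_i`
  have hd1 : N.e d i 1 = 0 := by
    obtain ⟨b, hbB, hb1⟩ := n.βsurj 1
    have h1 := (n.act b hbB d hd).2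
    rw [hdc b hbB, hb1, NatR.ap_up] at h1
    have h2 := congrFun h1 0
    simpa using h2
  -- `[w, b] = d`
  obtain ⟨b, hbB, hb1⟩ := n.βsurj (- (N.e d i 0 / N.e w i 1))
  have hwb : w * (b * w * b⁻¹)⁻¹ = d := by
    refine blk_ext (N := N) (blk_mul hw (blk_inv (n.act b hbB w hw).1)) hd ?_
    rw [e_mul_inv hw (n.act b hbB w hw).1, (n.act b hbB w hw).2, hb1, NatR.ap_up]
    funext j
    fin_cases j
    · simp [hw1]
    · simp [hd1]
  have hbr : c w (b⁻¹ * r') = 1 := by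
    have h1 : b * w * b⁻¹ = r' * w * r'⁻¹ := by
      rw [hdd] at hwb
      exact inv_injective (mul_left_cancel hwb)
    have h2 : (b⁻¹ * r') * w * (b⁻¹ * r')⁻¹ = w := by
      calc (b⁻¹ * r') * w * (b⁻¹ * r')⁻¹ = b⁻¹ * (r' * w * r'⁻¹) * b := by group
        _ = b⁻¹ * (b * w * b⁻¹) * b := by rw [h1]
        _ = w := by group
    have e : c w (b⁻¹ * r') = w * ((b⁻¹ * r') * w * (b⁻¹ * r')⁻¹)⁻¹ := by rw [c_def]; group
    rw [e, h2, mul_inv_cancel]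
  have hN : b⁻¹ * r' ∈ NN V F :=
    (hF.c_mem_F_iff hwV hwE (mul_mem (inv_mem (s.BW hbB)) hr'W)).1 (by rw [hbr]; exact one_mem _)
  -- `b' = x b x⁻¹ = a m`, `a ∈ V ∩ B`, `m ∈ N^x`
  obtain ⟨f, hf, hfb⟩ := bh.exists_conjI_mul hxi (badX_inv hb) hbB
  rw [mem_conj, inv_inv] at hf
  -- `a = x f x⁻¹`, `a⁻¹ r = x (f⁻¹ b) (b⁻¹ r') x⁻¹ ∈ N^x ∩ E = F`
  have h1 : (x * f * x⁻¹)⁻¹ * r ∈ EE V F := mul_mem (inv_mem (bh.I_le_E hf)) hrE
  have h2 : (x * f * x⁻¹)⁻¹ * r ∈ MulAut.conj x • NN V F := by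
    rw [mem_conj]
    have e : x⁻¹ * ((x * f * x⁻¹)⁻¹ * r) * x = (f⁻¹ * b) * (b⁻¹ * r') := by rw [hrr]; group
    rw [e]
    exact mul_mem hfb hN
  have h3 : (x * f * x⁻¹)⁻¹ * r ∈ F := by
    rw [← hF.E_inf_conjNN hx hb]
    exact mem_inf.2 ⟨h1, h2⟩
  obtain ⟨q, hq, hqF⟩ := n.I _ hf
  refine ⟨q, hq, ?_⟩
  have e : q⁻¹ * r = (q⁻¹ * (x * f * x⁻¹)) * ((x * f * x⁻¹)⁻¹ * r) := by group
  rw [e]
  exact mul_mem hqF h3

end Cfsg.Agent.Omega.NOThreeL.RLow.CER
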