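import Cfsg.Agent.Omega.FFThmM

/-!
# THEOREM R-LOW (#21762), (3a): the abstract end

`A ≤ T` an offender on `V`, `V / D` a sum of natural modules or of even-subset modules, `A` faithful on `V / D`,
`[V, A] ≤ R ≤ V`.  Then `|A : C_A(V)| ≤ |R : R ∩ D|` (`nat_card_le`, `sym_card_le`).

`Trv V A R` : `A` acts on `V` as a group of transvections with one axis and centre `R`, `|R| ≤ |A : C_A(V)|`; then
`A` is an offender (`Trv.offM`) and `R ∩ D = 1` (`Trv.false_nat`, `Trv.false_sym`) = (3a).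
-/

set_option autoImplicit false

namespace Cfsg.Agent.Omega.NOThreeL.RLow

open Subgroup Cfsg Cfsg.Agent.Omega.FFThm
open Cfsg.Agent.Omega.NatPair (ap)
open Cfsg.Agent.Lib.SL2Mat

universe u

variable {G : Type u} [Group G]

/-! ### Two counting lemmas -/

theorem card_le_of_fun [Finite G] {A C : Subgroup G} {X : Type*} [Finite X] (φ : A → X)
    (h : ∀ a b : A, φ a = φ b → (a : G)⁻¹ * b ∈ C) :
    Nat.card A ≤ Nat.card ↥(A ⊓ C) * Nat.card X := by
  have h1 : C.relIndex A ≤ Nat.card X := by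
    rw [relIndex, index]
    refine Nat.card_le_card_of_injective (fun q : A ⧸ C.subgroupOf A => φ q.out) ?_
    intro x y hxy
    have h2 := h _ _ hxy
    have h3 : (x.out : A ⧸ C.subgroupOf A) = y.out := by
      rw [QuotientGroup.eq, mem_subgroupOf]
      exact h2
    rwa [QuotientGroup.out_eq', QuotientGroup.out_eq'] at h3
  have h2 : C.relIndex A * Nat.card ↥(A ⊓ C) = Nat.card A := by
    have e := relIndex_inf_mul_relIndex (⊥ : Subgroup G) C A
    rw [relIndex_bot_left, bot_inf_eq, relIndex_bot_left, mul_comm, inf_comm] at e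
    exact e
  rw [← h2, mul_comm]
  exact Nat.mul_le_mul_left _ h1

theorem card_ge_of_fun [Finite G] {R D : Subgroup G} {X : Type*} [Finite X] (ψ : X → R)
    (h : ∀ x y : X, ((ψ x : G))⁻¹ * ψ y ∈ D → x = y) :
    Nat.card X * Nat.card ↥(R ⊓ D) ≤ Nat.card R := by
  have h1 : Nat.card X ≤ D.relIndex R := by
    rw [relIndex, index]
    refine Nat.card_le_card_of_injective (fun x : X => ((ψ x : R) : R ⧸ D.subgroupOf R)) ?_
    intro x y hxy
    have h2 : ((ψ x : R) : R ⧸ D.subgroupOf R) = (ψ y : R) := hxy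
    rw [QuotientGroup.eq, mem_subgroupOf] at h2
    exact h x y h2
  have h2 : D.relIndex R * Nat.card ↥(R ⊓ D) = Nat.card R := by
    have e := relIndex_inf_mul_relIndex (⊥ : Subgroup G) D R
    rw [relIndex_bot_left, bot_inf_eq, relIndex_bot_left, mul_comm, inf_comm] at e
    exact e
  rw [← h2]
  exact Nat.mul_le_mul_right _ h1

/-- the abstract inequality -/
theorem card_le_card [Finite G] {A C R D : Subgroup G} {X : Type*} [Finite X] (φ : A → X)
    (h : ∀ a b : A, φ a = φ b → (a : G)⁻¹ * b ∈ C) (ψ : X → R)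
    (h' : ∀ x y : X, ((ψ x : G))⁻¹ * ψ y ∈ D → x = y) :
    Nat.card A * Nat.card ↥(R ⊓ D) ≤ Nat.card ↥(A ⊓ C) * Nat.card R := by
  calc Nat.card A * Nat.card ↥(R ⊓ D) ≤ Nat.card ↥(A ⊓ C) * Nat.card X * Nat.card ↥(R ⊓ D) :=
        Nat.mul_le_mul_right _ (card_le_of_fun φ h)
    _ = Nat.card ↥(A ⊓ C) * (Nat.card X * Nat.card ↥(R ⊓ D)) := by ring
    _ ≤ _ := Nat.mul_le_mul_left _ (card_ge_of_fun ψ h')

/-! ### Natural modules -/

section nat

variable {F : Type} [Field F] [Finite F] {T H V D A R : Subgroup G} {k : ℕ}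

theorem nat_card_le [Finite G] (N : NatKM F T H V D k) (hAT : A ≤ T) (ho : OffM V A)
    (hn : ∀ a ∈ A, ∀ v ∈ V, a * v * a⁻¹ ∈ V) (hRV : R ≤ V)
    (hR : ∀ a ∈ A, ∀ v ∈ V, a * v * a⁻¹ * v⁻¹ ∈ R)
    (hf : ∀ a ∈ A, (∀ v ∈ V, N.e (a * v * a⁻¹) = N.e v) → a ∈ centralizer (V : Set G)) :
    Nat.card A * Nat.card ↥(R ⊓ D) ≤ Nat.card ↥(A ⊓ centralizer (V : Set G)) * Nat.card R := by
  classical
  obtain ⟨I, h1, h2⟩ := N.offM A hAT ho
  have e1 : N.e 1 = 0 := by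
    have := N.mul 1 V.one_mem 1 V.one_mem
    rw [mul_one] at this
    exact left_eq_add.1 this
  have einv : ∀ v ∈ V, N.e v⁻¹ = - N.e v := by
    intro v hv
    have := N.mul v hv v⁻¹ (V.inv_mem hv)
    rw [mul_inv_cancel, e1] at this
    exact (neg_eq_of_add_eq_zero_right this.symm).symm
  let X : Type := {b : Fin k → F // ∀ i, i ∉ I → b i = 0}
  have hX : Finite X := inferInstanceAs (Finite {b : Fin k → F // ∀ i, i ∉ I → b i = 0})
  choose bb hb0 hb using h1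
  choose aa haA haa using h2
  obtain ⟨v₁, hv₁, ev₁⟩ := N.surj fun _ => ![0, 1]
  have hψ : ∀ x : X, aa x.1 x.2 * v₁ * (aa x.1 x.2)⁻¹ * v₁⁻¹ ∈ R := fun x => hR _ (haA _ _) _ hv₁
  have eψ : ∀ x : X, ∀ i, N.e (aa x.1 x.2 * v₁ * (aa x.1 x.2)⁻¹ * v₁⁻¹) i 0 = x.1 i := by
    intro x i
    rw [N.mul _ (hn _ (haA _ _) _ hv₁) _ (V.inv_mem hv₁), einv _ hv₁, Pi.add_apply, Pi.neg_apply,
      (haa x.1 x.2).1 _ hv₁ i, ev₁, Pi.add_apply, Pi.neg_apply, NatPair.ap_zero', up_00, up_01]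
    simp
  refine card_le_card (X := X) (fun a => ⟨bb a a.2, hb0 a a.2⟩) ?_ (fun x => ⟨_, hψ x⟩) ?_
  · intro a b hab
    have hab' : bb a a.2 = bb b b.2 := congrArg Subtype.val hab
    refine hf _ (A.mul_mem (A.inv_mem a.2) b.2) fun v hv => ?_
    have hw : (a : G)⁻¹ * ((b : G) * v * (b : G)⁻¹) * (a : G)⁻¹⁻¹ ∈ V := hn _ (A.inv_mem a.2) _ (hn _ b.2 _ hv)
    have e2 : (a : G)⁻¹ * b * v * ((a : G)⁻¹ * b)⁻¹ = (a : G)⁻¹ * ((b : G) * v * (b : G)⁻¹) * (a : G)⁻¹⁻¹ := by group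
    rw [e2]
    funext i
    have h3 := (hb a a.2).1 _ hw i
    have e3 : (a : G) * ((a : G)⁻¹ * ((b : G) * v * (b : G)⁻¹) * (a : G)⁻¹⁻¹) * (a : G)⁻¹ = (b : G) * v * (b : G)⁻¹ := by group
    rw [e3, (hb b b.2).1 _ hv i, hab'] at h3
    have h4 := congrArg (ap (up (bb b b.2 i))⁻¹) h3
    rw [NatPair.ap_inv_ap, NatPair.ap_inv_ap] at h4
    exact h4.symm
  · intro x y hxy
    have hx := hRV (hψ x)
    have hy := hRV (hψ y)
    have h3 := (N.ker _ (V.mul_mem (V.inv_mem hx) hy)).2 hxy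
    rw [N.mul _ (V.inv_mem hx) _ hy, einv _ hx, neg_add_eq_zero] at h3
    apply Subtype.ext
    funext i
    rw [← eψ x i, ← eψ y i, h3]

end nat

/-! ### Even-subset modules -/

section sym

variable {T H V D A R : Subgroup G} {k m : ℕ}

/-- half of the support of an involution with the fixed point `0` -/
theorem exists_half {n : ℕ} (τ : Equiv.Perm (Fin (n + 1))) (h0 : τ 0 = 0) (h2 : ∀ x, τ (τ x) = x) :
    ∃ y : Fin (n + 1) → ZMod 2, ∑ x, y x = 0 ∧ ∀ x, y (τ x) + y x = if τ x = x then 0 else 1 := by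
  classical
  let y₀ : Fin (n + 1) → ZMod 2 := fun x => if x < τ x then 1 else 0
  refine ⟨fun x => y₀ x + if x = 0 then ∑ z, y₀ z else 0, ?_, fun x => ?_⟩
  · rw [Finset.sum_add_distrib, Finset.sum_ite_eq' Finset.univ (0 : Fin (n + 1)) (fun _ => ∑ z, y₀ z),
      if_pos (Finset.mem_univ _), CharTwo.add_self_eq_zero]
  · by_cases hx : τ x = x
    · rw [if_pos hx, hx, CharTwo.add_self_eq_zero]
    · rw [if_neg hx]
      have hx0 : x ≠ 0 := fun h => hx (by rw [h, h0])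
      have hx0' : τ x ≠ 0 := fun h => hx0 (by rw [← h2 x, h, h0])
      change (y₀ (τ x) + if τ x = 0 then ∑ z, y₀ z else 0) + (y₀ x + if x = 0 then ∑ z, y₀ z else 0) = 1
      rw [if_neg hx0, if_neg hx0', add_zero, add_zero]
      simp only [y₀, h2]
      rcases lt_or_gt_of_ne hx with h | h
      · rw [if_pos h, if_neg (not_lt.2 h.le), add_zero]
      · rw [if_neg (not_lt.2 h.le), if_pos h, zero_add]

/-- two points of one block are separated by an element of `V` -/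
theorem eq_of_not_sep (hm : 1 ≤ m) (N : SymK T H V D k m) (i : Fin k) {a b : Fin (2 ^ m + 1)}
    (h : ∀ v ∈ V, N.e v i a = N.e v i b) : a = b := by
  classical
  by_contra hab
  obtain ⟨c, hca, hcb⟩ : ∃ c : Fin (2 ^ m + 1), c ≠ a ∧ c ≠ b := by
    by_contra hcon
    push Not at hcon
    have h1 : (Finset.univ : Finset (Fin (2 ^ m + 1))) ⊆ {a, b} := by
      intro x _
      rw [Finset.mem_insert, Finset.mem_singleton]
      by_cases hx : x = a
      · exact Or.inl hx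
      · exact Or.inr (hcon x hx)
    have h2 := (Finset.card_le_card h1).trans Finset.card_le_two
    rw [Finset.card_univ, Fintype.card_fin] at h2
    have h3 : 2 ^ 1 ≤ 2 ^ m := Nat.pow_le_pow_right (by norm_num) hm
    omega
  obtain ⟨v, hv, ev⟩ := N.surj (fun j x => if j = i then (Pi.single a 1 + Pi.single c 1 : Fin (2 ^ m + 1) → ZMod 2) x else 0) (by
    intro j
    by_cases hj : j = i
    · simp only [hj, if_true, Pi.add_apply]
      rw [Finset.sum_add_distrib, Finset.sum_pi_single', Finset.sum_pi_single']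
      simp [CharTwo.add_self_eq_zero]
    · simp [hj])
  have h1 := h v hv
  rw [ev] at h1
  simp only [if_true, Pi.add_apply, Pi.single_apply] at h1
  rw [if_neg hca.symm, if_neg (Ne.symm hab), if_neg hcb.symm] at h1
  simp at h1

theorem sym_card_le [Finite G] (hm : 1 ≤ m) (N : SymKM T H V D k m) (hAT : A ≤ T) (ho : OffM V A)
    (hn : ∀ a ∈ A, ∀ v ∈ V, a * v * a⁻¹ ∈ V) (hRV : R ≤ V)
    (hR : ∀ a ∈ A, ∀ v ∈ V, a * v * a⁻¹ * v⁻¹ ∈ R)
    (hf : ∀ a ∈ A, (∀ v ∈ V, N.e (a * v * a⁻¹) = N.e v) → a ∈ centralizer (V : Set G)) :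
    Nat.card A * Nat.card ↥(R ⊓ D) ≤ Nat.card ↥(A ⊓ centralizer (V : Set G)) * Nat.card R := by
  classical
  obtain ⟨-, h1⟩ := N.offM A hAT ho
  have e1 : N.e 1 = 0 := by
    have := N.mul 1 V.one_mem 1 V.one_mem
    rw [mul_one] at this
    exact left_eq_add.1 this
  have einv : ∀ v ∈ V, N.e v⁻¹ = N.e v := by
    intro v hv
    have := N.mul v hv v⁻¹ (V.inv_mem hv)
    rw [mul_inv_cancel, e1] at this
    have h2 := neg_eq_of_add_eq_zero_right this.symm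
    rw [← h2]
    funext i x
    rw [Pi.neg_apply, Pi.neg_apply, CharTwo.neg_eq]
  let X : Type := {τ : Fin k → Equiv.Perm (Fin (2 ^ m + 1)) // ∃ a ∈ A, ActsSym N.e V a 1 τ ∧
    ∀ i x, τ i x ≠ x → τ i (τ i x) = x ∧ ∃ b ∈ A, ActsSym N.e V b 1 (Function.update 1 i (Equiv.swap x (τ i x)))}
  have hX : Finite X := inferInstanceAs (Finite {τ : Fin k → Equiv.Perm (Fin (2 ^ m + 1)) //
    ∃ a ∈ A, ActsSym N.e V a 1 τ ∧
    ∀ i x, τ i x ≠ x → τ i (τ i x) = x ∧ ∃ b ∈ A, ActsSym N.e V b 1 (Function.update 1 i (Equiv.swap x (τ i x)))})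
  choose tt ht0 ht1 using h1
  have h2 : ∀ τ : X, ∃ r ∈ R, ∀ i x, N.e r i x = if τ.1 i x = x then 0 else 1 := by
    rintro ⟨τ, a, haA, ha, hτ⟩
    have hinv : ∀ i x, τ i (τ i x) = x := by
      intro i x
      by_cases h : τ i x = x
      · rw [h, h]
      · exact (hτ i x h).1
    have h0 := N.fix0 a (hAT haA) 1 τ ha
    choose y hy0 hy using fun i => exists_half (τ i) (h0 i) (hinv i)
    obtain ⟨v, hv, ev⟩ := N.surj y hy0
    refine ⟨_, hR a haA v hv, fun i x => ?_⟩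
    rw [N.mul _ (hn _ haA _ hv) _ (V.inv_mem hv), einv _ hv, Pi.add_apply, Pi.add_apply]
    have h3 := ha v hv i (τ i x)
    rw [hinv, Equiv.Perm.one_apply] at h3
    rw [h3, ev, hy i x]
  choose r hrR hr using h2
  refine card_le_card (X := X) (fun a => ⟨tt a a.2, a, a.2, ht0 a a.2, ht1 a a.2⟩) ?_ (fun x => ⟨r x, hrR x⟩) ?_
  · intro a b hab
    have hab' : tt a a.2 = tt b b.2 := congrArg Subtype.val hab
    refine hf _ (A.mul_mem (A.inv_mem a.2) b.2) fun v hv => ?_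
    have hw : (a : G)⁻¹ * ((b : G) * v * (b : G)⁻¹) * (a : G)⁻¹⁻¹ ∈ V := hn _ (A.inv_mem a.2) _ (hn _ b.2 _ hv)
    have e2 : (a : G)⁻¹ * b * v * ((a : G)⁻¹ * b)⁻¹ = (a : G)⁻¹ * ((b : G) * v * (b : G)⁻¹) * (a : G)⁻¹⁻¹ := by group
    rw [e2]
    funext i x
    have h3 := ht0 a a.2 _ hw i x
    have e3 : (a : G) * ((a : G)⁻¹ * ((b : G) * v * (b : G)⁻¹) * (a : G)⁻¹⁻¹) * (a : G)⁻¹ = (b : G) * v * (b : G)⁻¹ := by group
    rw [e3, hab', ht0 b b.2 v hv i x] at h3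
    exact h3.symm
  · intro τ τ' hxy
    have hx := hRV (hrR τ)
    have hy := hRV (hrR τ')
    have h3 := (N.ker _ (V.mul_mem (V.inv_mem hx) hy)).2 hxy
    rw [N.mul _ (V.inv_mem hx) _ hy, einv _ hx] at h3
    have h4 : N.e (r τ) = N.e (r τ') := by
      funext i x
      have := congrFun (congrFun h3 i) x
      rw [Pi.add_apply, Pi.add_apply] at this
      exact CharTwo.add_eq_zero.1 this
    -- the supports agree
    have h5 : ∀ i x, τ.1 i x = x ↔ τ'.1 i x = x := by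
      intro i x
      have h6 := congrFun (congrFun h4 i) x
      rw [hr τ i x, hr τ' i x] at h6
      by_cases e2 : τ.1 i x = x
      · rw [if_pos e2] at h6
        refine ⟨fun _ => ?_, fun _ => e2⟩
        by_contra e3
        rw [if_neg e3] at h6
        exact zero_ne_one h6
      · rw [if_neg e2] at h6
        refine ⟨fun h => absurd h e2, fun h => ?_⟩
        rw [if_pos h] at h6
        exact absurd h6 one_ne_zero
    obtain ⟨τ, a, haA, ha, hτ⟩ := τ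
    obtain ⟨τ', a', haA', ha', hτ'⟩ := τ'
    apply Subtype.ext
    funext i
    ext1 x
    change τ i x = τ' i x
    by_cases hx1 : τ i x = x
    · rw [hx1]
      exact ((h5 i x).1 hx1).symm
    have hx2 : τ' i x ≠ x := fun h => hx1 ((h5 i x).2 h)
    by_contra hne
    obtain ⟨-, b, hbA, hb⟩ := hτ i x hx1
    obtain ⟨-, b', hbA', hb'⟩ := hτ' i x hx2
    set s := Equiv.swap x (τ i x) with hs
    set s' := Equiv.swap x (τ' i x) with hs'
    have act : ∀ {b : G} {s : Equiv.Perm (Fin (2 ^ m + 1))}, b ∈ A → ActsSym N.e V b 1 (Function.update 1 i s) →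
        ∀ v ∈ V, ∀ z, N.e (b * v * b⁻¹) i (s z) = N.e v i z := by
      intro b s _ hb v hv z
      have := hb v hv i z
      rwa [Function.update_self] at this
    have hcomm : ∀ z, s (s' z) = s' (s z) := by
      intro z
      refine eq_of_not_sep hm N.toSymK i fun w hw => ?_
      -- `w = (b b') v (b b')⁻¹`
      have hv : b'⁻¹ * (b⁻¹ * w * b⁻¹⁻¹) * b'⁻¹⁻¹ ∈ V := hn _ (A.inv_mem hbA') _ (hn _ (A.inv_mem hbA) _ hw)
      set v := b'⁻¹ * (b⁻¹ * w * b⁻¹⁻¹) * b'⁻¹⁻¹ with hv'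
      have e2 : b * (b' * v * b'⁻¹) * b⁻¹ = w := by rw [hv']; group
      have e3 : b' * (b * v * b⁻¹) * b'⁻¹ = w := by
        have h6 := mem_centralizer_iff.1 (ho.comm b hbA b' hbA') _ (hn _ hbA' _ (hn _ hbA _ hv))
        calc b' * (b * v * b⁻¹) * b'⁻¹ = (b * b' * b⁻¹ * b'⁻¹) * (b' * (b * v * b⁻¹) * b'⁻¹) * (b * b' * b⁻¹ * b'⁻¹)⁻¹ := by
              rw [← h6]; group
          _ = b * (b' * v * b'⁻¹) * b⁻¹ := by group
          _ = w := e2
      have h7 : N.e w i (s (s' z)) = N.e v i z := by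
        rw [← e2, act hbA hb _ (hn _ hbA' _ hv), act hbA' hb' _ hv]
      have h8 : N.e w i (s' (s z)) = N.e v i z := by
        rw [← e3, act hbA' hb' _ (hn _ hbA _ hv), act hbA hb _ hv]
      rw [h7, h8]
    have h6 := hcomm x
    have e4 : s x = τ i x := Equiv.swap_apply_left _ _
    have e5 : s' x = τ' i x := Equiv.swap_apply_left _ _
    rw [e4, e5, hs, hs', Equiv.swap_apply_of_ne_of_ne hx2 (Ne.symm hne),
      Equiv.swap_apply_of_ne_of_ne hx1 hne] at h6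
    exact hne h6.symm

end sym

/-! ### (3a) -/

section off

variable {V A R : Subgroup G}

/-- `A` acts on `V` as a group of transvections with centre `R` and one axis -/
structure Trv (V A R : Subgroup G) : Prop where
  Vcomm : ∀ v ∈ V, ∀ w ∈ V, v * w = w * v
  Rsq : ∀ r ∈ R, r * r = 1
  RV : R ≤ V
  RA : ∀ a ∈ A, ∀ r ∈ R, a * r = r * a
  comm : ∀ a ∈ A, ∀ v ∈ V, a * v * a⁻¹ * v⁻¹ ∈ R
  axis : ∀ a ∈ A, a ∉ centralizer (V : Set G) → ∀ v ∈ V, a * v = v * a → ∀ b ∈ A, b * v = v * b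
  ne : ¬ A ≤ centralizer (V : Set G)
  card : Nat.card R * Nat.card ↥(A ⊓ centralizer (V : Set G)) ≤ Nat.card A

namespace Trv

variable (h : Trv V A R)
include h

theorem conj_mem {a v : G} (ha : a ∈ A) (hv : v ∈ V) : a * v * a⁻¹ ∈ V := by
  have h1 := V.mul_mem (h.RV (h.comm a ha v hv)) hv
  rwa [inv_mul_cancel_right] at h1

theorem elemM : ElemM V A := by
  have key : ∀ a ∈ A, ∀ v ∈ V, ∃ r ∈ R, a * v * a⁻¹ = r * v := fun a ha v hv =>
    ⟨_, h.comm a ha v hv, by group⟩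
  have conjR : ∀ a ∈ A, ∀ r ∈ R, a * r * a⁻¹ = r := fun a ha r hr => by
    rw [h.RA a ha r hr, mul_inv_cancel_right]
  refine ⟨fun a ha => ?_, fun a ha b hb => ?_⟩
  · rw [mem_centralizer_iff]
    intro v hv
    obtain ⟨r, hr, e⟩ := key a ha v hv
    have e2 : a ^ 2 * v * (a ^ 2)⁻¹ = v := by
      calc a ^ 2 * v * (a ^ 2)⁻¹ = a * (a * v * a⁻¹) * a⁻¹ := by rw [pow_two]; group
        _ = a * (r * v) * a⁻¹ := by rw [e]
        _ = (a * r * a⁻¹) * (a * v * a⁻¹) := by group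
        _ = r * (r * v) := by rw [conjR a ha r hr, e]
        _ = v := by rw [← mul_assoc, h.Rsq r hr, one_mul]
    rw [mul_inv_eq_iff_eq_mul] at e2
    exact e2.symm
  · rw [mem_centralizer_iff]
    intro v hv
    obtain ⟨r, hr, e⟩ := key a ha v hv
    obtain ⟨s, hs, e'⟩ := key b hb v hv
    have e1 : a * (b * v * b⁻¹) * a⁻¹ = s * r * v := by
      calc a * (b * v * b⁻¹) * a⁻¹ = (a * s * a⁻¹) * (a * v * a⁻¹) := by rw [e']; group
        _ = s * r * v := by rw [conjR a ha s hs, e, mul_assoc]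
    have e2 : b * (a * v * a⁻¹) * b⁻¹ = s * r * v := by
      calc b * (a * v * a⁻¹) * b⁻¹ = (b * r * b⁻¹) * (b * v * b⁻¹) := by rw [e]; group
        _ = r * s * v := by rw [conjR b hb r hr, e', mul_assoc]
        _ = s * r * v := by rw [h.Vcomm r (h.RV hr) s (h.RV hs)]
    -- `c = a b a⁻¹ b⁻¹`, applied to `b a v`
    obtain ⟨w, hw⟩ : ∃ w, w = b * (a * v * a⁻¹) * b⁻¹ := ⟨_, rfl⟩
    have e3 : (a * b * a⁻¹ * b⁻¹) * w * (a * b * a⁻¹ * b⁻¹)⁻¹ = w := by
      calc (a * b * a⁻¹ * b⁻¹) * w * (a * b * a⁻¹ * b⁻¹)⁻¹ = a * (b * v * b⁻¹) * a⁻¹ := by rw [hw]; group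
        _ = w := by rw [e1, hw, e2]
    have hRc : ∀ r ∈ R, (a * b * a⁻¹ * b⁻¹) * r * (a * b * a⁻¹ * b⁻¹)⁻¹ = r := by
      intro r hr
      have i1 := conjR a ha r hr
      have i2 := conjR b hb r hr
      have i3 := conjR a⁻¹ (A.inv_mem ha) r hr
      have i4 := conjR b⁻¹ (A.inv_mem hb) r hr
      calc (a * b * a⁻¹ * b⁻¹) * r * (a * b * a⁻¹ * b⁻¹)⁻¹
          = a * (b * (a⁻¹ * (b⁻¹ * r * b⁻¹⁻¹) * a⁻¹⁻¹) * b⁻¹) * a⁻¹ := by group
        _ = r := by rw [i4, i3, i2, i1]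
    have e4 : v = (s * r)⁻¹ * w := by rw [hw, e2]; group
    have e5 : (a * b * a⁻¹ * b⁻¹) * v * (a * b * a⁻¹ * b⁻¹)⁻¹ = v := by
      have hsr : (s * r)⁻¹ ∈ R := R.inv_mem (R.mul_mem hs hr)
      calc (a * b * a⁻¹ * b⁻¹) * v * (a * b * a⁻¹ * b⁻¹)⁻¹
          = ((a * b * a⁻¹ * b⁻¹) * (s * r)⁻¹ * (a * b * a⁻¹ * b⁻¹)⁻¹) *
            ((a * b * a⁻¹ * b⁻¹) * w * (a * b * a⁻¹ * b⁻¹)⁻¹) := by rw [e4]; group
        _ = v := by rw [hRc _ hsr, e3, ← e4]
    rw [mul_inv_eq_iff_eq_mul] at e5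
    exact e5.symm

theorem offM [Finite G] : OffM V A where
  toElemM := h.elemM
  ne := h.ne
  le := by
    obtain ⟨a, ha, hac⟩ := Set.not_subset.1 h.ne
    -- `|V : C_V(A)| ≤ |R|`
    have h1 : Nat.card V ≤ Nat.card ↥(V ⊓ centralizer (A : Set G)) * Nat.card R := by
      refine card_le_of_fun (X := R) (fun v => ⟨a * v * a⁻¹ * (v : G)⁻¹, h.comm a ha v v.2⟩) ?_
      intro v w hvw
      have e1 : a * v * a⁻¹ * (v : G)⁻¹ = a * w * a⁻¹ * (w : G)⁻¹ := congrArg Subtype.val hvw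
      rw [mem_centralizer_iff]
      have hvwV : (v : G)⁻¹ * w ∈ V := V.mul_mem (V.inv_mem v.2) w.2
      have e2 : a * ((v : G)⁻¹ * w) = (v : G)⁻¹ * w * a := by
        have e3 : a * w * a⁻¹ = a * v * a⁻¹ * (v : G)⁻¹ * w := by rw [e1]; group
        have e4 : a * v * a⁻¹ ∈ V := h.conj_mem ha v.2
        have e5 : a * v * a⁻¹ * ((v : G)⁻¹ * w) = (v : G)⁻¹ * w * (a * v * a⁻¹) := h.Vcomm _ e4 _ hvwV
        calc a * ((v : G)⁻¹ * w) = (a * v * a⁻¹)⁻¹ * (a * w * a⁻¹) * a := by group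
          _ = (a * v * a⁻¹)⁻¹ * (a * v * a⁻¹ * (v : G)⁻¹ * w) * a := by rw [← e3]
          _ = (v : G)⁻¹ * w * a := by group
      exact fun b hb => h.axis a ha hac _ hvwV e2 b hb
    calc Nat.card V * Nat.card ↥(A ⊓ centralizer (V : Set G))
        ≤ Nat.card ↥(V ⊓ centralizer (A : Set G)) * Nat.card R * Nat.card ↥(A ⊓ centralizer (V : Set G)) :=
          Nat.mul_le_mul_right _ h1
      _ = Nat.card ↥(V ⊓ centralizer (A : Set G)) * (Nat.card R * Nat.card ↥(A ⊓ centralizer (V : Set G))) := by ring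
      _ ≤ Nat.card ↥(V ⊓ centralizer (A : Set G)) * Nat.card A := Nat.mul_le_mul_left _ h.card
      _ = _ := mul_comm _ _

omit h in
theorem false_of [Finite G] {D : Subgroup G} (h : Trv V A R)
    (h1 : Nat.card A * Nat.card ↥(R ⊓ D) ≤ Nat.card ↥(A ⊓ centralizer (V : Set G)) * Nat.card R)
    (hRD : R ⊓ D ≠ ⊥) : False := by
  have h2 := h.card
  have h3 : 1 < Nat.card ↥(R ⊓ D) := (Subgroup.one_lt_card_iff_ne_bot _).2 hRD
  have h4 : 0 < Nat.card A := Nat.card_pos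
  have h5 : Nat.card A * Nat.card ↥(R ⊓ D) ≤ Nat.card A := by
    rw [mul_comm (Nat.card ↥(A ⊓ centralizer (V : Set G)))] at h1
    exact h1.trans h2
  have h6 : Nat.card A * 1 < Nat.card A * Nat.card ↥(R ⊓ D) := Nat.mul_lt_mul_of_pos_left h3 h4
  omega

/-- **(3a), natural type.** -/
theorem false_nat [Finite G] {F : Type} [Field F] [Finite F] {T H D : Subgroup G} {k : ℕ} (N : NatKM F T H V D k)
    (hAT : A ≤ T)
    (hf : ∀ a ∈ A, (∀ v ∈ V, N.e (a * v * a⁻¹) = N.e v) → a ∈ centralizer (V : Set G))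
    (hRD : R ⊓ D ≠ ⊥) : False :=
  h.false_of (nat_card_le N hAT h.offM (fun _ ha _ hv => h.conj_mem ha hv) h.RV h.comm hf) hRD

/-- **(3a), symmetric type.** -/
theorem false_sym [Finite G] {T H D : Subgroup G} {k m : ℕ} (hm : 1 ≤ m) (N : SymKM T H V D k m)
    (hAT : A ≤ T)
    (hf : ∀ a ∈ A, (∀ v ∈ V, N.e (a * v * a⁻¹) = N.e v) → a ∈ centralizer (V : Set G))
    (hRD : R ⊓ D ≠ ⊥) : False :=
  h.false_of (sym_card_le hm N hAT h.offM (fun _ ha _ hv => h.conj_mem ha hv) h.RV h.comm hf) hRD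

end Trv

end off

end Cfsg.Agent.Omega.NOThreeL.RLow
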