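import Cfsg.Agent.Omega.NOThreeL.RLow.FFr
import Cfsg.Agent.Omega.All.HOneKer

/-!
# THEOREM R-LOW (#21762), (3a): the group form

`Trv.false_line` : `R` a 2-parabolic over `S` with line `zl S P` of natural or symmetric type, radical `cv S P`; no
subgroup `A ≤ S` acts on `zl S P` as a group of transvections with centre `R`, `|R| ≤ |A : C_A|`, if `R ∩ cv S P ≠ 1`.
-/

set_option autoImplicit false

namespace Cfsg.Agent.Omega.NOThreeL.RLow

open Subgroup Cfsg Cfsg.Agent.ZN Cfsg.Agent.Omega.MinPar Cfsg.Agent.Omega.FrameFF Cfsg.Agent.Omega.FFThm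

universe u

variable {G : Type u} [Group G] [Finite G] {S : Sylow 2 G} {P A R : Subgroup G}

/-- **(3a), natural type, group form.** -/
theorem Trv.false_natS (h : Trv (zl (S : Subgroup G) P) A R) (hG : IsCharacteristicTwoType G)
    (hP : IsParS (S : Subgroup G) P) {F : Type} [Field F] [Finite F] {k : ℕ}
    (N : NatKM F (S : Subgroup G) P (zl (S : Subgroup G) P) (cv (S : Subgroup G) P) k)
    (hAS : A ≤ (S : Subgroup G)) (hRD : R ⊓ cv (S : Subgroup G) P ≠ ⊥) : False := by
  refine h.false_nat N hAS (fun a ha hc => ?_) hRD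
  rw [mem_centralizer_iff]
  intro v hv
  refine (All.HOne.comm_of_sec hG S hP (hAS ha) (fun w hw => ?_) v hv).symm
  have h1 := h.conj_mem ha hw
  rw [← N.ker _ (mul_mem h1 (inv_mem hw))]
  have e1 : N.e 1 = 0 := (N.ker 1 (one_mem _)).2 (one_mem _)
  have e2 : N.e w⁻¹ = - N.e w := by
    have := N.mul w hw w⁻¹ (inv_mem hw)
    rw [mul_inv_cancel, e1] at this
    exact (neg_eq_of_add_eq_zero_right this.symm).symm
  rw [N.mul _ h1 _ (inv_mem hw), hc w hw, e2, add_neg_cancel]

/-- **(3a), symmetric type, group form.** -/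
theorem Trv.false_symS (h : Trv (zl (S : Subgroup G) P) A R) (hG : IsCharacteristicTwoType G)
    (hP : IsParS (S : Subgroup G) P) {k m : ℕ} (hm : 1 ≤ m)
    (N : SymKM (S : Subgroup G) P (zl (S : Subgroup G) P) (cv (S : Subgroup G) P) k m)
    (hAS : A ≤ (S : Subgroup G)) (hRD : R ⊓ cv (S : Subgroup G) P ≠ ⊥) : False := by
  refine h.false_sym hm N hAS (fun a ha hc => ?_) hRD
  rw [mem_centralizer_iff]
  intro v hv
  refine (All.HOne.comm_of_sec hG S hP (hAS ha) (fun w hw => ?_) v hv).symm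
  have h1 := h.conj_mem ha hw
  rw [← N.ker _ (mul_mem h1 (inv_mem hw))]
  have e1 : N.e 1 = 0 := (N.ker 1 (one_mem _)).2 (one_mem _)
  have e2 : N.e w⁻¹ = - N.e w := by
    have := N.mul w hw w⁻¹ (inv_mem hw)
    rw [mul_inv_cancel, e1] at this
    exact (neg_eq_of_add_eq_zero_right this.symm).symm
  rw [N.mul _ h1 _ (inv_mem hw), hc w hw, e2, add_neg_cancel]

/-- **(3a)** for a line of natural or symmetric type. -/
theorem Trv.false_line (h : Trv (zl (S : Subgroup G) P) A R) (hG : IsCharacteristicTwoType G)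
    (hP : IsParS (S : Subgroup G) P) (hc : ConclM (S : Subgroup G) P)
    (hAS : A ≤ (S : Subgroup G)) (hRD : R ⊓ cv (S : Subgroup G) P ≠ ⊥) : False := by
  rcases hc with ⟨F, _, _, _, k, -, ⟨N⟩⟩ | ⟨k, m, -, hm, ⟨N⟩⟩
  · exact h.false_natS hG hP N hAS hRD
  · exact h.false_symS hG hP (by omega) N hAS hRD

end Cfsg.Agent.Omega.NOThreeL.RLow
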