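import Cfsg.Agent.Omega.NOThreeL.RLow.KOneB
import Cfsg.Agent.Omega.NOThreeL.RLow.FFrS
import Cfsg.Agent.Omega.NOThreeL.RLow.Defs
import Cfsg.Agent.Omega.FFBr.FinalM
import Cfsg.Agent.MinSimple.CaseD8
import Cfsg.Agent.Omega.NOThreeL.RA.Shape

/-!
# THEOREM R-LOW (#21762), (3) = `StR3`: `k = 1` is impossible if there is a radical line

* `exists_syl_act` : a group acting on `V'` inside `Hom(V' / W, W)` acts as its Sylow 2-subgroup;
* `InA` : the hypotheses; `Ys` : the elements acting on `A = V_R R₁` as `1 + α`, `α : A / R₁ → R₁`;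
* `InA.le_cent` : (HOM), if `Ys` centralises `A` then `V_R ≤ R₁`;
* `InA.trv` : otherwise `S` contains a group acting on `V_R` as `F_q α` (`Trv`);
* `InA.false`, **`r3 : StR3`**.
-/

set_option autoImplicit false

namespace Cfsg.Agent.Omega.NOThreeL.RLow.KOne

open Subgroup Cfsg Cfsg.Agent.ZN Cfsg.Agent.ZN.ChoiceBase Cfsg.Agent.ZN.ChoiceSit
open Cfsg.Agent.Omega.MinPar
open Cfsg.Agent.Omega.IId.MixedK (conj_comm comm_conj)
open Cfsg.Agent.Omega.IId.KOne (conj_cent syl_inf syl_le)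
open Cfsg.Agent.Omega.FrameFF (cv)
open Cfsg.Agent.Omega.FFThm (NatK NatKM SymKM ActsSL OffM)
open Cfsg.Agent.Omega.Half (Amb amb_of_loc)
open Cfsg.Agent.Omega.NOThreeL.NF
open Cfsg.Agent.Omega.NOThreeL.NF.NatR

universe u

section abs

variable {G : Type u} [Group G] [Finite G]

/-- A group which acts on `V'` inside `Hom(V' / W, W)` acts as its Sylow 2-subgroup. -/
theorem exists_syl_act {K₀ T₀ V' W : Subgroup G} (hT : Syl T₀ K₀) (hVc : ∀ v ∈ V', ∀ w ∈ V', v * w = w * v)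
    (hW : W ≤ V') (hsq : ∀ w ∈ W, w * w = 1) (h1 : ∀ g ∈ K₀, ∀ v ∈ V', g * v * g⁻¹ * v⁻¹ ∈ W)
    (h2 : ∀ g ∈ K₀, ∀ w ∈ W, g * w = w * g) {g : G} (hg : g ∈ K₀) :
    ∃ t ∈ T₀, ∀ v ∈ V', g * v * g⁻¹ = t * v * t⁻¹ := by
  -- the cocycle is additive
  have hadd : ∀ a ∈ K₀, ∀ b ∈ K₀, ∀ v ∈ V', a * b * v * (a * b)⁻¹ * v⁻¹ =
      (a * v * a⁻¹ * v⁻¹) * (b * v * b⁻¹ * v⁻¹) := by
    intro a ha b hb v hv
    have hw := h1 b hb v hv
    have h3 := comm_conj (h2 a ha _ hw)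
    have h4 : a * v * a⁻¹ * v⁻¹ ∈ W := h1 a ha v hv
    calc a * b * v * (a * b)⁻¹ * v⁻¹ = (a * (b * v * b⁻¹ * v⁻¹) * a⁻¹) * (a * v * a⁻¹ * v⁻¹) := by group
      _ = (b * v * b⁻¹ * v⁻¹) * (a * v * a⁻¹ * v⁻¹) := by rw [h3]
      _ = _ := hVc _ (hW hw) _ (hW h4)
  have hpow : ∀ (n : ℕ), ∀ v ∈ V', g ^ n * v * (g ^ n)⁻¹ * v⁻¹ = (g * v * g⁻¹ * v⁻¹) ^ n := by
    intro n
    induction n with
    | zero => intro v _; simp
    | succ n ih =>
      intro v hv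
      rw [pow_succ, hadd _ (pow_mem hg n) _ hg v hv, ih v hv, pow_succ]
  obtain ⟨a, m, hm, ho⟩ := Nat.exists_eq_two_pow_mul_odd (orderOf_pos g).ne'
  have hgm : g ^ m ∈ K₀ := pow_mem hg m
  have hp : IsPGroup 2 (zpowers (g ^ m)) := by
    refine IsPGroup.of_card (n := a) ?_
    rw [Nat.card_zpowers, orderOf_pow_of_dvd hm.pos.ne' ⟨2 ^ a, by rw [ho]; ring⟩, ho]
    exact Nat.mul_div_cancel _ hm.pos
  obtain ⟨Q, hQ, hgQ⟩ := exists_syl hp ((zpowers_le).2 hgm)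
  obtain ⟨y, hy, hyQ⟩ := syl_conj hQ hT
  refine ⟨y * g ^ m * y⁻¹, by rw [← hyQ]; exact ⟨g ^ m, hgQ (mem_zpowers _), rfl⟩, fun v hv => ?_⟩
  have h3 : y * g ^ m * y⁻¹ * v * (y * g ^ m * y⁻¹)⁻¹ * v⁻¹ = g * v * g⁻¹ * v⁻¹ := by
    have hyi := inv_mem hy
    have e1 : y * v * y⁻¹ * v⁻¹ * (y⁻¹ * v * y⁻¹⁻¹ * v⁻¹) = 1 := by
      rw [← hadd y hy _ hyi v hv]; group
    have hc : (g ^ m * v * (g ^ m)⁻¹ * v⁻¹) = g * v * g⁻¹ * v⁻¹ := by
      rw [hpow m v hv]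
      obtain ⟨j, hj⟩ := hm
      rw [hj, pow_add, pow_mul, pow_two, hsq _ (h1 g hg v hv), one_pow, one_mul, pow_one]
    rw [hadd _ (mul_mem hy hgm) _ hyi v hv, hadd _ hy _ hgm v hv, hc]
    have hw1 := hW (h1 y hy v hv)
    have hw2 := hW (h1 g hg v hv)
    calc (y * v * y⁻¹ * v⁻¹) * (g * v * g⁻¹ * v⁻¹) * (y⁻¹ * v * y⁻¹⁻¹ * v⁻¹)
        = (g * v * g⁻¹ * v⁻¹) * (y * v * y⁻¹ * v⁻¹) * (y⁻¹ * v * y⁻¹⁻¹ * v⁻¹) := by rw [hVc _ hw1 _ hw2]
      _ = g * v * g⁻¹ * v⁻¹ := by rw [mul_assoc, e1, mul_one]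
  exact (mul_right_cancel h3).symm

end abs

/-! ### The situation -/

/-- The hypotheses of (3). -/
structure InA {G : Type u} [Group G] [Finite G] (S : Sylow 2 G) (P R F V : Subgroup G) {K : Type} [Field K]
    (N : NatKM K (S : Subgroup G) P (zl (S : Subgroup G) P) ⊥ 1) : Prop where
  hc : IsCharacteristicTwoType G
  hP : IsParS (S : Subgroup G) P
  hR : IsParS (S : Subgroup G) R
  ex : zc (S : Subgroup G) ⊓ centralizer (R : Set G) ≠ ⊥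
  comm : ∀ a ∈ V, ∀ b ∈ V, a * b = b * a
  sq : ∀ a ∈ V, a * a = 1
  UV : zl (S : Subgroup G) P ≤ V
  lV : zl (S : Subgroup G) R ≤ V
  FV : F ≤ V
  I : ∀ a ∈ zl (S : Subgroup G) R, ∃ r ∈ ln N Set.univ, r⁻¹ * a ∈ F
  RF : ∀ r ∈ ln N Set.univ, r ∈ F → r = 1
  tor : ∀ l : K, l ≠ 0 → ∃ g ∈ centralizer (F : Set G), ∀ r ∈ ln N Set.univ,
    g * r * g⁻¹ ∈ ln N Set.univ ∧ N.e (g * r * g⁻¹) 0 0 = l * N.e r 0 0
  big : 2 < Nat.card K

namespace InA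

variable {G : Type u} [Group G] [Finite G] {S : Sylow 2 G} {P R F V : Subgroup G} {K : Type} [Field K]
  {N : NatKM K (S : Subgroup G) P (zl (S : Subgroup G) P) ⊥ 1}

/-- `A = V_R R₁` -/
def AA (R : Subgroup G) (N : NatKM K (S : Subgroup G) P (zl (S : Subgroup G) P) ⊥ 1) : Subgroup G :=
  zl (S : Subgroup G) R ⊔ ln N Set.univ

/-- the elements of `N(A) ∩ N(R₁)` acting on `A` as `1 + α`, `α : A / R₁ → R₁` -/
def Ys (R : Subgroup G) (N : NatKM K (S : Subgroup G) P (zl (S : Subgroup G) P) ⊥ 1) : Subgroup G where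
  carrier := {c | (c ∈ normalizer (AA R N : Set G) ⊓ normalizer (ln N Set.univ : Set G)) ∧
    (∀ v ∈ AA R N, c * v * c⁻¹ * v⁻¹ ∈ ln N Set.univ) ∧ ∀ r ∈ ln N Set.univ, c * r = r * c}
  mul_mem' := by
    rintro a b ⟨ha, ha1, ha2⟩ ⟨hb, hb1, hb2⟩
    refine ⟨mul_mem ha hb, fun v hv => ?_, fun r hr => ?_⟩
    · have h1 := hb1 v hv
      have h2 := comm_conj (ha2 _ h1)
      have e1 : a * b * v * (a * b)⁻¹ * v⁻¹ = (a * (b * v * b⁻¹ * v⁻¹) * a⁻¹) * (a * v * a⁻¹ * v⁻¹) := by group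
      rw [e1, h2]
      exact mul_mem h1 (ha1 v hv)
    · rw [mul_assoc, hb2 r hr, ← mul_assoc, ha2 r hr, mul_assoc]
  one_mem' := ⟨one_mem _, fun v _ => by
    have e1 : (1 : G) * v * 1⁻¹ * v⁻¹ = 1 := by group
    rw [e1]; exact one_mem _, fun r _ => by rw [one_mul, mul_one]⟩
  inv_mem' := by
    rintro a ⟨ha, ha1, ha2⟩
    have ha3 : ∀ r ∈ ln N Set.univ, a⁻¹ * r = r * a⁻¹ := fun r hr => by
      have := ha2 r hr
      calc a⁻¹ * r = a⁻¹ * (r * a) * a⁻¹ := by group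
        _ = a⁻¹ * (a * r) * a⁻¹ := by rw [this]
        _ = r * a⁻¹ := by group
    refine ⟨inv_mem ha, fun v hv => ?_, ha3⟩
    have h1 := inv_mem (ha1 v hv)
    have h2 := comm_conj (ha3 _ h1)
    have e1 : a⁻¹ * (a * v * a⁻¹ * v⁻¹)⁻¹ * a⁻¹⁻¹ = a⁻¹ * v * a⁻¹⁻¹ * v⁻¹ := by group
    rw [e1] at h2
    rw [h2]
    exact h1

theorem mem_Ys {c : G} : c ∈ Ys R N ↔ (c ∈ normalizer (AA R N : Set G) ⊓ normalizer (ln N Set.univ : Set G)) ∧
    (∀ v ∈ AA R N, c * v * c⁻¹ * v⁻¹ ∈ ln N Set.univ) ∧ ∀ r ∈ ln N Set.univ, c * r = r * c := Iff.rfl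

variable (h : InA S P R F V N)
include h

theorem amb : Amb (S : Subgroup G) P (zl (S : Subgroup G) P) := amb_of_loc h.hc S h.hP.isLoc

theorem ambR : Amb (S : Subgroup G) R (zl (S : Subgroup G) R) := amb_of_loc h.hc S h.hR.isLoc

theorem rV : ln N Set.univ ≤ V := (ln_le _).trans h.UV

theorem AV : AA R N ≤ V := sup_le h.lV h.rV

omit h in
theorem lA : zl (S : Subgroup G) R ≤ AA R N := le_sup_left

omit h in
theorem rA : ln N Set.univ ≤ AA R N := le_sup_right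

theorem SA : (S : Subgroup G) ≤ normalizer (AA R N : Set G) := by
  have h1 : (S : Subgroup G) ≤ normalizer (zl (S : Subgroup G) R : Set G) := h.ambR.TH.trans h.ambR.HV
  have h2 := norm_root (N := N) h.amb
  intro s hs
  rw [mem_normalizer_iff_cj]
  rw [AA, cj, Subgroup.map_sup]
  have e1 := mem_normalizer_iff_cj.1 (h1 hs)
  have e2 := mem_normalizer_iff_cj.1 (h2 hs)
  rw [cj] at e1 e2
  rw [e1, e2]

/-- `A = R₁ (A ∩ F)` -/
theorem dec {v : G} (hv : v ∈ AA R N) : ∃ r ∈ ln N Set.univ, ∃ f ∈ AA R N ⊓ F, v = r * f := by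
  have hc : zl (S : Subgroup G) R ≤ normalizer (ln N Set.univ : Set G) := fun x hx => by
    rw [mem_normalizer_iff]
    intro y
    constructor
    · intro hy
      rw [h.comm x (h.lV hx) y (h.rV hy), mul_inv_cancel_right]; exact hy
    · intro hy
      have h1 := h.comm x (h.lV hx) _ (h.rV hy)
      have e1 : y = x * y * x⁻¹ := by
        have h2 : x * (x * y * x⁻¹) * x⁻¹ = x * y * x⁻¹ := by rw [h1]; group
        have h3 := congrArg (fun t => x⁻¹ * t * x) h2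
        simpa [mul_assoc] using h3.symm
      rw [e1]; exact hy
  obtain ⟨x, hx, r, hr, rfl⟩ := mem_sup_norm hc hv
  obtain ⟨r', hr', hf⟩ := h.I x hx
  refine ⟨r * r', mul_mem hr hr', r'⁻¹ * x, mem_inf.2 ⟨mul_mem (inv_mem (rA hr')) (lA hx), hf⟩, ?_⟩
  rw [h.comm x (h.lV hx) r (h.rV hr)]; group

theorem conjF {g f : G} (hg : g ∈ centralizer (F : Set G)) (hf : f ∈ F) : g * f * g⁻¹ = f := by
  have := mem_centralizer_iff.1 hg f hf
  rw [← this]; group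

/-- an element of `C(F)` normalising `R₁` in the sense of the torus acts on `A` -/
theorem tor_mem {g : G} (hg : g ∈ centralizer (F : Set G)) (hr : ∀ r ∈ ln N Set.univ, g * r * g⁻¹ ∈ ln N Set.univ) :
    g ∈ normalizer (AA R N : Set G) ⊓ normalizer (ln N Set.univ : Set G) ∧
      ∀ v ∈ AA R N, g * v * g⁻¹ * v⁻¹ ∈ ln N Set.univ := by
  have h1 : ∀ v ∈ AA R N, g * v * g⁻¹ * v⁻¹ ∈ ln N Set.univ := by
    intro v hv
    obtain ⟨r, hr', f, hf, rfl⟩ := h.dec hv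
    have e1 : g * (r * f) * g⁻¹ * (r * f)⁻¹ = (g * r * g⁻¹) * (g * f * g⁻¹) * f⁻¹ * r⁻¹ := by group
    rw [e1, h.conjF hg hf.2, mul_inv_cancel_right]
    exact mul_mem (hr r hr') (inv_mem hr')
  refine ⟨⟨mem_normalizer_of_cj_le ?_, mem_normalizer_of_cj_le ?_⟩, h1⟩
  · rintro _ ⟨v, hv, rfl⟩
    have h2 := mul_mem (rA (h1 v hv)) hv
    change g * v * g⁻¹ ∈ AA R N
    rwa [inv_mul_cancel_right] at h2
  · rintro _ ⟨v, hv, rfl⟩
    exact hr v hv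

theorem Ys_conj {g c : G} (hg : g ∈ normalizer (AA R N : Set G) ⊓ normalizer (ln N Set.univ : Set G))
    (hc : c ∈ Ys R N) : g * c * g⁻¹ ∈ Ys R N := by
  obtain ⟨h1, h2, h3⟩ := mem_Ys.1 hc
  refine mem_Ys.2 ⟨mul_mem (mul_mem hg h1) (inv_mem hg), fun v hv => ?_, fun r hr => ?_⟩
  · have hv' : g⁻¹ * v * g ∈ AA R N := by
      have := (mem_normalizer_iff.1 (inv_mem hg.1) v).1 hv
      rwa [inv_inv] at this
    have h4 := (mem_normalizer_iff.1 hg.2 _).1 (h2 _ hv')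
    have e1 : g * (c * (g⁻¹ * v * g) * c⁻¹ * (g⁻¹ * v * g)⁻¹) * g⁻¹ = g * c * g⁻¹ * v * (g * c * g⁻¹)⁻¹ * v⁻¹ := by
      group
    rwa [e1] at h4
  · have hr' : g⁻¹ * r * g ∈ ln N Set.univ := by
      have := (mem_normalizer_iff.1 (inv_mem hg.2) r).1 hr
      rwa [inv_inv] at this
    have h4 := h3 _ hr'
    calc g * c * g⁻¹ * r = g * (c * (g⁻¹ * r * g)) * g⁻¹ := by group
      _ = g * ((g⁻¹ * r * g) * c) * g⁻¹ := by rw [h4]
      _ = r * (g * c * g⁻¹) := by group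

theorem zF {z : G} (hz : z ∈ zc (S : Subgroup G)) (hzF : z ∈ F) : z = 1 :=
  h.RF z (zc_le_root h.amb hz) hzF

theorem e_eq {r r' : G} (hr : r ∈ ln N Set.univ) (hr' : r' ∈ ln N Set.univ) (he : N.e r 0 0 = N.e r' 0 0) :
    r = r' := by
  refine e_inj (M := N) (ln_le _ hr) (ln_le _ hr') ?_
  funext j
  obtain rfl : j = 0 := Subsingleton.elim _ _
  refine NatPair.ext2 he ?_
  rw [(mem_root.1 hr).2, (mem_root.1 hr').2]

theorem e_mul {r r' : G} (hr : r ∈ ln N Set.univ) (hr' : r' ∈ ln N Set.univ) :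
    N.e (r * r') 0 0 = N.e r 0 0 + N.e r' 0 0 := by
  rw [N.mul r (ln_le _ hr) r' (ln_le _ hr')]; rfl

omit h in
theorem e_one' : N.e 1 0 0 = 0 := by rw [NatR.e_one]; rfl

/-- **(HOM)**: if `Ys` centralises `A`, then `V_R ≤ R₁`. -/
theorem le_root [Finite K] (hY : Ys R N ≤ centralizer (AA R N : Set G)) : zl (S : Subgroup G) R ≤ ln N Set.univ := by
  have hSr := norm_root (N := N) h.amb
  -- `A ∩ F` is `S`-invariant
  have key : ∀ t ∈ (S : Subgroup G), ∀ x ∈ AA R N ⊓ F, t * x * t⁻¹ ∈ AA R N ⊓ F := by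
    intro t ht x hx
    have hyA : t * x * t⁻¹ ∈ AA R N := (mem_normalizer_iff.1 (h.SA ht) x).1 hx.1
    obtain ⟨r, hr, f, hf, hrf⟩ := h.dec hyA
    obtain ⟨c, σ, hσ⟩ := semi (N := N) h.amb ht
    obtain ⟨l, hl0, hl1⟩ := RA.exists_ne_zero_one h.big
    have hL : ∀ y : K, (lineF N).e y ∈ ln N Set.univ := fun y => ((lineF N).mem _).2 ⟨y, rfl⟩
    have he : ∀ y : K, N.e ((lineF N).e y) 0 0 = y := fun y => by
      have := NO1.NSix.e_em_self N.toNatK 0 ![y, 0]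
      exact congrFun this 0
    obtain ⟨g, hgF, hg⟩ := h.tor l hl0
    obtain ⟨g', hgF', hg'⟩ := h.tor (σ l) ((map_ne_zero σ).2 hl0)
    obtain ⟨hgM, hgA⟩ := h.tor_mem hgF fun r hr => (hg r hr).1
    obtain ⟨hgM', hgA'⟩ := h.tor_mem hgF' fun r hr => (hg' r hr).1
    have htM : t ∈ normalizer (AA R N : Set G) ⊓ normalizer (ln N Set.univ : Set G) := ⟨h.SA ht, hSr ht⟩
    -- `g` acts on the line as the multiplication by `l`
    have hgl : ∀ y : K, g * (lineF N).e y * g⁻¹ = (lineF N).e (l * y) := fun y =>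
      h.e_eq (hg _ (hL y)).1 (hL _) (by rw [(hg _ (hL y)).2, he, he])
    have hgl' : ∀ y : K, g' * (lineF N).e y * g'⁻¹ = (lineF N).e (σ l * y) := fun y =>
      h.e_eq (hg' _ (hL y)).1 (hL _) (by rw [(hg' _ (hL y)).2, he, he])
    -- `u = g'⁻¹ (t g t⁻¹)` is in `Ys`
    have hu : g'⁻¹ * (t * g * t⁻¹) ∈ Ys R N := by
      have hM : t * g * t⁻¹ ∈ normalizer (AA R N : Set G) ⊓ normalizer (ln N Set.univ : Set G) :=
        mul_mem (mul_mem htM hgM) (inv_mem htM)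
      have hA1 : ∀ v ∈ AA R N, t * g * t⁻¹ * v * (t * g * t⁻¹)⁻¹ * v⁻¹ ∈ ln N Set.univ := by
        intro v hv
        have hv' : t⁻¹ * v * t ∈ AA R N := by
          have := (mem_normalizer_iff.1 (inv_mem htM.1) v).1 hv
          rwa [inv_inv] at this
        have h4 := (mem_normalizer_iff.1 htM.2 _).1 (hgA _ hv')
        have e1 : t * (g * (t⁻¹ * v * t) * g⁻¹ * (t⁻¹ * v * t)⁻¹) * t⁻¹ =
            t * g * t⁻¹ * v * (t * g * t⁻¹)⁻¹ * v⁻¹ := by group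
        rwa [e1] at h4
      refine mem_Ys.2 ⟨mul_mem (inv_mem hgM') hM, fun v hv => ?_, fun r hr => ?_⟩
      · have h5 := hA1 v hv
        have h6 := (mem_normalizer_iff.1 (inv_mem hgM'.2) _).1 h5
        have h7 : g'⁻¹ * v * g'⁻¹⁻¹ * v⁻¹ ∈ ln N Set.univ := by
          have h8 := (mem_normalizer_iff.1 (inv_mem hgM'.2) _).1 (inv_mem (hgA' v hv))
          have e1 : g'⁻¹ * (g' * v * g'⁻¹ * v⁻¹)⁻¹ * g'⁻¹⁻¹ = g'⁻¹ * v * g'⁻¹⁻¹ * v⁻¹ := by group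
          rwa [e1] at h8
        have e1 : g'⁻¹ * (t * g * t⁻¹) * v * (g'⁻¹ * (t * g * t⁻¹))⁻¹ * v⁻¹ =
            (g'⁻¹ * (t * g * t⁻¹ * v * (t * g * t⁻¹)⁻¹ * v⁻¹) * g'⁻¹⁻¹) * (g'⁻¹ * v * g'⁻¹⁻¹ * v⁻¹) := by group
        rw [e1]
        exact mul_mem h6 h7
      · obtain ⟨y, rfl⟩ := ((lineF N).mem r).1 hr
        -- `t g t⁻¹` acts as the multiplication by `σ l`
        have hty : ∀ y : K, t * g * t⁻¹ * (lineF N).e y * (t * g * t⁻¹)⁻¹ = (lineF N).e (σ l * y) := by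
          intro y
          obtain ⟨y', hy'⟩ := ((lineF N).mem _).1 ((mem_normalizer_iff.1 (inv_mem htM.2) _).1 (hL y))
          have hy2 : t * (lineF N).e y' * t⁻¹ = (lineF N).e y := by rw [hy']; group
          have e1 : t * g * t⁻¹ * (lineF N).e y * (t * g * t⁻¹)⁻¹ =
              t * (g * (t⁻¹ * (lineF N).e y * t⁻¹⁻¹) * g⁻¹) * t⁻¹ := by group
          rw [e1, ← hy', hgl, hσ, map_mul]
          rw [hσ] at hy2
          have h9 := (lineF N).inj hy2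
          congr 1
          rw [← h9]; ring
        have h10 : g'⁻¹ * (lineF N).e (σ l * y) * g'⁻¹⁻¹ = (lineF N).e y := by
          rw [← hgl']; group
        apply conj_comm
        calc g'⁻¹ * (t * g * t⁻¹) * (lineF N).e y * (g'⁻¹ * (t * g * t⁻¹))⁻¹
            = g'⁻¹ * (t * g * t⁻¹ * (lineF N).e y * (t * g * t⁻¹)⁻¹) * g'⁻¹⁻¹ := by group
          _ = _ := by rw [hty, h10]
    have huc := hY hu
    have h11 := comm_conj (mem_centralizer_iff.1 huc _ hyA).symm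
    -- `t g t⁻¹` centralises `y`
    have h12 : t * g * t⁻¹ * (t * x * t⁻¹) * (t * g * t⁻¹)⁻¹ = t * x * t⁻¹ := by
      calc t * g * t⁻¹ * (t * x * t⁻¹) * (t * g * t⁻¹)⁻¹ = t * (g * x * g⁻¹) * t⁻¹ := by group
        _ = _ := by rw [h.conjF hgF hx.2]
    have h13 : g' * (t * x * t⁻¹) * g'⁻¹ = t * x * t⁻¹ := by
      have e1 : g'⁻¹ * (t * g * t⁻¹) * (t * x * t⁻¹) * (g'⁻¹ * (t * g * t⁻¹))⁻¹ =
          g'⁻¹ * (t * g * t⁻¹ * (t * x * t⁻¹) * (t * g * t⁻¹)⁻¹) * g' := by group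
      rw [e1, h12] at h11
      calc g' * (t * x * t⁻¹) * g'⁻¹ = g' * (g'⁻¹ * (t * x * t⁻¹) * g') * g'⁻¹ := by rw [h11]
        _ = _ := by group
    rw [hrf] at h13 ⊢
    have h14 : g' * r * g'⁻¹ = r := by
      have e1 : g' * (r * f) * g'⁻¹ = (g' * r * g'⁻¹) * (g' * f * g'⁻¹) := by group
      rw [e1, h.conjF hgF' hf.2] at h13
      exact mul_right_cancel h13
    have h15 := (hg' r hr).2
    rw [h14] at h15
    have h16 : N.e r 0 0 = 0 := by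
      by_contra h0
      have h17 : σ l = 1 := by
        have h18 : 1 * N.e r 0 0 = σ l * N.e r 0 0 := by rw [one_mul]; exact h15
        exact (mul_right_cancel₀ h0 h18).symm
      exact hl1 ((map_eq_one_iff σ σ.injective).1 h17)
    have h17 : r = 1 := h.e_eq hr (one_mem _) (by rw [h16, e_one'])
    rw [h17, one_mul]
    exact hf
  -- so `A ∩ F = 1`
  have hbot : AA R N ⊓ F = ⊥ := by
    by_contra hne
    obtain ⟨z, hz, hzc, hz1⟩ := MinSimple.CaseD8.exists_mem_zc S.isPGroup' (C := AA R N ⊓ F)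
      (inf_le_left.trans (sup_le h.ambR.VT ((ln_le _).trans h.amb.VT)))
      (fun t ht => mem_normalizer_of_cj_le (by
        rintro _ ⟨x, hx, rfl⟩
        exact key t ht x hx)) hne
    exact hz1 (h.zF hzc hz.2)
  intro x hx
  obtain ⟨r, hr, f, hf, rfl⟩ := h.dec (lA hx)
  rw [hbot, mem_bot] at hf
  rw [hf, mul_one]
  exact hr

/-! #### (3a) -/

theorem syl_Ys : Syl ((S : Subgroup G) ⊓ Ys R N) (Ys R N) := by
  have hSM : (S : Subgroup G) ≤ normalizer (AA R N : Set G) ⊓ normalizer (ln N Set.univ : Set G) :=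
    le_inf h.SA (norm_root h.amb)
  exact syl_inf (syl_of_sylow hSM) (fun c hc => (mem_Ys.1 hc).1) fun g hg c hc => h.Ys_conj hg hc

/-- `t` acts on `A` as `l α`, where `c` acts as `α` -/
def Act (R : Subgroup G) (N : NatKM K (S : Subgroup G) P (zl (S : Subgroup G) P) ⊥ 1) (c t : G) (l : K) : Prop :=
  ∀ v ∈ AA R N, N.e (t * v * t⁻¹ * v⁻¹) 0 0 = l * N.e (c * v * c⁻¹ * v⁻¹) 0 0

theorem act_mul {c a b : G} {l m : K} (ha : a ∈ Ys R N) (hb : b ∈ Ys R N) (h1 : Act R N c a l)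
    (h2 : Act R N c b m) : Act R N c (a * b) (l + m) := by
  obtain ⟨-, ha1, ha2⟩ := mem_Ys.1 ha
  obtain ⟨-, hb1, hb2⟩ := mem_Ys.1 hb
  intro v hv
  have h4 := comm_conj (ha2 _ (hb1 v hv))
  have e1 : a * b * v * (a * b)⁻¹ * v⁻¹ = (b * v * b⁻¹ * v⁻¹) * (a * v * a⁻¹ * v⁻¹) := by
    calc a * b * v * (a * b)⁻¹ * v⁻¹ = (a * (b * v * b⁻¹ * v⁻¹) * a⁻¹) * (a * v * a⁻¹ * v⁻¹) := by group
      _ = _ := by rw [h4]
  rw [e1, h.e_mul (hb1 v hv) (ha1 v hv), h1 v hv, h2 v hv]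
  ring

/-- every multiple of `α` is induced by `S` -/
theorem exists_act {c : G} (hc : c ∈ Ys R N) (l : K) : ∃ t ∈ (S : Subgroup G) ⊓ Ys R N, Act R N c t l := by
  by_cases hl : l = 0
  · refine ⟨1, one_mem _, fun v _ => ?_⟩
    have e1 : (1 : G) * v * 1⁻¹ * v⁻¹ = 1 := by group
    rw [e1, e_one', hl, zero_mul]
  obtain ⟨g, hgF, hg⟩ := h.tor l hl
  obtain ⟨hgM, hgA⟩ := h.tor_mem hgF fun r hr => (hg r hr).1
  have hc' := h.Ys_conj hgM hc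
  obtain ⟨-, hc1, hc2⟩ := mem_Ys.1 hc
  obtain ⟨t, ht, hact⟩ := exists_syl_act h.syl_Ys (V' := AA R N) (W := ln N Set.univ)
    (fun v hv w hw => h.comm v (h.AV hv) w (h.AV hw)) rA (fun w hw => h.sq w (h.rV hw))
    (fun g hg => (mem_Ys.1 hg).2.1) (fun g hg => (mem_Ys.1 hg).2.2) hc'
  refine ⟨t, ht, fun v hv => ?_⟩
  rw [← hact v hv]
  obtain ⟨r, hr, f, hf, rfl⟩ := h.dec hv
  -- `[c, r f] = [c, f]`
  have key : ∀ r ∈ ln N Set.univ, c * (r * f) * c⁻¹ * (r * f)⁻¹ = c * f * c⁻¹ * f⁻¹ := by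
    intro r hr
    have h1 := hc1 f hf.1
    have h2 := comm_conj (hc2 r hr)
    calc c * (r * f) * c⁻¹ * (r * f)⁻¹ = (c * r * c⁻¹) * (c * f * c⁻¹ * f⁻¹) * r⁻¹ := by group
      _ = r * (c * f * c⁻¹ * f⁻¹) * r⁻¹ := by rw [h2]
      _ = (c * f * c⁻¹ * f⁻¹) * r * r⁻¹ := by rw [h.comm r (h.rV hr) _ (h.rV h1)]
      _ = _ := by group
  have hgr : g⁻¹ * r * g ∈ ln N Set.univ := by
    have := (mem_normalizer_iff.1 (inv_mem hgM.2) r).1 hr
    rwa [inv_inv] at this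
  have hgf : g⁻¹ * f * g = f := by
    have := h.conjF (inv_mem hgF) hf.2
    rwa [inv_inv] at this
  have e1 : g * c * g⁻¹ * (r * f) * (g * c * g⁻¹)⁻¹ * (r * f)⁻¹ =
      g * (c * ((g⁻¹ * r * g) * (g⁻¹ * f * g)) * c⁻¹ * ((g⁻¹ * r * g) * (g⁻¹ * f * g))⁻¹) * g⁻¹ := by group
  rw [e1, hgf, key _ hgr, key r hr]
  exact (hg _ (hc1 f hf.1)).2

/-- the group of the multiples of `α` induced by `S` -/
def Ec (h : InA S P R F V N) (c : G) : Subgroup G where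
  carrier := {t | t ∈ (S : Subgroup G) ⊓ Ys R N ∧ ∃ l, Act R N c t l}
  mul_mem' := by
    rintro a b ⟨ha, l, hl⟩ ⟨hb, m, hm⟩
    exact ⟨mul_mem ha hb, l + m, h.act_mul ha.2 hb.2 hl hm⟩
  one_mem' := ⟨one_mem _, 0, fun v _ => by
    have e1 : (1 : G) * v * 1⁻¹ * v⁻¹ = 1 := by group
    rw [e1, e_one', zero_mul]⟩
  inv_mem' := by
    rintro a ⟨ha, l, hl⟩
    refine ⟨inv_mem ha, -l, fun v hv => ?_⟩
    obtain ⟨-, h1, h2⟩ := mem_Ys.1 ha.2
    have h3 := inv_mem (h1 v hv)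
    have h4 : a⁻¹ * (a * v * a⁻¹ * v⁻¹)⁻¹ * a⁻¹⁻¹ = (a * v * a⁻¹ * v⁻¹)⁻¹ := by
      apply comm_conj
      have h5 := h2 _ h3
      calc a⁻¹ * (a * v * a⁻¹ * v⁻¹)⁻¹ = a⁻¹ * ((a * v * a⁻¹ * v⁻¹)⁻¹ * a) * a⁻¹ := by group
        _ = a⁻¹ * (a * (a * v * a⁻¹ * v⁻¹)⁻¹) * a⁻¹ := by rw [h5]
        _ = _ := by group
    have e1 : a⁻¹ * v * a⁻¹⁻¹ * v⁻¹ = (a * v * a⁻¹ * v⁻¹)⁻¹ := by
      rw [← h4]; group
    rw [e1, NatR.e_inv (M := N) (ln_le _ (h1 v hv)), Pi.neg_apply, Pi.neg_apply, hl v hv]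
    ring

theorem eq_one_of {t v : G} (ht : t ∈ Ys R N) (hv : v ∈ AA R N) (h0 : N.e (t * v * t⁻¹ * v⁻¹) 0 0 = 0) :
    t * v = v * t := by
  have h1 : t * v * t⁻¹ * v⁻¹ = 1 := h.e_eq ((mem_Ys.1 ht).2.1 v hv) (one_mem _) (by rw [h0, e_one'])
  exact conj_comm (mul_inv_eq_one.1 h1)

theorem eq_zero_of {t v : G} (h0 : t * v = v * t) : N.e (t * v * t⁻¹ * v⁻¹) 0 0 = 0 := by
  rw [comm_conj h0, mul_inv_cancel, e_one']

/-- if `c` moves `A`, it moves `V_R` -/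
theorem exists_moved {c : G} (hc : c ∈ Ys R N) (hcA : c ∉ centralizer (AA R N : Set G)) :
    ∃ x ∈ zl (S : Subgroup G) R, N.e (c * x * c⁻¹ * x⁻¹) 0 0 ≠ 0 := by
  by_contra hcon
  push Not at hcon
  have h1 : AA R N ≤ centralizer ({c} : Set G) := by
    refine sup_le (fun x hx => ?_) fun r hr => ?_
    · rw [mem_centralizer_singleton_iff]
      exact (h.eq_one_of hc (lA hx) (hcon x hx)).symm
    · rw [mem_centralizer_singleton_iff]
      exact ((mem_Ys.1 hc).2.2 r hr).symm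
  refine hcA (mem_centralizer_iff.2 fun v hv => ?_)
  exact mem_centralizer_singleton_iff.1 (h1 hv)

/-- **(3a)**: `S` contains a group acting on `V_R` as `F_q α`. -/
theorem trv [Finite K] {c : G} (hc : c ∈ Ys R N) (hcA : c ∉ centralizer (AA R N : Set G)) :
    Trv (zl (S : Subgroup G) R) (h.Ec c) (ln N Set.univ) := by
  obtain ⟨x, hx, hx0⟩ := h.exists_moved hc hcA
  have hex : ∀ l : K, ∃ t ∈ h.Ec c, Act R N c t l := fun l => by
    obtain ⟨t, ht, hl⟩ := h.exists_act hc l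
    exact ⟨t, ⟨ht, l, hl⟩, hl⟩
  have hYs : ∀ {t : G}, t ∈ h.Ec c → t ∈ Ys R N := fun ht => ht.1.2
  have hnl : ∀ t ∈ h.Ec c, t * x * t⁻¹ * x⁻¹ ∈ zl (S : Subgroup G) R := fun t ht =>
    mul_mem (h.ambR.conj_mem (h.hR.le ht.1.1) hx) (inv_mem hx)
  refine ⟨h.ambR.comm, fun r hr => h.sq r (h.rV hr), fun r hr => ?_, fun a ha r hr => (mem_Ys.1 (hYs ha)).2.2 r hr,
    fun a ha v hv => (mem_Ys.1 (hYs ha)).2.1 v (lA hv), ?_, ?_, ?_⟩
  · -- `R₁ ≤ V_R`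
    obtain ⟨t, ht, hl⟩ := hex (N.e r 0 0 / N.e (c * x * c⁻¹ * x⁻¹) 0 0)
    have h1 := hl x (lA hx)
    rw [div_mul_cancel₀ _ hx0] at h1
    have h2 := h.e_eq ((mem_Ys.1 (hYs ht)).2.1 x (lA hx)) hr h1
    rw [← h2]
    exact hnl t ht
  · rintro a ⟨ha, l, hl⟩ hac v hv hav b ⟨hb, m, hm⟩
    have hl0 : l ≠ 0 := by
      rintro rfl
      refine hac (mem_centralizer_iff.2 fun w hw => ?_)
      refine (h.eq_one_of ha.2 (lA hw) ?_).symm
      rw [hl w (lA hw), zero_mul]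
    have h1 := hl v (lA hv)
    rw [h.eq_zero_of hav] at h1
    have h2 : N.e (c * v * c⁻¹ * v⁻¹) 0 0 = 0 := (mul_eq_zero.1 h1.symm).resolve_left hl0
    refine h.eq_one_of hb.2 (lA hv) ?_
    rw [hm v (lA hv), h2, mul_zero]
  · intro hle
    obtain ⟨t, ht, hl⟩ := hex 1
    have h1 := hl x (lA hx)
    rw [one_mul, h.eq_zero_of (mem_centralizer_iff.1 (hle ht) x hx).symm] at h1
    exact hx0 h1.symm
  · -- the count
    choose τ hτ hτl using hex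
    have h1 : Function.Injective (fun p : ↥(ln N Set.univ) × ↥(h.Ec c ⊓ centralizer (zl (S : Subgroup G) R : Set G)) =>
        (⟨τ (N.e p.1 0 0) * p.2, mul_mem (hτ _) p.2.2.1⟩ : ↥(h.Ec c))) := by
      rintro ⟨⟨r, hr⟩, ⟨a, ha⟩⟩ ⟨⟨r', hr'⟩, ⟨a', ha'⟩⟩ heq
      have heq' : τ (N.e r 0 0) * a = τ (N.e r' 0 0) * a' := congrArg Subtype.val heq
      have hcoord : ∀ (r a : G), a ∈ h.Ec c ⊓ centralizer (zl (S : Subgroup G) R : Set G) →
          N.e (τ (N.e r 0 0) * a * x * (τ (N.e r 0 0) * a)⁻¹ * x⁻¹) 0 0 =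
            N.e r 0 0 * N.e (c * x * c⁻¹ * x⁻¹) 0 0 := by
        intro r a ha
        have h2 : a * x * a⁻¹ = x := comm_conj (mem_centralizer_iff.1 ha.2 x hx).symm
        have e1 : τ (N.e r 0 0) * a * x * (τ (N.e r 0 0) * a)⁻¹ * x⁻¹ =
            τ (N.e r 0 0) * (a * x * a⁻¹) * (τ (N.e r 0 0))⁻¹ * x⁻¹ := by group
        rw [e1, h2]
        exact hτl _ x (lA hx)
      have h3 := hcoord r a ha
      rw [heq', hcoord r' a' ha'] at h3
      have h4 : r' = r := h.e_eq hr' hr (mul_right_cancel₀ hx0 h3)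
      subst h4
      have h5 := mul_left_cancel heq'
      subst h5
      rfl
    have h2 := Nat.card_le_card_of_injective _ h1
    rwa [Nat.card_prod] at h2

/-- **(3)**. -/
theorem false [Finite K] [CharP K 2] : False := by
  by_cases hY : Ys R N ≤ centralizer (AA R N : Set G)
  · exact false_of_le_root h.hc h.hP N h.hR h.ex (h.le_root hY)
  · obtain ⟨c, hc, hcA⟩ := Set.not_subset.1 hY
    have T := h.trv hc hcA
    have hES : h.Ec c ≤ (S : Subgroup G) := fun t ht => ht.1.1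
    have hcon := (FFBr.ffthmM G S R (FFThm.syl_of_sylow S h.hR.le) h.hR.toIsMinPar (h.hR.isLoc.char2 S h.hc)
      ⟨h.Ec c, hES.trans h.hR.le, T.offM⟩).2
    refine T.false_line h.hc h.hR hcon hES fun hbot => ?_
    obtain ⟨e, he, he1⟩ : ∃ e : G, e ∈ zc (S : Subgroup G) ⊓ centralizer (R : Set G) ∧ e ≠ 1 := by
      by_contra hcon
      push Not at hcon
      exact h.ex ((Subgroup.eq_bot_iff_forall _).2 hcon)
    have h1 : e ∈ ln N Set.univ ⊓ cv (S : Subgroup G) R :=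
      ⟨zc_le_root h.amb he.1, h.ambR.zc he.1, centralizer_le (MinSimple.VModule.oddGen_le R) he.2⟩
    rw [hbot] at h1
    exact he1 (mem_bot.1 h1)

end InA

/-- **R3.** -/
theorem r3 : StR3.{u} := by
  intro G _ _ S V F B P K _ _ _ N β s hT R hR hex hRV hRB
  have hA := amb_of_loc s.ctx.char2 S s.hP.isLoc
  have hrt : ∀ v, v ∈ ln N Set.univ ↔ Low.Rtv N 0 v := by
    intro v
    rw [mem_root]
    constructor
    · rintro ⟨h1, h2⟩
      exact ⟨⟨h1, fun j hj => absurd (Subsingleton.elim _ _) hj⟩, h2⟩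
    · rintro ⟨⟨h1, -⟩, h2⟩
      exact ⟨h1, h2⟩
  have hcommV : ∀ a ∈ V, ∀ b ∈ V, a * b = b * a := fun a ha b hb => s.flat.V_comm ha hb
  have hsqV : ∀ a ∈ V, a * a = 1 := fun a ha => by rw [← pow_two]; exact s.flat.sq a ha
  have h : InA S P R F V N := by
    refine ⟨s.ctx.char2, s.hP, hR, hex, hcommV, hsqV, s.UV, hRV, s.flat.F_le_V, fun a ha => ?_, fun r hr hrF => ?_,
      fun l hl => ?_, ?_⟩
    · obtain ⟨r, hr, hrF⟩ := s.I a ⟨hRV ha, hRB ha⟩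
      exact ⟨r, (hrt r).2 hr, hrF⟩
    · exact s.blkF r ((hrt r).1 hr).1 hrF
    · obtain ⟨g, hg, h1⟩ := hT l hl
      refine ⟨g, hg, fun r hr => ?_⟩
      obtain ⟨h2, h3⟩ := h1 r ((hrt r).1 hr)
      exact ⟨(hrt _).2 h2, h3⟩
    · have h1 : Nat.card (zc (S : Subgroup G)) ≤ Nat.card (ln N Set.univ) :=
        Subgroup.card_le_of_le (zc_le_root hA)
      rw [(lineF N).card] at h1
      exact lt_of_lt_of_le s.card h1
  exact h.false

end Cfsg.Agent.Omega.NOThreeL.RLow.KOne
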