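import Cfsg.Agent.Omega.NOThreeL.Low.Dich
import Cfsg.Agent.Omega.NOThreeL.Low.Key
import Cfsg.Agent.Omega.Half.AppNat
import Cfsg.Agent.Omega.NOThreeL.RLow.Defs

/-!
# THEOREM R-LOW (#21762), part RA: the bad line `U = V_P` is FF

* `SitR.zc_inf`, `SitR.not_le` : `Z ∩ F = 1`, `V ∩ B ≰ F`; `SitR.not_notFF` : `V_P` is FF;
* `ra` : **RA**; `SitR.concl` : the FF theorem for `V_P` (with the radical `cv S P`);
* `SitR.card_le`, `SitR.two_lt` : `|Z| ≤ ι = |B : B ∩ N|`, `2 < ι`; `SitR.t1` : (T1).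
-/

set_option autoImplicit false

namespace Cfsg.Agent.Omega.NOThreeL.RLow

open Subgroup Cfsg
open Cfsg.Agent.ZN
open Cfsg.Agent.Omega.MinPar Cfsg.Agent.Omega.Frame Cfsg.Agent.Omega.FrameNOFF
open Cfsg.Agent.Omega.NO3b.EZero (NotFF)
open Cfsg.Agent.Omega.FFThm (ElemM OffM NoOverM ConclM NatKM SymKM)
open Cfsg.Agent.Omega.FrameFF (cv)
open Cfsg.Agent.Omega.NOThreeL.Low (Key.BH)
open Cfsg.Agent.Omega.NOne.Flat (Hyp EE WW NN)
open Cfsg.Agent.Omega.NOne.NearFF (c)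
open Cfsg.Agent.Omega.Half (Amb amb_of_loc)
open Cfsg.Agent.MinSimple.VModule (zc_le_zl)
open scoped Pointwise

universe u

variable {G : Type u} [Group G] [Finite G] {S : Sylow 2 G} {V F B P : Subgroup G}

theorem SitR.zc_inf (s : SitR S V F B P) : zc (S : Subgroup G) ⊓ F = ⊥ := by
  have h := s.pt P s.hP s.bad 1 (one_mem P)
  rwa [map_one, one_smul] at h

/-- The points of `U` meet `F` trivially. -/
theorem SitR.ptP (s : SitR S V F B P) {g : G} (hg : g ∈ P) : MulAut.conj g • zc (S : Subgroup G) ⊓ F = ⊥ :=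
  s.pt P s.hP s.bad g hg

theorem SitR.zc_ne_bot (s : SitR S V F B P) : zc (S : Subgroup G) ≠ ⊥ :=
  MinSimple.Basic.zc_ne_bot S.isPGroup' (s.ctx.sylow_ne_bot S)

/-- `Z ≤ V ∩ B` -/
theorem SitR.zc_le_I (s : SitR S V F B P) : zc (S : Subgroup G) ≤ V ⊓ B :=
  le_inf ((zc_le_zl _ P).trans s.UV) s.ZB

/-- `V ∩ B ≰ F` -/
theorem SitR.not_le (s : SitR S V F B P) : ¬ V ⊓ B ≤ F := by
  intro h
  refine s.zc_ne_bot (le_bot_iff.1 ?_)
  rw [← s.zc_inf]
  exact le_inf le_rfl (s.zc_le_I.trans h)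

/-- **(nFF)** -/
theorem SitR.not_notFF (s : SitR S V F B P) : ¬ NotFF (zl (S : Subgroup G) P) :=
  Low.NonFF.ff s.ctx.char2 s.hP (s.D.low P s.hP) s.flat s.BW s.FB s.comm s.XB s.not_le s.BS s.UV s.bad

/-- `U = V_P` has an offender in `S`. -/
theorem SitR.exists_off (s : SitR S V F B P) :
    ∃ A : Subgroup G, A ≤ (S : Subgroup G) ∧ OffM (zl (S : Subgroup G) P) A :=
  Low.exists_off (s.hP.le.trans (MinSimple.VModule.le_normalizer_zl _ _)) s.not_notFF

/-- The FF theorem for the bad line. -/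
theorem SitR.concl (s : SitR S V F B P) :
    NoOverM (zl (S : Subgroup G) P) P ∧ ConclM (S : Subgroup G) P := by
  obtain ⟨A, hA, ho⟩ := s.exists_off
  exact StarEnd.stmtM G (S : Subgroup G) P (MinSimple.EmptyTI.syl_of_le s.hP.le)
    s.hP.toIsMinPar (s.hP.isLoc.char2 S s.ctx.char2) ⟨A, hA.trans s.hP.le, ho⟩

/-- **RA**: `U` is an FF-module. -/
theorem ra : StRA.{u} := by
  intro G _ _ S V F B P s
  obtain ⟨A, hA, ho⟩ := s.exists_off
  exact ⟨A, hA.trans s.hP.le, ho⟩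

/-! ### Common facts -/

/-- `BH` of `Low/Key`. -/
theorem SitR.bh (s : SitR S V F B P) : Low.Key.BH V F B :=
  { s.flat with le_W := s.BW, F_le := s.FB, abel := s.comm, norm := s.XB }

theorem SitR.amb (s : SitR S V F B P) : Amb (S : Subgroup G) P (zl (S : Subgroup G) P) :=
  amb_of_loc s.ctx.char2 S s.hP.toIsPar.isLoc

/-- `|Z| ≤ |I : F|` -/
theorem SitR.card_le (s : SitR S V F B P) : Nat.card (zc (S : Subgroup G)) ≤ F.relIndex (V ⊓ B) := by
  have h1 : F.relIndex (zc (S : Subgroup G)) = Nat.card (zc (S : Subgroup G)) := by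
    rw [← inf_relIndex_right, inf_comm, s.zc_inf, relIndex_bot_left]
  rw [← h1]
  exact relIndex_le_of_le_right s.zc_le_I index_ne_zero_of_finite

/-- `2 < ι = |B : B ∩ N|` -/
theorem SitR.two_lt (s : SitR S V F B P) : 2 < (NN V F).relIndex B := by
  rw [s.bh.relIndex_B]
  exact s.card.trans_le s.card_le

/-- `B` does not centralise `w ∈ V - E`. -/
theorem SitR.exists_moved (s : SitR S V F B P) {w : G} (hw : w ∈ V) (hwE : w ∉ EE V F) :
    ∃ b ∈ B, c w b ∉ F := by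
  by_contra hall
  push Not at hall
  have h1 : B ≤ NN V F := fun b hb => s.bh.mem_NN_of_c hw hwE hb (hall b hb)
  have h2 := s.two_lt
  rw [relIndex_eq_one.2 h1] at h2
  omega

/-- **(T1)** -/
theorem SitR.t1 (s : SitR S V F B P) {w : G} (hw : w ∈ V) (hwE : w ∉ EE V F)
    (hall : ∀ b ∈ B, ∀ c ∈ B, b * w * b⁻¹ ≠ w → c * w * c⁻¹ ≠ w → b * w * b⁻¹ = c * w * c⁻¹) : False := by
  have h1 := s.bh.relIndex_le_two hw hwE hall
  rw [← s.bh.relIndex_B] at h1
  exact absurd s.two_lt (not_lt.2 h1)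

end Cfsg.Agent.Omega.NOThreeL.RLow
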