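import Cfsg.Agent.Omega.NOThreeL.RLow.KTwo

/-!
# [R-low] (#21762, helper597), (2): `k ≥ 2` is dead

`blk_le_o2` : if `C_V(B) = R_i F`, `ζ ζ_i ∈ F` (`ζ ∈ Z`), `F ∩ U` has no vector of full support and `|Z| > 2`, then the
block `N_i` lies in `O₂(C_G(F))` (= the block is not bad).
-/

set_option autoImplicit false

namespace Cfsg.Agent.Omega.NOThreeL.RLow.KTwo

open Subgroup Cfsg Cfsg.Agent.ZN Cfsg.Agent.Omega.MinPar
open Cfsg.Agent.Omega.FFThm (NatKM ActsSL)
open Cfsg.Agent.MinSimple.VModule (zc_le_zl zc_sq o2_isPGroup)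
open Cfsg.Agent.Omega.NOThreeL.Low (Blk Rtv blk mem_blk exists_blk)
open Cfsg.Agent.Omega.NOThreeL.NF.NatR

universe u

variable {G : Type u} [Group G] [Finite G] {S : Sylow 2 G} {P : Subgroup G} {K : Type} [Field K] {k : ℕ}
  {N : NatKM K (S : Subgroup G) P (zl (S : Subgroup G) P) ⊥ k} {i : Fin k}

omit [Finite G] in
/-- `S` does not normalise the block `i` if `k ≥ 2`. -/
theorem not_le_normalizer_blk (hk : 2 ≤ k) :
    ¬ (S : Subgroup G) ≤ (S : Subgroup G) ⊓ normalizer (blk N i : Set G) := by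
  intro h
  have h2 : ∃ j : Fin k, j ≠ i := by
    by_contra hcon
    push Not at hcon
    have h1 : Nat.card (Fin k) ≤ 1 := by
      rw [Finite.card_le_one_iff_subsingleton]
      exact ⟨fun a b => by rw [hcon a, hcon b]⟩
    rw [Nat.card_fin] at h1
    omega
  obtain ⟨j, hj⟩ := h2
  obtain ⟨t, ht, h3⟩ := N.trans i j
  obtain ⟨v, hv, hvi, hvj⟩ := exists_pt (M := N) i ![0, 1]
  have h4 : v ∈ blk N i := ⟨hv, hvj⟩
  have h5 : t * v * t⁻¹ ∈ blk N i := (mem_normalizer_iff.1 (h ht).2 v).1 h4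
  have h6 := (h3 v hv).1 (h5.2 j hj)
  rw [hvi] at h6
  exact one_ne_zero (congrFun h6 1)

/-- **(2)** `k ≥ 2` is dead. -/
theorem blk_le_o2 (hc : IsCharacteristicTwoType G) (hP : IsParS (S : Subgroup G) P) (hk : 2 ≤ k)
    (hZ : 2 < Nat.card (zc (S : Subgroup G))) {V F B : Subgroup G} (hUV : zl (S : Subgroup G) P ≤ V)
    (Vc : ∀ a ∈ V, ∀ b ∈ V, a * b = b * a) (FV : F ≤ V) (BS : B ≤ (S : Subgroup G))
    (BN : B ≤ normalizer (blk N i : Set G))
    (CVB : ∀ v ∈ V, (∀ b ∈ B, b * v = v * b) → ∃ r, Rtv N i r ∧ r⁻¹ * v ∈ F)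
    (zF : ∀ z ∈ zc (S : Subgroup G), ∃ r, Rtv N i r ∧ N.e r i = N.e z i ∧ r⁻¹ * z ∈ F)
    (nfull : ∀ f ∈ F, f ∈ zl (S : Subgroup G) P → ∃ j, N.e f j = 0) :
    blk N i ≤ o2 (centralizer (F : Set G)) := by
  have hSP : (S : Subgroup G) ≤ P := hP.le
  obtain ⟨T₀, h1, h⟩ := exists_two S.isPGroup' inf_le_left (not_le_normalizer_blk (N := N) (i := i) hk)
  obtain ⟨O, hO⟩ := exists_half (N := N) (le_normalizer_zl _ _) hSP h h1
  have hF2 : ∀ z ∈ zc (S : Subgroup G), pr N Oᶜ z ∈ F := by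
    intro z hz
    have hzU := zc_le_zl _ P hz
    by_cases hz1 : z = 1
    · rw [hz1, pr_one]; exact one_mem _
    obtain ⟨r, hr, hrF⟩ := CVB (pr N Oᶜ z) (hUV (pr_mem N Oᶜ z)) fun b hb =>
      mul_inv_eq_iff_eq_mul.1 (hO.fix' h hSP (h1 ⟨BS hb, BN hb⟩) hz)
    by_cases hr1 : N.e r i = 0
    · have h2 : r = 1 := by
        refine e_inj (M := N) hr.1.1 (one_mem _) ?_
        rw [e_one (M := N)]
        funext j
        by_cases hj : j = i
        · rw [hj]; exact hr1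
        · exact hr.1.2 j hj
      rwa [h2, inv_one, one_mul] at hrF
    · exfalso
      -- `z' ∈ Z - {1, z}`
      obtain ⟨z', hz', hz'1, hz'z⟩ : ∃ z' ∈ zc (S : Subgroup G), z' ≠ 1 ∧ z' ≠ z := by
        by_contra hcon
        push Not at hcon
        have h2 : ((zc (S : Subgroup G) : Subgroup G) : Set G) ⊆ {1, z} := by
          intro y hy
          by_cases hy1 : y = 1
          · exact Or.inl hy1
          · exact Or.inr (hcon y hy hy1)
        have h3 := Set.ncard_le_ncard h2 (Set.toFinite _)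
        have h4 : ({1, z} : Set G).ncard ≤ 2 := (Set.ncard_insert_le 1 {z}).trans (by rw [Set.ncard_singleton])
        have h5 : Nat.card (zc (S : Subgroup G)) = ((zc (S : Subgroup G) : Subgroup G) : Set G).ncard :=
          Nat.card_coe_set_eq _
        omega
      have hz'U := zc_le_zl _ P hz'
      obtain ⟨r', hr', her', hr'F⟩ := zF z' hz'
      have hzz : z * z' ∈ zc (S : Subgroup G) := mul_mem hz hz'
      have hzz1 : z * z' ≠ 1 := by
        intro h2
        have h3 : z * z = 1 := by rw [← pow_two]; exact zc_sq _ _ hz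
        exact hz'z (mul_left_cancel (h2.trans h3.symm))
      have hf : r⁻¹ * pr N Oᶜ z * (r'⁻¹ * z') ∈ F := mul_mem hrF hr'F
      have hfU : r⁻¹ * pr N Oᶜ z ∈ zl (S : Subgroup G) P := mul_mem (inv_mem hr.1.1) (pr_mem N Oᶜ z)
      have hf'U : r'⁻¹ * z' ∈ zl (S : Subgroup G) P := mul_mem (inv_mem hr'.1.1) hz'U
      obtain ⟨j, hj⟩ := nfull _ hf (mul_mem hfU hf'U)
      rw [N.mul _ hfU _ hf'U, N.mul _ (inv_mem hr.1.1) _ (pr_mem N Oᶜ z), N.mul _ (inv_mem hr'.1.1) _ hz'U,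
        e_inv hr.1.1, e_inv hr'.1.1] at hj
      simp only [Pi.add_apply, Pi.neg_apply] at hj
      by_cases hji : j = i
      · rw [hji, her', neg_add_cancel, add_zero, e_pr_out (fun h' : i ∈ Oᶜ => h' hO.mem), add_zero, neg_eq_zero] at hj
        exact hr1 hj
      · rw [hr.1.2 j hji, hr'.1.2 j hji, neg_zero, zero_add, zero_add] at hj
        by_cases hjO : j ∈ O
        · rw [e_pr_out (fun h' : j ∈ Oᶜ => h' hjO), zero_add] at hj
          exact zc_ne hz' hz'1 j hj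
        · rw [e_pr_in (O := Oᶜ) hjO] at hj
          refine zc_ne (N := N) hzz hzz1 j ?_
          rw [N.mul _ hzU _ hz'U]
          exact hj
  have hZF : zo N Oᶜ ≤ F := by
    rintro _ ⟨z, hz, rfl⟩
    exact hF2 z hz
  have hXC : centralizer (F : Set G) ≤ centralizer (zo N Oᶜ : Set G) := centralizer_le hZF
  have h2 : blk N i ≤ o2 (centralizer (zo N Oᶜ : Set G)) := (blk_le_uo hO.mem).trans (half_le hc hP h h1 hO)
  have h3 : blk N i ≤ centralizer (F : Set G) := fun v hv => mem_centralizer_iff.2 fun f hf =>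
    Vc f (FV hf) v (hUV hv.1)
  have h4 : o2 (centralizer (zo N Oᶜ : Set G)) ⊓ centralizer (F : Set G) ≤ o2 (centralizer (F : Set G)) := by
    refine le_o2 inf_le_right ((o2_isPGroup _).to_le inf_le_left) ?_
    refine le_trans (le_inf (hXC.trans (le_normalizer_o2 _)) le_normalizer) inf_normalizer_le_normalizer_inf
  exact (le_inf h2 h3).trans h4

end Cfsg.Agent.Omega.NOThreeL.RLow.KTwo
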