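import Cfsg.Agent.Omega.NOThreeL.RLow.Defs
import Cfsg.Agent.Omega.NOThreeL.RLow.KTwoEnd

/-!
# THEOREM R-LOW (#21762, helper597), part R2: `k ≥ 2` is impossible
-/

set_option autoImplicit false

namespace Cfsg.Agent.Omega.NOThreeL.RLow

open Subgroup Cfsg Cfsg.Agent.ZN
open Cfsg.Agent.Omega.NOThreeL.Low (Blk blk)

universe u

/-- **R2**: `k ≥ 2` is impossible. -/
theorem r2 : StR2.{u} := by
  intro G _ _ S V F B P K _ _ _ k N i β s hCVB hk
  have hBN : B ≤ normalizer (blk N i : Set G) := by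
    intro b hb
    rw [mem_normalizer_iff]
    intro v
    refine ⟨fun hv => (s.act b hb v hv).1, fun hv => ?_⟩
    have h1 := (s.act b⁻¹ (inv_mem hb) _ hv).1
    have e1 : b⁻¹ * (b * v * b⁻¹) * b⁻¹⁻¹ = v := by group
    rwa [e1] at h1
  have h1 := KTwo.blk_le_o2 s.ctx.char2 s.hP hk s.card s.UV (fun a ha b hb => s.flat.V_comm ha hb)
    s.flat.F_le_V s.BS hBN hCVB s.zF s.nfull
  obtain ⟨w, hw, hwE⟩ := s.bad_i
  exact hwE ⟨s.UV hw.1, h1 hw⟩

end Cfsg.Agent.Omega.NOThreeL.RLow
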