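import Cfsg.Agent.Omega.NOThreeL.RLow.Defs
import Cfsg.Agent.Omega.NOThreeL.Low.Key
import Cfsg.Agent.Omega.NOThreeL.Low.SymCase
import Cfsg.Agent.Omega.IId.SymWrD.Zero

/-!
# THEOREM R-LOW (#21762), part RB: the bad line is not of symmetric type, radical or not

* `bh`, `Z_inf_F`, `two_lt`, `quad`, `false_of_few` : (T1) + (I2) for `SitR`;
* `rb : StRB` : `U = A × D`, `D = C_U(O²(P)) ≤ Z ≤ E` (the module splits), so `A ≰ E` and `SymCase.le_of_t1` for `A`.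
-/

set_option autoImplicit false

namespace Cfsg.Agent.Omega.NOThreeL.RLow.SymR

open Subgroup Cfsg Cfsg.Agent.ZN Cfsg.Agent.Omega.MinPar Cfsg.Agent.Omega.Frame Cfsg.Agent.Omega.FrameNOFF
open Cfsg.Agent.Omega.NOne.Flat (Hyp EE WW NN BadX)
open Cfsg.Agent.Omega.NOne.NearFF (c)
open Cfsg.Agent.Omega.FrameFF (cv)
open Cfsg.Agent.Omega.FFThm (SymK SymKM)
open Cfsg.Agent.ZN.ChoiceSit (Syl)
open Cfsg.Agent.MinSimple.VModule (zc_le zl_le le_normalizer_zl)
open scoped Pointwise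

universe u

variable {G : Type u} [Group G] [Finite G] {S : Sylow 2 G} {V F B P : Subgroup G}

/-- 876's structure. -/
theorem bh (s : SitR S V F B P) : Low.Key.BH V F B := ⟨s.flat, s.BW, s.FB, s.comm, s.XB⟩

theorem Z_le_I (s : SitR S V F B P) : zc (S : Subgroup G) ≤ V ⊓ B :=
  le_inf ((MinSimple.VModule.zc_le_zl _ _).trans s.UV) s.ZB

theorem I_le_E (s : SitR S V F B P) : V ⊓ B ≤ EE V F := (bh s).I_le_E

/-- `Z ∩ F = 1` -/
theorem Z_inf_F (s : SitR S V F B P) : zc (S : Subgroup G) ⊓ F = ⊥ := by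
  have := s.pt P s.hP s.bad 1 (one_mem _)
  rwa [map_one, one_smul] at this

/-- **(I2)**: `2 < |I : F|` -/
theorem two_lt (s : SitR S V F B P) : 2 < F.relIndex (V ⊓ B) := by
  refine s.card.trans_le ?_
  have h1 : F.relIndex (zc (S : Subgroup G)) = Nat.card (zc (S : Subgroup G)) := by
    rw [← inf_relIndex_right, inf_comm, Z_inf_F s, relIndex_bot_left]
  rw [← h1]
  refine relIndex_le_of_le_right (Z_le_I s) ?_
  have : Finite (↥(V ⊓ B) ⧸ F.subgroupOf (V ⊓ B)) := inferInstance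
  exact index_ne_zero_of_finite

/-- `[V, B, B] = 1` -/
theorem quad (s : SitR S V F B P) {w b b' : G} (hw : w ∈ V) (hb : b ∈ B) (hb' : b' ∈ B) :
    b' * (b * w * b⁻¹ * w⁻¹) = b * w * b⁻¹ * w⁻¹ * b' := by
  have h1 := (bh s).quad hw hb hb'
  have h2 : (c w b)⁻¹ = b * w * b⁻¹ * w⁻¹ := by rw [c]; group
  rw [← h2]
  calc b' * (c w b)⁻¹ = (c w b)⁻¹ * (c w b * b') * (c w b)⁻¹ := by group
    _ = (c w b)⁻¹ * (b' * c w b) * (c w b)⁻¹ := by rw [h1]
    _ = (c w b)⁻¹ * b' := by group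

/-- **(T1) + (I2)**: no `w ∈ V - E` has at most one other `B`-conjugate. -/
theorem false_of_few (s : SitR S V F B P) {w : G} (hw : w ∈ V) (hwE : w ∉ EE V F)
    (h1 : ∀ b ∈ B, ∀ b' ∈ B, b * w * b⁻¹ ≠ w → b' * w * b'⁻¹ ≠ w → b * w * b⁻¹ = b' * w * b'⁻¹) : False :=
  absurd (two_lt s) (not_lt.2 ((bh s).relIndex_le_two hw hwE h1))

/-- **RB**: `U` is not of symmetric type (radical or not). -/
theorem rb : StRB.{u} := by
  intro G _ _ S V F B P s k m hk hm M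
  have hloc := s.hP.isLoc
  have hc := s.ctx.char2
  have hT : Syl (S : Subgroup G) P := ⟨hloc.le, S.isPGroup', fun Q _ hQ hle => S.is_maximal' hQ hle⟩
  obtain ⟨hHD, A, hAV, hsup, hinf, hAN⟩ :=
    Cfsg.Agent.Omega.IId.SymWrD.exists_compl M.toSymK hk ((by norm_num : 1 ≤ 2).trans hm) hT (hloc.char2 S hc)
  have hamb := Half.amb_of_loc hc S hloc
  have hDV : cv (S : Subgroup G) P ≤ zl (S : Subgroup G) P := inf_le_left
  -- `D ≤ Z ≤ E`
  have hDZ : cv (S : Subgroup G) P ≤ zc (S : Subgroup G) := by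
    intro d hd
    rw [MinSimple.VModule.mem_zc]
    exact ⟨s.VS (s.UV (hDV hd)), fun t ht => hHD t (hloc.le ht) d hd, hamb.sq d (hDV hd)⟩
  have hDE : cv (S : Subgroup G) P ≤ EE V F := hDZ.trans ((Z_le_I s).trans (I_le_E s))
  let M' := Cfsg.Agent.Omega.IId.SymWrD.compl M.toSymK hloc.le hamb.comm hsup hinf hAN hHD
  have hAE : A ≤ EE V F := by
    refine Low.SymCase.le_of_t1 M' hloc.le hAN s.BS ?_ ?_
    · intro w hw b hb b' hb'
      exact quad s (s.UV (hAV hw)) hb hb'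
    · intro w hw hwE h1
      exact false_of_few s (s.UV (hAV hw)) hwE h1
  exact s.bad (hsup ▸ sup_le hAE hDE)

end Cfsg.Agent.Omega.NOThreeL.RLow.SymR
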