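import Cfsg.Agent.Omega.NOThreeL.RLow.Defs
import Cfsg.Agent.Omega.NOThreeL.Low.Torus

/-!
# THEOREM R-LOW (#21762), RE: the torus (port of `Low/Torus.lean`)

* `core_of` : the situation `Core` of `TorusCore` from `NSitR`, `x ∈ C_G(F)` bad;
* **`re : StRE`**;
* `point_of` : if `g ∈ C_G(F)` acts on `R_i` as the multiplication by `l ≠ 0`, then `Z^g` is a point of `U`;
* `tor_point` : for `r, r' ∈ R_i#` some `g ∈ C_G(F)` maps `r` to `r'` and `Z^g` is a point of `U`.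
-/

set_option autoImplicit false

namespace Cfsg.Agent.Omega.NOThreeL.RLow

open Subgroup Cfsg Cfsg.Agent.ZN Cfsg.Agent.Omega.MinPar Cfsg.Agent.Omega.Frame Cfsg.Agent.Omega.FrameNOFF
open Cfsg.Agent.Omega.NoFF.Basic (mem_conj)
open Cfsg.Agent.Omega.NOne.Frame (mem_conj')
open Cfsg.Agent.Omega.NOThreeL.Low (Blk Rtv Tor Core Key.exists_bad blk exists_blk mem_blk)
open Cfsg.Agent.Omega.NOne.Flat (Hyp EE WW NN BadX)
open Cfsg.Agent.Omega.FFThm (NatKM ActsSL)
open Cfsg.Agent.Omega.NatPair (ap ap_zero' ap_one' ap_one ext2)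
open Cfsg.Agent.Lib.SL2Mat
open scoped Pointwise

universe u



variable {G : Type u} [Group G] [Finite G] {S : Sylow 2 G} {V F B P : Subgroup G}
  {K : Type} [Field K] {k : ℕ} {N : NatKM K (S : Subgroup G) P (zl (S : Subgroup G) P) ⊥ k} {i : Fin k} {β : G → K}

namespace NSitR

variable (s : NSitR S V F B P N i β)
include s

theorem blk_le_V : blk N i ≤ V := fun _ hv => s.UV hv.1

/-- `β b = 0` if `b ∈ B` centralises `N_i` -/
theorem mem_NN_of_comm {b : G} (hb : b ∈ B) (h : ∀ n ∈ blk N i, b * n = n * b) : b ∈ NN V F := by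
  refine (s.βN b hb).1 ?_
  obtain ⟨a, ha, hea⟩ := exists_blk N i ![0, 1]
  have h1 := (s.act b hb a ha).2
  rw [h a ha, mul_inv_cancel_right, hea, NF.NatR.ap_up] at h1
  have h2 := congrFun h1 0
  simpa using h2.symm

/-- The situation of `TorusCore`. -/
theorem core_of {x : G} (hx : x ∈ centralizer (F : Set G)) (hb : BadX V x) :
    Core (centralizer (F : Set G)) V B (blk N i) (fun v => N.e v i) β x := by
  have hRE : ∀ a ∈ blk N i, N.e a i 1 = 0 → a ∈ EE V F := fun a ha h => (s.blkE a ha).2 h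
  have hBc : ∀ a ∈ B, ∀ b ∈ B, a * b = b * a := fun a ha b hb => (mem_centralizer_iff.1 (s.comm ha) b hb).symm
  have hxF : ∀ {y f : G}, y ∈ centralizer (F : Set G) → f ∈ F → y * f * y⁻¹ = f := fun {y f} hy hf => by
    have := mem_centralizer_iff.1 hy f hf
    rw [← this, mul_inv_cancel_right]
  refine ⟨s.blk_le_V, fun a ha b hb => s.flat.V_comm ha hb, s.flat.V_le_X, s.XB, hBc,
    fun a ha => by rw [← pow_two]; exact s.sq a ha, fun a ha b hb => ?_, fun a ha h => ?_,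
    fun y => exists_blk N i y, fun a ha h => s.rtB a ⟨ha, h⟩, fun b hb a ha => ?_, hx,
    fun g hg a ha hne hca a' ha' hca' he v hv w hw => ?_, fun a ha hca h => ?_, fun a ha hca h => ?_⟩
  · rw [N.mul a ha.1 b hb.1, Pi.add_apply]
  · have h1 : N.e a = 0 := by
      funext j
      by_cases hj : j = i
      · subst hj; exact h
      · exact ha.2 j hj
    exact mem_bot.1 ((N.ker a ha.1).1 h1)
  · obtain ⟨h1, h2⟩ := s.act b hb a ha
    exact ⟨h1, by rw [h2, NF.NatR.ap_up]⟩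
  · -- `ti`
    have h1 : a ∈ V ⊓ MulAut.conj g • V := by
      refine ⟨s.blk_le_V ha, ?_⟩
      rw [← he]
      exact mem_conj'.2 ⟨a', s.blk_le_V ha', rfl⟩
    have h2 : F < V ⊓ MulAut.conj g • V := by
      refine lt_of_le_of_ne (s.flat.F_le_inf hg) fun h3 => hne (s.blkF a ha ?_)
      rw [h3]; exact h1
    have h3 := s.flat.commute_of_lt hg h2
    have h4 : g * w * g⁻¹ ∈ MulAut.conj g • V := mem_conj'.2 ⟨w, hw, rfl⟩
    exact mem_centralizer_iff.1 (h3 h4) v hv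
  · -- `dis`
    have hxa : x * a * x⁻¹ ∈ B := (mem_normalizer_iff.1 (s.XB hx) a).1 (s.rtB a ⟨ha, hca⟩)
    have h1 : x * a * x⁻¹ ∈ NN V F := s.mem_NN_of_comm hxa h
    have h2 : x * a * x⁻¹ ∈ F := by
      rw [← s.flat.conjE_inf_NN hx hb]
      exact ⟨mem_conj'.2 ⟨a, hRE a ha hca, rfl⟩, h1⟩
    refine s.blkF a ha ?_
    have h3 := hxF (inv_mem hx) h2
    have e1 : x⁻¹ * (x * a * x⁻¹) * x⁻¹⁻¹ = a := by group
    rw [e1] at h3
    rw [h3]; exact h2
  · -- `dis'`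
    have hxa : x⁻¹ * a * x ∈ B := by
      have := (mem_normalizer_iff.1 (s.XB (inv_mem hx)) a).1 (s.rtB a ⟨ha, hca⟩)
      rwa [inv_inv] at this
    have h1 : x⁻¹ * a * x ∈ NN V F := by
      refine s.mem_NN_of_comm hxa fun n hn => ?_
      have h2 := congrArg (fun t => x⁻¹ * t * x) (h n hn)
      have e1 : x⁻¹ * (a * (x * n * x⁻¹)) * x = x⁻¹ * a * x * n := by group
      have e2 : x⁻¹ * (x * n * x⁻¹ * a) * x = n * (x⁻¹ * a * x) := by group
      have h3 : x⁻¹ * (a * (x * n * x⁻¹)) * x = x⁻¹ * (x * n * x⁻¹ * a) * x := h2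
      rwa [e1, e2] at h3
    refine s.blkF a ha ?_
    rw [← s.flat.E_inf_conjNN hx hb]
    exact ⟨hRE a ha hca, mem_conj.2 h1⟩

end NSitR

/-- **RE**: the torus. -/
theorem re : StRE.{u} := by
  intro G _ _ S V F B P K _ _ _ k N i β s l hl
  obtain ⟨x, hx, hb⟩ := Key.exists_bad s.flat
  obtain ⟨g, hg, h⟩ := (s.core_of hx hb).torus hl
  have hle : blk N i ⊔ ChoiceBase.cj x (blk N i) ≤ centralizer (F : Set G) := by
    have h1 : blk N i ≤ centralizer (F : Set G) := s.blk_le_V.trans s.flat.V_le_X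
    refine sup_le h1 ?_
    rintro _ ⟨n, hn, rfl⟩
    exact mul_mem (mul_mem hx (h1 hn)) (inv_mem hx)
  refine ⟨g, hle hg, fun r hr => ?_⟩
  obtain ⟨h1, h2⟩ := h r hr.1 hr.2
  have h2' : N.e (g * r * g⁻¹) i = ![l * N.e r i 0, 0] := h2
  exact ⟨⟨h1, by rw [h2']; rfl⟩, by rw [h2']; rfl⟩

/-! ### `Z^g` is a point of `U` -/

/-- If `g ∈ C_G(F)` acts on `R_i` as the multiplication by `l ≠ 0`, then `Z^g` is a point of `U`. -/
theorem NSitR.point_of (s : NSitR S V F B P N i β) {l : K} (hl : l ≠ 0) {g : G}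
    (hg : g ∈ centralizer (F : Set G))
    (h : ∀ r, Rtv N i r → Rtv N i (g * r * g⁻¹) ∧ N.e (g * r * g⁻¹) i 0 = l * N.e r i 0) :
    ∃ q ∈ P, MulAut.conj g • zc (S : Subgroup G) = MulAut.conj q • zc (S : Subgroup G) := by
  classical
  -- the torus element of the block `i`
  obtain ⟨q, hq, hqa⟩ := N.lift (Pi.mulSingle i (dg l hl))
  refine ⟨q, hq, ?_⟩
  have hzU : ∀ z ∈ zc (S : Subgroup G), z ∈ zl (S : Subgroup G) P := fun z hz =>
    Cfsg.Agent.MinSimple.VModule.zc_le_zl _ _ hz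
  have hPU : P ≤ normalizer (zl (S : Subgroup G) P : Set G) := Cfsg.Agent.MinSimple.VModule.le_normalizer_zl _ _
  have key : ∀ z ∈ zc (S : Subgroup G), g * z * g⁻¹ = q * z * q⁻¹ := by
    intro z hz
    obtain ⟨r, hr, her, hrz⟩ := s.zF z hz
    have hzU' := hzU z hz
    obtain ⟨h1, h2⟩ := h r hr
    have e1 : g * z * g⁻¹ = g * r * g⁻¹ * (r⁻¹ * z) := by
      have h3 := mem_centralizer_iff.1 hg _ hrz
      calc g * z * g⁻¹ = g * r * ((r⁻¹ * z) * g⁻¹) := by group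
        _ = g * r * (g⁻¹ * (r⁻¹ * z)) := by
          congr 1
          rw [eq_inv_mul_iff_mul_eq, ← mul_assoc, ← h3, mul_inv_cancel_right]
        _ = _ := by group
    have hrU : r⁻¹ * z ∈ zl (S : Subgroup G) P := mul_mem (inv_mem hr.1.1) hzU'
    have hzi1 : N.e z i 1 = 0 := by rw [← her]; exact hr.2
    refine NF.NatR.e_inj (M := N) ?_ (NF.NatR.cmem hPU hq hzU') ?_
    · rw [e1]; exact mul_mem h1.1.1 hrU
    · funext j
      rw [e1, N.mul _ h1.1.1 _ hrU, N.mul _ (inv_mem hr.1.1) _ hzU', NF.NatR.e_inv (M := N) hr.1.1, hqa.1 z hzU' j]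
      by_cases hj : j = i
      · subst hj
        rw [Pi.add_apply, Pi.add_apply, Pi.neg_apply, her, neg_add_cancel, add_zero, Pi.mulSingle_eq_same]
        refine ext2 ?_ ?_
        · rw [h2, her, ap_zero', dg_00, dg_01]; simp
        · rw [h1.2, ap_one', dg_10, dg_11, hzi1]; simp
      · rw [Pi.add_apply, Pi.add_apply, Pi.neg_apply, h1.1.2 j hj, hr.1.2 j hj, Pi.mulSingle_eq_of_ne hj, ap_one]
        simp
  ext y
  rw [mem_conj', mem_conj']
  constructor
  · rintro ⟨z, hz, rfl⟩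
    exact ⟨z, hz, key z hz⟩
  · rintro ⟨z, hz, rfl⟩
    exact ⟨z, hz, (key z hz).symm⟩

/-- **(T8)** `R_i#` is fused in `C_G(F)` by elements `g` such that `Z^g` is a point of `U`. -/
theorem NSitR.tor_point (s : NSitR S V F B P N i β) (ht : Tor (F := F) N i) {r r' : G} (hr : Rtv N i r)
    (hr1 : r ≠ 1) (hr' : Rtv N i r') (hr1' : r' ≠ 1) :
    ∃ g ∈ centralizer (F : Set G), g * r * g⁻¹ = r' ∧
      ∃ q ∈ P, MulAut.conj g • zc (S : Subgroup G) = MulAut.conj q • zc (S : Subgroup G) := by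
  have hne : ∀ {v : G}, Rtv N i v → v ≠ 1 → N.e v i 0 ≠ 0 := by
    intro v hv hv1 h0
    refine hv1 (mem_bot.1 ((N.ker v hv.1.1).1 ?_))
    funext j
    by_cases hj : j = i
    · subst hj; exact ext2 h0 hv.2
    · exact hv.1.2 j hj
  have h0 := hne hr hr1
  have h0' := hne hr' hr1'
  have hl : N.e r' i 0 / N.e r i 0 ≠ 0 := div_ne_zero h0' h0
  obtain ⟨g, hg, h⟩ := ht _ hl
  refine ⟨g, hg, ?_, s.point_of hl hg h⟩
  obtain ⟨h1, h2⟩ := h r hr
  refine NF.NatR.e_inj (M := N) h1.1.1 hr'.1.1 ?_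
  funext j
  by_cases hj : j = i
  · subst hj
    refine ext2 ?_ (by rw [h1.2, hr'.2])
    rw [h2, div_mul_cancel₀ _ h0]
  · rw [h1.1.2 j hj, hr'.1.2 j hj]

end Cfsg.Agent.Omega.NOThreeL.RLow
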