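import Cfsg.Agent.Omega.NOThreeL.RLow.RRLow
import Cfsg.Agent.Omega.NOThreeL.RLow.RA
import Cfsg.Agent.Omega.NOThreeL.RLow.SymR
import Cfsg.Agent.Omega.NOThreeL.RLow.RC.RC
import Cfsg.Agent.Omega.NOThreeL.RLow.RD
import Cfsg.Agent.Omega.NOThreeL.RLow.Torus
import Cfsg.Agent.Omega.NOThreeL.RLow.CER
import Cfsg.Agent.Omega.NOThreeL.RLow.RTwo
import Cfsg.Agent.Omega.NOThreeL.RLow.KOneA

/-!
# THEOREM R-LOW (#21762, helper597), complete

Box R of NO-3L (`Data S`, some `C_Z(P) ≠ 1`), not (A); K-free.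

* `parts : Parts` : RA (helper703), RB (helper961), RC (helper703, 535, 343, 652; text helper343 (b4) / helper535),
  RD (helper342, 652), RE (helper19), RF (helper883), R2 (helper319; LEMMA HALF helper535), R3 (helper920, 190, 770);
* `zl_MZ_le` : **`V* = ⟨Z^⟨P*(S)⟩⟩ ≤ Q = O₂(C_G(Z))` if `V*` is not FF**;
* `zl_LL_le`, `rr_le` : `⟨Z^L⟩ ≤ Q` for `L = LL S (RR S)`, `RR S ≤ Q` (V* FF or not).
-/

set_option autoImplicit false

namespace Cfsg.Agent.Omega.NOThreeL.RLow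

open Subgroup Cfsg Cfsg.Agent.ZN Cfsg.Agent.Omega.MinPar Cfsg.Agent.Omega.Frame Cfsg.Agent.Omega.FrameNOFF
open Cfsg.Agent.Omega.Node.NO3L (Data)
open Cfsg.Agent.Omega.NOThreeL.Basic (CaseA)
open Cfsg.Agent.Omega.NOThreeL.Merge (MZ)
open Cfsg.Agent.Omega.NO3S (FFMod)
open Cfsg.Agent.Omega.NOThreeL.RZ (RR LL)

universe u

/-- **All parts of THEOREM R-LOW.** -/
theorem parts : Parts.{u} where
  ra := ra
  rb := SymR.rb
  rc := rc
  rd := RD.rd
  re := re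
  rf := CER.stRF
  r2 := r2
  r3 := KOne.r3

variable {G : Type u} [Group G] [Finite G] {S : Sylow 2 G}

/-- **THEOREM R-LOW.** -/
theorem zl_MZ_le (hG : Ctx G) (hF : Full (S : Subgroup G)) (D : Data (S : Subgroup G))
    (hA : ¬ CaseA (S : Subgroup G))
    (hR : ∃ R, IsParS (S : Subgroup G) R ∧ zc (S : Subgroup G) ⊓ centralizer (R : Set G) ≠ ⊥)
    (hff : ¬ FFMod (S : Subgroup G) (MZ (S : Subgroup G))) :
    zl (S : Subgroup G) (MZ (S : Subgroup G)) ≤ o2 (CZ (S : Subgroup G)) := low_of parts hG hF D hA hR hff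

/-- `⟨Z^L⟩ ≤ Q`, `L = LL S (RR S)`. -/
theorem zl_LL_le (hG : Ctx G) (hF : Full (S : Subgroup G)) (D : Data (S : Subgroup G))
    (hA : ¬ CaseA (S : Subgroup G))
    (hex : ∃ R, IsParS (S : Subgroup G) R ∧ zc (S : Subgroup G) ⊓ centralizer (R : Set G) ≠ ⊥)
    (hne : RR (S : Subgroup G) ≠ ⊥) :
    zl (S : Subgroup G) (LL (S : Subgroup G) (RR (S : Subgroup G))) ≤ o2 (CZ (S : Subgroup G)) :=
  RRLow.zl_LL_le parts hG hF D hA hex hne

/-- `RR S ≤ Q`. -/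
theorem rr_le (hG : Ctx G) (hF : Full (S : Subgroup G)) (D : Data (S : Subgroup G))
    (hA : ¬ CaseA (S : Subgroup G))
    (hex : ∃ R, IsParS (S : Subgroup G) R ∧ zc (S : Subgroup G) ⊓ centralizer (R : Set G) ≠ ⊥) :
    RR (S : Subgroup G) ≤ o2 (CZ (S : Subgroup G)) := RRLow.rr_le parts hG hF D hA hex

end Cfsg.Agent.Omega.NOThreeL.RLow
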