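import Cfsg.Agent.Omega.NOThreeL.Low.LA.Plug
import Cfsg.Agent.Omega.NOThreeL.RLow.Defs
import Cfsg.Agent.Omega.NO3b.Final

/-!
# THEOREM R-LOW (#21762), part R1: the front (TCARD #22429)

`Data S` (radicals allowed), not (A), `V* = ⟨Z^M₀⟩` not FF and not in `O₂(C_G(Z))`.

* `splus` : **(S+)** `y ∩ F ≠ 1` for a point `y = Z^g` implies `W_y ∩ X ≤ O₂(X)` (not (A) for `C_G(d)`, `1 ≠ d ∈ y ∩ F`);
* `exists_fr_of`, `exists_frame` : the front of `Low.LA` (galleries of good lines) for `Data`;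
* `r1 : StR1`.
-/

set_option autoImplicit false

namespace Cfsg.Agent.Omega.NOThreeL.RLow

open Subgroup Cfsg
open Cfsg.Agent.ZN hiding mem_zc le_o2 le_normalizer_o2 zl_le
open Cfsg.Agent.Omega.MinPar Cfsg.Agent.Omega.Frame
open Cfsg.Agent.Omega.FrameNOFF
open Cfsg.Agent.Omega.NoFF.Basic (conj_conj mem_conj conj_le_iff conj_le_centralizer comm_symm comm_mono Gal)
open Cfsg.Agent.Omega.NOne.Flat (EE WW Hyp)
open Cfsg.Agent.Omega.NOThreeL.Basic (CaseA WP zl_le_WP)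
open Cfsg.Agent.Omega.NOThreeL.Pair (conj_eq_of_mem)
open Cfsg.Agent.Omega.NOThreeL.Star (YS)
open Cfsg.Agent.Omega.NOThreeL.Merge (MZ)
open Cfsg.Agent.Omega.NO3b (Wc.Root Wc.VL Wc.ML)
open Cfsg.Agent.Omega.NO3S (FFMod)
open Cfsg.Agent.Omega.Node.NO3L
open Cfsg.Agent.Omega.NOThreeL.Low (Ch Fr BB exists_gal zc_ne_bot exists_max_bad)
open Cfsg.Agent.ZN.ChoiceBase (isPGroup_cj cj)
open Cfsg.Agent.MinSimple.VModule (zc_le_zl zc_le zl_le_zc o2_isPGroup le_normalizer_o2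
  mem_zc le_o2 o2_le le_centralizer_zc zc_sq)
open scoped Pointwise

universe u

variable {G : Type u} [Group G] [Finite G]

omit [Finite G] in
/-- `C_G(z)` is long for `1 ≠ z ∈ Z`. -/
theorem isLong_cent {S : Sylow 2 G} {z : G} (hz : z ∈ zc (S : Subgroup G)) (hz1 : z ≠ 1) :
    IsLong (S : Subgroup G) (centralizer ({z} : Set G)) := by
  have hC : CZ (S : Subgroup G) ≤ centralizer ({z} : Set G) :=
    centralizer_le (Set.singleton_subset_iff.2 hz)
  exact ⟨isLoc_centralizer S (mem_zc.1 hz).2.2 hz1 ((le_CZ S).trans hC), hC⟩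

/-- **(S+)**: a point `y = Z^g` which meets `F`: `W_y ∩ X ≤ O₂(X)`. -/
theorem splus {S : Sylow 2 G} (D : Data (S : Subgroup G)) (hA : ¬ CaseA (S : Subgroup G)) {F : Subgroup G}
    {g : G} (hne : MulAut.conj g • zc (S : Subgroup G) ⊓ F ≠ ⊥) :
    MulAut.conj g • WP (S : Subgroup G) ⊓ centralizer (F : Set G) ≤ o2 (centralizer (F : Set G)) := by
  obtain ⟨⟨d, hd⟩, hd0⟩ := Subgroup.ne_bot_iff_exists_ne_one.1 hne
  have hd1 : d ≠ 1 := fun h0 => hd0 (Subtype.ext h0)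
  obtain ⟨hdz, hdF⟩ := mem_inf.1 hd
  have hz : g⁻¹ * d * g ∈ zc (S : Subgroup G) := mem_conj.1 hdz
  have hz1 : g⁻¹ * d * g ≠ 1 := fun h0 => hd1 (by
    have h1 := congrArg (fun t => g * t * g⁻¹) h0
    simpa [mul_assoc] using h1)
  have hL := isLong_cent hz hz1
  have h1 := conj_le_iff (g := g).2 (Basic.NotA.WP_le D hA hL)
  set Q : Subgroup G := MulAut.conj g • o2 (centralizer ({g⁻¹ * d * g} : Set G)) with hQ
  have hQ2 : IsPGroup 2 Q := isPGroup_cj g (o2_isPGroup _)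
  have hX : ∀ x ∈ centralizer (F : Set G), g⁻¹ * x * g ∈ centralizer ({g⁻¹ * d * g} : Set G) := by
    intro x hx
    rw [mem_centralizer_iff]
    rintro _ rfl
    have h2 := mem_centralizer_iff.1 hx d hdF
    have e1 : g⁻¹ * d * g * (g⁻¹ * x * g) = g⁻¹ * (d * x) * g := by group
    have e2 : g⁻¹ * x * g * (g⁻¹ * d * g) = g⁻¹ * (x * d) * g := by group
    rw [e1, e2, h2]
  refine (inf_le_inf_right _ h1).trans (le_o2 inf_le_right (hQ2.to_le inf_le_left) ?_)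
  have key : ∀ x ∈ centralizer (F : Set G), ∀ b ∈ Q ⊓ centralizer (F : Set G),
      x * b * x⁻¹ ∈ Q ⊓ centralizer (F : Set G) := by
    intro x hx b hb
    refine ⟨?_, (centralizer (F : Set G)).mul_mem ((centralizer (F : Set G)).mul_mem hx hb.2)
      ((centralizer (F : Set G)).inv_mem hx)⟩
    change x * b * x⁻¹ ∈ Q
    have h3 := mem_conj.1 (hQ ▸ hb.1 : b ∈ MulAut.conj g • o2 (centralizer ({g⁻¹ * d * g} : Set G)))
    rw [hQ, mem_conj]
    have h4 := (mem_normalizer_iff.1 (le_normalizer_o2 _ (hX x hx)) _).1 h3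
    have e : g⁻¹ * x * g * (g⁻¹ * b * g) * (g⁻¹ * x * g)⁻¹ = g⁻¹ * (x * b * x⁻¹) * g := by group
    rwa [e] at h4
  intro x hx
  rw [mem_normalizer_iff]
  intro b
  refine ⟨key x hx b, fun hb => ?_⟩
  have h2 := key x⁻¹ (inv_mem hx) _ hb
  have e : x⁻¹ * (x * b * x⁻¹) * x⁻¹⁻¹ = b := by group
  rwa [e] at h2

/-- A line on a point which meets `F` is good. -/
theorem good_of_ne {S : Sylow 2 G} (D : Data (S : Subgroup G)) (hA : ¬ CaseA (S : Subgroup G))
    {V F : Subgroup G} (hyp : Hyp V F) {P : Subgroup G} (hP : IsParS (S : Subgroup G) P)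
    (hV : zl (S : Subgroup G) P ≤ V) {g : G} (hg : g ∈ P)
    (hne : MulAut.conj g • zc (S : Subgroup G) ⊓ F ≠ ⊥) : zl (S : Subgroup G) P ≤ EE V F := by
  have h1 := conj_le_iff (g := g).2 (zl_le_WP hP)
  rw [zl_conj_eq hg] at h1
  exact le_inf hV ((le_inf h1 (hV.trans hyp.V_le_X)).trans (splus D hA hne))

/-- **The front exists**, for any frame `V`, `F` with `W_F ≤ S`, `V* ≰ E`. -/
theorem exists_fr_of {S : Sylow 2 G} (hG : Ctx G) (hF : Full (S : Subgroup G)) (D : Data (S : Subgroup G))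
    (hA : ¬ CaseA (S : Subgroup G)) {V F : Subgroup G} (hyp : Hyp V F)
    (hMV : YS (S : Subgroup G) ≤ normalizer (V : Set G)) (hZV : zc (S : Subgroup G) ≤ V)
    (hWS : WW V F ≤ (S : Subgroup G)) (hnE : ¬ zl (S : Subgroup G) (YS (S : Subgroup G)) ≤ EE V F) :
    ∃ (F' : Subgroup G) (n : ℕ) (P : Subgroup G), Fr S (YS (S : Subgroup G)) V F' (n + 1) ∧
      IsParS (S : Subgroup G) P ∧ ¬ zl (S : Subgroup G) P ≤ EE V F' := by
  have hPM : ∀ P, IsParS (S : Subgroup G) P → P ≤ YS (S : Subgroup G) := fun P hP => NOThreeL.Star.le_YS hP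
  obtain ⟨P₀, hP₀⟩ := hG.exists_isParS hF
  -- some chamber has a bad line
  have hex : ∃ n : ℕ, ∃ g, Ch (YS (S : Subgroup G)) (S : Subgroup G) (WW V F) n g ∧
      ∃ P, IsParS (S : Subgroup G) P ∧ ¬ MulAut.conj g • zl (S : Subgroup G) P ≤ EE V F := by
    by_contra hcon
    push Not at hcon
    apply hnE
    refine iSup_le fun y => ?_
    obtain ⟨k, hk⟩ := exists_gal y.2
    have h1 := hcon k y ⟨1, one_mem _, by rwa [map_one, one_smul], hk⟩ P₀ hP₀
    exact (conj_le_iff.2 (zc_le_zl (S : Subgroup G) P₀)).trans h1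
  classical
  obtain ⟨g, hg, P, hP, hPE⟩ := Nat.find_spec hex
  have hmin := fun j (hj : j < Nat.find hex) => Nat.find_min hex hj
  set n := Nat.find hex with hn
  have hgM := hg.mem hPM
  have hgV := hMV hgM
  have hgV' : g⁻¹ ∈ normalizer (V : Set G) := inv_mem hgV
  have eW : WW V (MulAut.conj g⁻¹ • F) = MulAut.conj g⁻¹ • WW V F := (NOne.Flat.WW_conj hgV').symm
  have eE : EE V (MulAut.conj g⁻¹ • F) = MulAut.conj g⁻¹ • EE V F := (NOne.Flat.EE_conj hgV').symm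
  -- chambers for `F^{g⁻¹}`
  have hCh : ∀ j x, Ch (YS (S : Subgroup G)) (S : Subgroup G) (WW V (MulAut.conj g⁻¹ • F)) j x →
      Ch (YS (S : Subgroup G)) (S : Subgroup G) (WW V F) j (g * x) := by
    rintro j x ⟨a, ha, haW, hax⟩
    refine ⟨g * a, mul_mem hgM ha, ?_, hax.mul_left g⟩
    rw [eW] at haW
    have h1 := conj_le_iff (g := g).2 haW
    rwa [conj_conj, mul_inv_cancel, map_one, one_smul, conj_conj] at h1
  have hCh' : Ch (YS (S : Subgroup G)) (S : Subgroup G) (WW V (MulAut.conj g⁻¹ • F)) n 1 := by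
    obtain ⟨a, ha, haW, hag⟩ := hg
    refine ⟨g⁻¹ * a, mul_mem (inv_mem hgM) ha, ?_, ?_⟩
    · rw [eW, ← conj_conj]
      exact conj_le_iff.2 haW
    · have := hag.mul_left g⁻¹
      rwa [inv_mul_cancel] at this
  have hbad : ¬ zl (S : Subgroup G) P ≤ EE V (MulAut.conj g⁻¹ • F) := by
    intro h1
    apply hPE
    rw [eE] at h1
    have h2 := conj_le_iff (g := g).2 h1
    rwa [conj_conj, mul_inv_cancel, map_one, one_smul] at h2
  have hyp' := hyp.conj hgV'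
  have hfr : Fr S (YS (S : Subgroup G)) V (MulAut.conj g⁻¹ • F) n := by
    refine ⟨hG.char2, D.noff, hyp', hPM, hMV, hZV, ?_, hCh'⟩
    intro j hj x hx Q hQ
    by_contra hcon
    refine hmin j hj ⟨g * x, hCh j x hx, Q, hQ, fun h1 => hcon ?_⟩
    rw [eE]
    have h2 := conj_le_iff (g := g⁻¹).2 h1
    rwa [conj_conj, inv_mul_cancel_left] at h2
  rcases hn0 : n with _ | k
  · -- `n = 0`: `W ≤ S`, so `Z ≤ F`
    exfalso
    rw [hn0] at hCh'
    have h1 := hCh'.zero_le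
    rw [map_one, one_smul] at h1
    have h2 : zc (S : Subgroup G) ≤ MulAut.conj g⁻¹ • F := by
      rw [← hyp'.cent_VW]
      refine le_inf hZV (comm_symm (h1.trans ?_))
      exact fun s hs => mem_centralizer_iff.mpr fun z hz => ((mem_zc.mp hz).2.1 s hs).symm
    refine hbad (good_of_ne D hA hyp' hP (hfr.zl_le_V hP) P.one_mem ?_)
    rw [map_one, one_smul, inf_eq_left.2 h2]
    exact zc_ne_bot (S := S) hG
  · rw [hn0] at hfr
    exact ⟨_, k, P, hfr, hP, hbad⟩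

/-- The root of the w.c. frame for `M₀ = ⟨P*(S)⟩`. -/
theorem root_YS {S : Sylow 2 G} (hG : Ctx G) (hF : Full (S : Subgroup G)) (D : Data (S : Subgroup G))
    (hff : ¬ FFMod (S : Subgroup G) (YS (S : Subgroup G))) : Wc.Root S (YS (S : Subgroup G)) :=
  MergeNF.root_of_isLoc hG.char2 (NOThreeL.Star.isLoc hG.char2 D.noff (NOThreeL.Star.S_le_YS hG hF)
    (hG.sylow_ne_bot S)) (NOThreeL.Star.cs_le_o2 hG.char2 (NOThreeL.Star.S_le_YS hG hF))
    (NO3b.Final.notFF_of (NOThreeL.Star.S_le_YS hG hF) hff)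

/-- **The frame exists**: a maximal bad `F` of `V = VL S M₀` with `W_F ≤ S`, `V* ≰ E`. -/
theorem exists_frame {S : Sylow 2 G} (hG : Ctx G) (hF : Full (S : Subgroup G)) (D : Data (S : Subgroup G))
    (hff : ¬ FFMod (S : Subgroup G) (YS (S : Subgroup G)))
    (hlow : ¬ zl (S : Subgroup G) (YS (S : Subgroup G)) ≤ o2 (CZ (S : Subgroup G))) :
    ∃ F : Subgroup G, Hyp (Wc.VL (S : Subgroup G) (YS (S : Subgroup G))) F ∧
      WW (Wc.VL (S : Subgroup G) (YS (S : Subgroup G))) F ≤ (S : Subgroup G) ∧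
      ¬ zl (S : Subgroup G) (YS (S : Subgroup G)) ≤
        EE (Wc.VL (S : Subgroup G) (YS (S : Subgroup G))) F := by
  have root := root_YS hG hF D hff
  obtain ⟨F, hyp, hWS, hWL⟩ := exists_max_bad root hG.char2 (F₀ := zc (S : Subgroup G))
    ⟨zc_ne_bot hG, NO3b.Wc.Root.zc_le_V, fun h1 => hlow (root.zl_le_V.trans h1)⟩
  exact ⟨F, hyp, hWS, fun h1 =>
    hWL (hyp.cent_of_le_EE (Spread.Plug.stmtOff G _ _ hyp) (root.not_offM hWS) h1).1⟩

/-- The situation, from the front. -/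
theorem sit_of (hG : Ctx G) {S : Sylow 2 G} (D : Data (S : Subgroup G))
    (hA : ¬ CaseA (S : Subgroup G)) {V F P : Subgroup G} {k : ℕ} (hVS : V ≤ (S : Subgroup G))
    (h : Fr S (YS (S : Subgroup G)) V F (k + 1)) (hP : IsParS (S : Subgroup G) P)
    (hPE : ¬ zl (S : Subgroup G) P ≤ EE V F) (hc : 2 < Nat.card (zc (S : Subgroup G))) :
    SitG {Q | IsParS (S : Subgroup G) Q} S V F (BB (YS (S : Subgroup G)) (S : Subgroup G) V F (k + 1) ⊔ F) P := by
  obtain ⟨R, hR, m, hm, hCm⟩ := h.exists_adj rfl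
  have c1 : BB (YS (S : Subgroup G)) (S : Subgroup G) V F (k + 1) ⊔ F ≤ WW V F :=
    sup_le Fr.B_le_W (h.hyp.F_le_E.trans Hyp.E_le_W)
  have c2 : BB (YS (S : Subgroup G)) (S : Subgroup G) V F (k + 1) ⊔ F ≤ (S : Subgroup G) :=
    sup_le h.B_le_S (h.hyp.F_le_V.trans hVS)
  have c3 : WW V F ⊓ centralizer ((BB (YS (S : Subgroup G)) (S : Subgroup G) V F (k + 1) ⊔ F :
      Subgroup G) : Set G) ≤ (S : Subgroup G) := by
    refine le_trans (inf_le_inf_left _ (centralizer_le ?_)) h.cent_le_S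
    exact SetLike.coe_subset_coe.2 le_sup_left
  have hgood : ∀ Q, IsParS (S : Subgroup G) Q → zl (S : Subgroup G) Q ≤ EE V F →
      zl (S : Subgroup G) Q ≤ BB (YS (S : Subgroup G)) (S : Subgroup G) V F (k + 1) ⊔ F := by
    intro Q hQ hQE
    have h1 := Fr.mem_Gd (M := YS (S : Subgroup G)) (n := k + 1) le_rfl h.one hQ
      (by rwa [map_one, one_smul])
    rw [map_one, one_smul] at h1
    exact (Fr.le_BB' h1).trans le_sup_left
  have hRE : zl (S : Subgroup G) R ≤ EE V F := by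
    have h1 := h.least k (Nat.lt_succ_self k) m hCm R hR
    rwa [zl_conj_eq hm] at h1
  have hpt : ∀ Q ∈ {Q | IsParS (S : Subgroup G) Q}, ¬ zl (S : Subgroup G) Q ≤ EE V F → ∀ g ∈ Q,
      MulAut.conj g • zc (S : Subgroup G) ⊓ F = ⊥ := by
    intro Q hQ hQE g hg
    by_contra hne
    exact hQE (good_of_ne D hA h.hyp hQ (h.zl_le_V hQ) hg hne)
  exact ⟨⟨hG, D, hA, h.hyp, hVS, hP, h.zl_le_V hP, hPE, le_sup_right, c1,
    Fr.X_norm_sup, h.sup_comm, h.sup_sq, c2, c3, (zc_le_zl _ R).trans (hgood R hR hRE), hpt P hP hPE, hc⟩,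
    fun Q hQ => h.zl_le_V hQ, hgood, hpt⟩

/-- box R: `|Z| ≥ 4` -/
theorem card_zc {S : Sylow 2 G} {P : Subgroup G} (hP : IsParS (S : Subgroup G) P)
    (hne : zc (S : Subgroup G) ⊓ centralizer (P : Set G) ≠ ⊥) : 2 < Nat.card (zc (S : Subgroup G)) := by
  have h1 : 1 < Nat.card (zc (S : Subgroup G) ⊓ centralizer (P : Set G) : Subgroup G) :=
    (one_lt_card_iff_ne_bot _).2 hne
  have h2 : zc (S : Subgroup G) ⊓ centralizer (P : Set G) < zc (S : Subgroup G) := by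
    refine lt_of_le_of_ne inf_le_left fun h0 => hP.not_zc ?_
    have h3 : zc (S : Subgroup G) ≤ centralizer (P : Set G) := inf_eq_left.1 h0
    exact (comm_symm h3).trans (centralizer_le_normalizer _)
  have h3 : Nat.card (zc (S : Subgroup G) ⊓ centralizer (P : Set G) : Subgroup G) <
      Nat.card (zc (S : Subgroup G)) := by
    by_contra hcon
    exact h2.ne (eq_of_le_of_card_ge h2.le (not_lt.1 hcon))
  omega

/-- **R1** -/
theorem r1 : StR1.{u} := by
  intro G _ _ hG S hF D hA hR hff hlow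
  obtain ⟨P₀, hP₀, hne⟩ := hR
  obtain ⟨F, hyp, hWS, hnE⟩ := exists_frame hG hF D hff hlow
  have root := root_YS hG hF D hff
  obtain ⟨F', n, P, h, hP, hPE⟩ := exists_fr_of hG hF D hA hyp
    (root.L_le.trans (NO3b.Wc.ML_le_norm_V _ _)) NO3b.Wc.Root.zc_le_V hWS hnE
  exact ⟨_, F', _, P, sit_of hG D hA root.V_le_S h hP hPE (card_zc hP₀ hne)⟩

end Cfsg.Agent.Omega.NOThreeL.RLow
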