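import Cfsg.Agent.Omega.NOThreeL.RLow.Front
import Cfsg.Agent.Omega.NOThreeL.RLow.FrontP

/-!
# THEOREM R-LOW, the front for a family `Fa` of minimal parabolics and a root `L = ⟨Fa⟩`

* `exists_gal` : galleries;
* `exists_fr_of` : the front;
* `sit_of` : the situation `SitG Fa S V F B P`;
* `exists_sit` : if the root module `⟨Z^L⟩` is not FF and not in `Q`, then there is a situation.
-/

set_option autoImplicit false

namespace Cfsg.Agent.Omega.NOThreeL.RLow.FL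

open Subgroup Cfsg
open Cfsg.Agent.ZN hiding mem_zc le_o2 le_normalizer_o2 zl_le
open Cfsg.Agent.Omega.MinPar Cfsg.Agent.Omega.Frame
open Cfsg.Agent.Omega.FrameNOFF
open Cfsg.Agent.Omega.NoFF.Basic (conj_conj mem_conj conj_le_iff conj_le_centralizer comm_symm comm_mono Gal)
open Cfsg.Agent.Omega.NOne.Flat (EE WW Hyp)
open Cfsg.Agent.Omega.NOThreeL.Basic (CaseA WP zl_le_WP)
open Cfsg.Agent.Omega.NOThreeL.Pair (conj_eq_of_mem)
open Cfsg.Agent.Omega.NO3b (Wc.Root Wc.VL Wc.ML)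
open Cfsg.Agent.Omega.Node.NO3L
open Cfsg.Agent.Omega.NOThreeL.Low (zc_ne_bot exists_max_bad)
open Cfsg.Agent.Omega.NOThreeL.RLow.FP
open Cfsg.Agent.ZN.ChoiceBase (isPGroup_cj cj)
open Cfsg.Agent.MinSimple.VModule (zc_le_zl zc_le zl_le_zc o2_isPGroup le_normalizer_o2
  mem_zc le_o2 o2_le le_centralizer_zc zc_sq)
open scoped Pointwise

universe u

variable {G : Type u} [Group G]

/-- The elements of `⟨Fa⟩` are reached by galleries. -/
theorem exists_gal {Fa : Set (Subgroup G)} {y : G} (hy : y ∈ sSup Fa) : ∃ k, Gal Fa k 1 y := by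
  have hy' : y ∈ ⨆ P : {P : Subgroup G // P ∈ Fa}, (P : Subgroup G) := by
    rwa [sSup_eq_iSup'] at hy
  refine Subgroup.iSup_induction (S := fun P : {P : Subgroup G // P ∈ Fa} => (P : Subgroup G))
    (C := fun y => ∃ k, Gal Fa k 1 y) hy' ?_ ?_ ?_
  · rintro ⟨P, hP⟩ p hp
    have := Gal.one (F := Fa) hP (g := 1) hp
    rw [one_mul] at this
    exact ⟨1, this⟩
  · exact ⟨0, Gal.zero _⟩
  · rintro x y ⟨k, hk⟩ ⟨l, hl⟩
    have h1 := hl.mul_left x
    rw [mul_one] at h1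
    exact ⟨k + l, hk.trans h1⟩

section sup

variable [Finite G] {Fa : Set (Subgroup G)} {S : Sylow 2 G} {M V F : Subgroup G} {n : ℕ}

omit [Finite G] in
/-- `B` centralises `F`. -/
theorem B_cent_F : BB Fa M (S : Subgroup G) V F n ≤ centralizer (F : Set G) :=
  Fr.B_le_W.trans Hyp.W_le_X

theorem sup_comm' (h : Fr Fa S M V F n) : BB Fa M (S : Subgroup G) V F n ⊔ F ≤
    centralizer ((BB Fa M (S : Subgroup G) V F n ⊔ F : Subgroup G) : Set G) := by
  have hFF : F ≤ centralizer (F : Set G) := h.hyp.F_le_V.trans h.hyp.V_le_X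
  refine sup_le (comm_symm (sup_le h.B_comm (comm_symm B_cent_F)))
    (comm_symm (sup_le B_cent_F hFF))

theorem sup_sq (h : Fr Fa S M V F n) : ∀ b ∈ BB Fa M (S : Subgroup G) V F n ⊔ F, b ^ 2 = 1 := by
  intro b hb
  have h1 : BB Fa M (S : Subgroup G) V F n ≤ normalizer (F : Set G) :=
    B_cent_F.trans (centralizer_le_normalizer _)
  rw [← SetLike.mem_coe, Subgroup.coe_mul_of_left_le_normalizer_right _ _ h1, Set.mem_mul] at hb
  obtain ⟨a, ha, f, hf, rfl⟩ := hb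
  have hcm : Commute a f := (mem_centralizer_iff.1 (B_cent_F ha) f hf).symm
  rw [hcm.mul_pow, h.B_sq a ha, h.hyp.sq f (h.hyp.F_le_V hf), one_mul]

omit [Finite G] in
theorem X_norm_sup : centralizer (F : Set G) ≤
    normalizer ((BB Fa M (S : Subgroup G) V F n ⊔ F : Subgroup G) : Set G) := by
  intro x hx
  have h1 : MulAut.conj x • (BB Fa M (S : Subgroup G) V F n ⊔ F) = BB Fa M (S : Subgroup G) V F n ⊔ F := by
    rw [Subgroup.smul_sup, Fr.conj_BB hx, NOne.Flat.conj_eq_of_cent hx]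
  rw [mem_normalizer_iff]
  intro b
  constructor
  · intro hb
    rw [← h1, mem_conj]
    simpa [mul_assoc] using hb
  · intro hb
    rw [← h1, mem_conj] at hb
    simpa [mul_assoc] using hb

end sup

variable [Finite G] {S : Sylow 2 G} {Fa : Set (Subgroup G)}

/-- **The front exists**, for any frame `V`, `F` with `W_F ≤ S`, `⟨Z^L⟩ ≰ E`, `L = ⟨Fa⟩`. -/
theorem exists_fr_of (hG : Ctx G) (D : Data (S : Subgroup G)) (hA : ¬ CaseA (S : Subgroup G))
    (hFa : ∀ P ∈ Fa, IsParS (S : Subgroup G) P) (hne : Fa.Nonempty) {V F : Subgroup G} (hyp : Hyp V F)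
    (hMV : sSup Fa ≤ normalizer (V : Set G)) (hZV : zc (S : Subgroup G) ≤ V)
    (hWS : WW V F ≤ (S : Subgroup G)) (hnE : ¬ zl (S : Subgroup G) (sSup Fa) ≤ EE V F) :
    ∃ (F' : Subgroup G) (n : ℕ) (P : Subgroup G), Fr Fa S (sSup Fa) V F' (n + 1) ∧
      P ∈ Fa ∧ ¬ zl (S : Subgroup G) P ≤ EE V F' := by
  have hPM : ∀ P ∈ Fa, P ≤ sSup Fa := fun P hP => le_sSup hP
  obtain ⟨P₀, hP₀⟩ := hne
  -- some chamber has a bad line
  have hex : ∃ n : ℕ, ∃ g, Ch Fa (sSup Fa) (S : Subgroup G) (WW V F) n g ∧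
      ∃ P, P ∈ Fa ∧ ¬ MulAut.conj g • zl (S : Subgroup G) P ≤ EE V F := by
    by_contra hcon
    push Not at hcon
    apply hnE
    refine iSup_le fun y => ?_
    obtain ⟨k, hk⟩ := exists_gal y.2
    have h1 := hcon k y ⟨1, one_mem _, by rwa [map_one, one_smul], hk⟩ P₀ hP₀
    exact (conj_le_iff.2 (zc_le_zl (S : Subgroup G) P₀)).trans h1
  classical
  obtain ⟨g, hg, P, hP, hPE⟩ := Nat.find_spec hex
  have hmin := fun j (hj : j < Nat.find hex) => Nat.find_min hex hj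
  set n := Nat.find hex with hn
  have hgM := hg.mem hPM
  have hgV := hMV hgM
  have hgV' : g⁻¹ ∈ normalizer (V : Set G) := inv_mem hgV
  have eW : WW V (MulAut.conj g⁻¹ • F) = MulAut.conj g⁻¹ • WW V F := (NOne.Flat.WW_conj hgV').symm
  have eE : EE V (MulAut.conj g⁻¹ • F) = MulAut.conj g⁻¹ • EE V F := (NOne.Flat.EE_conj hgV').symm
  -- chambers for `F^{g⁻¹}`
  have hCh : ∀ j x, Ch Fa (sSup Fa) (S : Subgroup G) (WW V (MulAut.conj g⁻¹ • F)) j x →
      Ch Fa (sSup Fa) (S : Subgroup G) (WW V F) j (g * x) := by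
    rintro j x ⟨a, ha, haW, hax⟩
    refine ⟨g * a, mul_mem hgM ha, ?_, hax.mul_left g⟩
    rw [eW] at haW
    have h1 := conj_le_iff (g := g).2 haW
    rwa [conj_conj, mul_inv_cancel, map_one, one_smul, conj_conj] at h1
  have hCh' : Ch Fa (sSup Fa) (S : Subgroup G) (WW V (MulAut.conj g⁻¹ • F)) n 1 := by
    obtain ⟨a, ha, haW, hag⟩ := hg
    refine ⟨g⁻¹ * a, mul_mem (inv_mem hgM) ha, ?_, ?_⟩
    · rw [eW, ← conj_conj]
      exact conj_le_iff.2 haW
    · have := hag.mul_left g⁻¹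
      rwa [inv_mul_cancel] at this
  have hbad : ¬ zl (S : Subgroup G) P ≤ EE V (MulAut.conj g⁻¹ • F) := by
    intro h1
    apply hPE
    rw [eE] at h1
    have h2 := conj_le_iff (g := g).2 h1
    rwa [conj_conj, mul_inv_cancel, map_one, one_smul] at h2
  have hyp' := hyp.conj hgV'
  have hfr : Fr Fa S (sSup Fa) V (MulAut.conj g⁻¹ • F) n := by
    refine ⟨hG.char2, D.noff, hyp', hFa, hPM, hMV, hZV, ?_, hCh'⟩
    intro j hj x hx Q hQ
    by_contra hcon
    refine hmin j hj ⟨g * x, hCh j x hx, Q, hQ, fun h1 => hcon ?_⟩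
    rw [eE]
    have h2 := conj_le_iff (g := g⁻¹).2 h1
    rwa [conj_conj, inv_mul_cancel_left] at h2
  rcases Nat.eq_zero_or_pos n with h0 | h0
  · -- distance 0: `Z ≤ F`
    exfalso
    rw [h0] at hCh'
    have hWS' := hCh'.zero_le
    rw [map_one, one_smul] at hWS'
    have hZF : zc (S : Subgroup G) ≤ MulAut.conj g⁻¹ • F := by
      rw [← hyp'.cent_VW]
      refine le_inf hZV (comm_symm (hWS'.trans ?_))
      exact fun s hs => mem_centralizer_iff.mpr fun z hz => ((mem_zc.mp hz).2.1 s hs).symm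
    refine hbad (good_of_ne D hA hyp' (hFa P hP) (hfr.zl_le_V hP) (g := 1) (one_mem _) ?_)
    rw [map_one, one_smul, inf_eq_left.2 hZF]
    exact zc_ne_bot hG
  · obtain ⟨m, hm⟩ : ∃ m, n = m + 1 := ⟨n - 1, by omega⟩
    rw [hm] at hfr
    exact ⟨_, m, P, hfr, hP, hbad⟩

/-- The situation, from the front. -/
theorem sit_of (hG : Ctx G) (D : Data (S : Subgroup G))
    (hA : ¬ CaseA (S : Subgroup G)) {M V F P : Subgroup G} {k : ℕ} (hVS : V ≤ (S : Subgroup G))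
    (h : Fr Fa S M V F (k + 1)) (hP : P ∈ Fa)
    (hPE : ¬ zl (S : Subgroup G) P ≤ EE V F) (hc : 2 < Nat.card (zc (S : Subgroup G))) :
    SitG Fa S V F (BB Fa M (S : Subgroup G) V F (k + 1) ⊔ F) P := by
  obtain ⟨R, hR, m, hm, hCm⟩ := h.exists_adj rfl
  have c1 : BB Fa M (S : Subgroup G) V F (k + 1) ⊔ F ≤ WW V F :=
    sup_le Fr.B_le_W (h.hyp.F_le_E.trans Hyp.E_le_W)
  have c2 : BB Fa M (S : Subgroup G) V F (k + 1) ⊔ F ≤ (S : Subgroup G) :=
    sup_le h.B_le_S (h.hyp.F_le_V.trans hVS)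
  have c3 : WW V F ⊓ centralizer ((BB Fa M (S : Subgroup G) V F (k + 1) ⊔ F :
      Subgroup G) : Set G) ≤ (S : Subgroup G) := by
    refine le_trans (inf_le_inf_left _ (centralizer_le ?_)) h.cent_le_S
    exact SetLike.coe_subset_coe.2 le_sup_left
  have hgood : ∀ Q ∈ Fa, zl (S : Subgroup G) Q ≤ EE V F →
      zl (S : Subgroup G) Q ≤ BB Fa M (S : Subgroup G) V F (k + 1) ⊔ F := by
    intro Q hQ hQE
    have h1 := Fr.mem_Gd (M := M) (n := k + 1) le_rfl h.one hQ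
      (by rwa [map_one, one_smul])
    rw [map_one, one_smul] at h1
    exact (Fr.le_BB' h1).trans le_sup_left
  have hRE : zl (S : Subgroup G) R ≤ EE V F := by
    have h1 := h.least k (Nat.lt_succ_self k) m hCm R hR
    rwa [zl_conj_eq hm] at h1
  have hpt : ∀ Q ∈ Fa, ¬ zl (S : Subgroup G) Q ≤ EE V F → ∀ g ∈ Q,
      MulAut.conj g • zc (S : Subgroup G) ⊓ F = ⊥ := by
    intro Q hQ hQE g hg
    by_contra hne
    exact hQE (good_of_ne D hA h.hyp (h.PP Q hQ) (h.zl_le_V hQ) hg hne)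
  exact ⟨⟨hG, D, hA, h.hyp, hVS, h.PP P hP, h.zl_le_V hP, hPE, le_sup_right, c1,
    X_norm_sup, sup_comm' h, sup_sq h, c2, c3, (zc_le_zl _ R).trans (hgood R hR hRE), hpt P hP hPE, hc⟩,
    fun Q hQ => h.zl_le_V hQ, hgood, hpt⟩

/-- **The situation exists**, for a root `L = ⟨Fa⟩` with `⟨Z^L⟩ ≰ Q`. -/
theorem exists_sit (hG : Ctx G) (D : Data (S : Subgroup G)) (hA : ¬ CaseA (S : Subgroup G))
    (hFa : ∀ P ∈ Fa, IsParS (S : Subgroup G) P) (hne : Fa.Nonempty)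
    (root : Wc.Root S (sSup Fa)) (hc : 2 < Nat.card (zc (S : Subgroup G)))
    (hlow : ¬ zl (S : Subgroup G) (sSup Fa) ≤ o2 (CZ (S : Subgroup G))) :
    ∃ V F B P, P ∈ Fa ∧ SitG Fa S V F B P := by
  obtain ⟨F, hyp, hWS, hWL⟩ := exists_max_bad root hG.char2 (F₀ := zc (S : Subgroup G))
    ⟨zc_ne_bot hG, NO3b.Wc.Root.zc_le_V, fun h1 => hlow (root.zl_le_V.trans h1)⟩
  have hnE : ¬ zl (S : Subgroup G) (sSup Fa) ≤ EE (Wc.VL (S : Subgroup G) (sSup Fa)) F := fun h1 =>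
    hWL (hyp.cent_of_le_EE (Spread.Plug.stmtOff G _ _ hyp) (root.not_offM hWS) h1).1
  obtain ⟨F', n, P, h, hP, hPE⟩ := exists_fr_of hG D hA hFa hne hyp
    (root.L_le.trans (NO3b.Wc.ML_le_norm_V _ _)) NO3b.Wc.Root.zc_le_V hWS hnE
  exact ⟨_, F', _, P, hP, sit_of hG D hA root.V_le_S h hP hPE hc⟩

end Cfsg.Agent.Omega.NOThreeL.RLow.FL
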