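import Cfsg.Agent.ZN.Map
import Cfsg.Agent.ZN.ChoiceBase
import Cfsg.Agent.MinSimple.VModule

/-!
# LEMMA HALF (#22231, helper535): the replacement of LEMMA K2 of THEOREM R-LOW

`G` of characteristic 2 type, `S` Sylow, `T₀ ≤ S` of index 2, `Z₁, Z₂` central in `T₀`, `|Z₂| ≥ |Ω₁(Z(S))|`, `N ≥ Z₁`,
`N, L ≤ C_G(Z₂)`: `N ≤ O₂(C_G(Z₂))` as soon as `N` has no proper nontrivial `LT₀`-invariant subgroup and `L` moves every
`1 ≠ n ∈ Z₁`.
-/

set_option autoImplicit false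

namespace Cfsg.Agent.Omega.NOThreeL.RLow.Half

open Subgroup Cfsg Cfsg.Agent.ZN
open Cfsg.Agent.MinSimple.VModule (o2_isPGroup le_normalizer_o2 o2_le)
open Cfsg.Agent.ZN.ChoiceBase (mem_zc)
open scoped Pointwise

universe u

variable {G : Type u} [Group G] [Finite G]

omit [Finite G] in
/-- In `T ≥ T₀`, `|T : T₀| = 2`. -/
theorem two_mul' {T T₀ : Subgroup G} (h2 : T₀.relIndex T = 2) {a b : G} (ha : a ∈ T) (hb : b ∈ T) :
    a * b ∈ T₀ ↔ (a ∈ T₀ ↔ b ∈ T₀) := by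
  have h := Subgroup.mul_mem_iff_of_index_two (H := T₀.subgroupOf T) h2 (a := ⟨a, ha⟩) (b := ⟨b, hb⟩)
  simpa [Subgroup.mem_subgroupOf] using h

omit [Finite G] in
/-- A subgroup of index 2 is normal. -/
theorem two_normal {T T₀ : Subgroup G} (h2 : T₀.relIndex T = 2) {a t : G} (ha : a ∈ T) (ht : t ∈ T₀)
    (h0 : T₀ ≤ T) : a * t * a⁻¹ ∈ T₀ := by
  have h1 : a * t ∈ T₀ ↔ (a ∈ T₀ ↔ t ∈ T₀) := two_mul' h2 ha (h0 ht)
  have h3 := two_mul' h2 (T.mul_mem ha (h0 ht)) (T.inv_mem ha)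
  rw [h3, h1, T₀.inv_mem_iff]
  simp [ht]

omit [Finite G] in
theorem relIndex_mul_card_eq {A B : Subgroup G} (h : A ≤ B) : Nat.card A * A.relIndex B = Nat.card B := by
  have h1 := (A.subgroupOf B).card_mul_index
  rwa [Nat.card_congr (subgroupOfEquivOfLe h).toEquiv] at h1

/-- The order of `Ω₁(Z(T))` is the same for all Sylow 2-subgroups. -/
theorem card_zc (S S' : Sylow 2 G) :
    Nat.card (zc (S : Subgroup G)) = Nat.card (zc (S' : Subgroup G)) := by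
  obtain ⟨g, hg⟩ := MulAction.exists_smul_eq G S S'
  have h1 : (S' : Subgroup G) = (S : Subgroup G).map (MulAut.conj g).toMonoidHom := by
    rw [← hg]; rfl
  rw [h1, zc_map _ (MulAut.conj g).injective]
  exact (Subgroup.card_map_of_injective (MulAut.conj g).injective).symm

/-- **LEMMA HALF.** -/
theorem half (S : Sylow 2 G) {T₀ N L Z₁ Z₂ : Subgroup G}
    (hT : T₀ ≤ (S : Subgroup G)) (h2 : T₀.relIndex (S : Subgroup G) = 2)
    (hZ1N : Z₁ ≤ N) (hZ1 : Z₁ ≠ ⊥) (hZ1T : Z₁ ≤ T₀) (hZ1c : T₀ ≤ centralizer (Z₁ : Set G))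
    (hZ1e : ∀ z ∈ Z₁, z ^ 2 = 1)
    (hZ2T : Z₂ ≤ T₀) (hZ2c : T₀ ≤ centralizer (Z₂ : Set G)) (hZ2e : ∀ z ∈ Z₂, z ^ 2 = 1)
    (hcard : Nat.card (zc (S : Subgroup G)) ≤ Nat.card Z₂)
    (hL : L ≤ centralizer (Z₂ : Set G)) (hN : N ≤ centralizer (Z₂ : Set G))
    (hLN : L ≤ normalizer (N : Set G)) (hTN : T₀ ≤ normalizer (N : Set G))
    (irr : ∀ M : Subgroup G, M ≤ N → L ≤ normalizer (M : Set G) → T₀ ≤ normalizer (M : Set G) → M ≠ ⊥ → N ≤ M)
    (mov : ∀ n ∈ Z₁, n ≠ 1 → ∃ l ∈ L, l * n * l⁻¹ ≠ n)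
    (ch2 : centralizer (Z₂ : Set G) ⊓ centralizer (o2 (centralizer (Z₂ : Set G)) : Set G) ≤
      o2 (centralizer (Z₂ : Set G))) :
    N ≤ o2 (centralizer (Z₂ : Set G)) := by
  classical
  set C : Subgroup G := centralizer (Z₂ : Set G) with hC
  set Q : Subgroup G := o2 C with hQ
  have nQ : C ≤ normalizer (Q : Set G) := le_normalizer_o2 C
  have QC : Q ≤ C := o2_le C
  by_contra hcon
  -- step 1
  have hNQ : N ⊓ Q = ⊥ := by
    by_contra hne
    refine hcon ((irr (N ⊓ Q) inf_le_left ?_ ?_ hne).trans inf_le_right)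
    · intro l hl
      rw [mem_normalizer_iff]
      intro x
      exact and_congr (mem_normalizer_iff.1 (hLN hl) x) (mem_normalizer_iff.1 (nQ (hL hl)) x)
    · intro l hl
      rw [mem_normalizer_iff]
      intro x
      exact and_congr (mem_normalizer_iff.1 (hTN hl) x) (mem_normalizer_iff.1 (nQ (hZ2c hl)) x)
  -- what commutes with `Q` in `N` is trivial
  have cen : ∀ x ∈ N, (∀ q ∈ Q, q * x = x * q) → x = 1 := by
    intro x hx hc
    have h3 : x ∈ Q := ch2 ⟨hN hx, mem_centralizer_iff.2 fun q hq => hc q hq⟩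
    have h4 : x ∈ N ⊓ Q := ⟨hx, h3⟩
    rw [hNQ] at h4
    exact mem_bot.1 h4
  obtain ⟨n, hn, hn1⟩ : ∃ n ∈ Z₁, n ≠ 1 := by
    by_contra hno
    push Not at hno
    exact hZ1 (eq_bot_iff.2 fun x hx => mem_bot.2 (hno x hx))
  -- step 2
  obtain ⟨s, hsQ, hsT⟩ : ∃ s ∈ Q, s ∉ T₀ := by
    by_contra hno
    push Not at hno
    refine hn1 (cen n (hZ1N hn) fun q hq => ?_)
    exact ((mem_centralizer_iff.1 (hZ1c (hno q hq))) n hn).symm
  have hTQ : T₀ ≤ normalizer (Q : Set G) := hZ2c.trans nQ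
  set T₂ : Subgroup G := T₀ ⊔ Q with hT₂
  have hT0T2 : T₀ ≤ T₂ := le_sup_left
  have hQT2 : Q ≤ T₂ := le_sup_right
  have hp0 : IsPGroup 2 T₀ := S.isPGroup'.to_le hT
  have hpT2 : IsPGroup 2 T₂ := hp0.to_sup_of_normal_right' (o2_isPGroup C) hTQ
  obtain ⟨S₂, hS₂⟩ := hpT2.exists_le_sylow
  have hcS : Nat.card (S₂ : Subgroup G) = Nat.card (S : Subgroup G) := by
    rw [S₂.card_eq_multiplicity, S.card_eq_multiplicity]
  have hc0 : Nat.card T₀ * 2 = Nat.card (S : Subgroup G) := by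
    have h20 := relIndex_mul_card_eq hT
    rwa [h2] at h20
  have hlt : T₀ < T₂ := lt_of_le_of_ne hT0T2 fun h => hsT (h ▸ hQT2 hsQ)
  have hc2 : Nat.card T₀ * T₀.relIndex T₂ = Nat.card T₂ := relIndex_mul_card_eq hT0T2
  have hle : Nat.card T₂ ≤ Nat.card (S : Subgroup G) := hcS ▸ Subgroup.card_le_of_le hS₂
  have hri : T₀.relIndex T₂ = 2 := by
    have h5 : T₀.relIndex T₂ ≠ 1 := fun h => not_le_of_gt hlt (relIndex_eq_one.1 h)
    have h6 : T₀.relIndex T₂ ≠ 0 := by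
      intro h0
      rw [h0, mul_zero] at hc2
      exact (Nat.card_pos (α := T₂)).ne hc2
    have h7 : Nat.card T₀ * T₀.relIndex T₂ ≤ Nat.card T₀ * 2 := by rw [hc2, hc0]; exact hle
    have h8 : T₀.relIndex T₂ ≤ 2 := Nat.le_of_mul_le_mul_left h7 Nat.card_pos
    omega
  have hT2S : T₂ = (S₂ : Subgroup G) := by
    refine Subgroup.eq_of_le_of_card_ge hS₂ ?_
    rw [hcS, ← hc0, ← hc2, hri]
  have hs2 : s ∈ T₂ := hQT2 hsQ
  -- `Ω₁(Z(T₂)) = Z₂`
  have hZ2C : ∀ x ∈ C, ∀ z ∈ Z₂, x * z = z * x := fun x hx z hz => ((mem_centralizer_iff.1 hx) z hz).symm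
  have hT2C : T₂ ≤ C := sup_le hZ2c QC
  have hzc : zc T₂ = Z₂ := by
    have h9 : Z₂ ≤ zc T₂ := fun z hz => mem_zc.2 ⟨hT0T2 (hZ2T hz), hZ2e z hz, fun y hy => hZ2C y (hT2C hy) z hz⟩
    refine (Subgroup.eq_of_le_of_card_ge h9 ?_).symm
    rw [hT2S, card_zc S₂ S]
    exact hcard
  -- step 3
  have com0 : ∀ q ∈ Q, q ∈ T₀ → ∀ m ∈ N, q * m = m * q := by
    intro q hq hqT m hm
    have e1 : q * m * q⁻¹ * m⁻¹ ∈ N ⊓ Q := by
      refine ⟨N.mul_mem ((mem_normalizer_iff.1 (hTN hqT) m).1 hm) (N.inv_mem hm), ?_⟩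
      have : q * m * q⁻¹ * m⁻¹ = q * (m * q⁻¹ * m⁻¹) := by group
      show q * m * q⁻¹ * m⁻¹ ∈ Q
      rw [this]
      exact Q.mul_mem hq ((mem_normalizer_iff.1 (nQ (hN hm)) q⁻¹).1 (Q.inv_mem hq))
    rw [hNQ, mem_bot] at e1
    have e2 : q * m * q⁻¹ = m := by
      have := mul_inv_eq_one.1 e1
      exact this
    calc q * m = q * m * q⁻¹ * q := by group
      _ = m * q := by rw [e2]
  have hss : ∀ q ∈ Q, q ∉ T₀ → s⁻¹ * q ∈ T₀ := by
    intro q hq hqT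
    rw [two_mul' hri (T₂.inv_mem hs2) (hQT2 hq), T₀.inv_mem_iff]
    exact ⟨fun h => absurd h hsT, fun h => absurd h hqT⟩
  -- `s` does not centralise `N`
  have sN : ¬ ∀ m ∈ N, s * m = m * s := by
    intro hall
    refine hn1 (cen n (hZ1N hn) fun q hq => ?_)
    by_cases hqT : q ∈ T₀
    · exact com0 q hq hqT n (hZ1N hn)
    · have e3 := com0 (s⁻¹ * q) (Q.mul_mem (Q.inv_mem hsQ) hq) (hss q hq hqT) n (hZ1N hn)
      calc q * n = s * (s⁻¹ * q * n) := by group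
        _ = s * (n * (s⁻¹ * q)) := by rw [e3]
        _ = s * n * (s⁻¹ * q) := by group
        _ = n * s * (s⁻¹ * q) := by rw [hall n (hZ1N hn)]
        _ = n * q := by group
  -- step 4
  set a : G := s * n * s⁻¹ * n⁻¹ with ha
  have hnT0 : n ∈ T₀ := hZ1T hn
  have hcn : ∀ t ∈ T₀, t * n = n * t := fun t ht => ((mem_centralizer_iff.1 (hZ1c ht)) n hn).symm
  have hsn : s * n * s⁻¹ ∈ T₀ := two_normal hri hs2 hnT0 hT0T2
  have hcsn : ∀ t ∈ T₀, t * (s * n * s⁻¹) = s * n * s⁻¹ * t := by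
    intro t ht
    have h10 : s⁻¹ * t * s ∈ T₀ := by
      have := two_normal hri (T₂.inv_mem hs2) ht hT0T2
      simpa using this
    calc t * (s * n * s⁻¹) = s * (s⁻¹ * t * s * n) * s⁻¹ := by group
      _ = s * (n * (s⁻¹ * t * s)) * s⁻¹ := by rw [hcn _ h10]
      _ = s * n * s⁻¹ * t := by group
  have nsq : n * n = 1 := by rw [← pow_two]; exact hZ1e n hn
  have ninv : n⁻¹ = n := inv_eq_of_mul_eq_one_left nsq
  have haT : a ∈ T₀ := T₀.mul_mem hsn (T₀.inv_mem hnT0)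
  have hca : ∀ t ∈ T₀, t * a = a * t := by
    intro t ht
    calc t * a = t * (s * n * s⁻¹) * n⁻¹ := by rw [ha]; group
      _ = s * n * s⁻¹ * t * n⁻¹ := by rw [hcsn t ht]
      _ = s * n * s⁻¹ * (t * n) := by rw [ninv]; group
      _ = s * n * s⁻¹ * (n * t) := by rw [hcn t ht]
      _ = a * t := by rw [ha, ninv]; group
  have hasq : a * a = 1 := by
    calc a * a = s * n * s⁻¹ * n⁻¹ * (s * n * s⁻¹ * n⁻¹) := by rw [ha]
      _ = s * n * s⁻¹ * (n * (s * n * s⁻¹)) * n := by rw [ninv]; group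
      _ = s * n * s⁻¹ * (s * n * s⁻¹ * n) * n := by rw [hcsn n hnT0]
      _ = s * (n * n) * s⁻¹ * (n * n) := by group
      _ = 1 := by rw [nsq]; group
  have ainv : a⁻¹ = a := inv_eq_of_mul_eq_one_left hasq
  have hs2T : s * s ∈ T₀ := by rw [two_mul' hri hs2 hs2]
  have has : s * a = a * s := by
    have e4 : s * a * s⁻¹ = a⁻¹ := by
      calc s * a * s⁻¹ = (s * s * n) * (s * s)⁻¹ * (s * n⁻¹ * s⁻¹) := by rw [ha]; group
        _ = (n * (s * s)) * (s * s)⁻¹ * (s * n⁻¹ * s⁻¹) := by rw [hcn _ hs2T]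
        _ = a⁻¹ := by rw [ha]; group
    rw [ainv] at e4
    calc s * a = s * a * s⁻¹ * s := by group
      _ = a * s := by rw [e4]
  have haZ : a ∈ Z₂ := by
    rw [← hzc, mem_zc]
    refine ⟨hT0T2 haT, by rw [pow_two]; exact hasq, fun y hy => ?_⟩
    by_cases hyT : y ∈ T₀
    · exact hca y hyT
    · have e5 : s⁻¹ * y ∈ T₀ := by
        rw [two_mul' hri (T₂.inv_mem hs2) hy, T₀.inv_mem_iff]
        exact ⟨fun h => absurd h hsT, fun h => absurd h hyT⟩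
      calc y * a = s * (s⁻¹ * y * a) := by group
        _ = s * (a * (s⁻¹ * y)) := by rw [hca _ e5]
        _ = s * a * (s⁻¹ * y) := by group
        _ = a * s * (s⁻¹ * y) := by rw [has]
        _ = a * y := by group
  -- step 5
  obtain ⟨l, hl, hln⟩ := mov n hn hn1
  have hlC := hL hl
  set n' : G := l * n * l⁻¹ with hn'
  have hn'N : n' ∈ N := (mem_normalizer_iff.1 (hLN hl) n).1 (hZ1N hn)
  set s' : G := l * s * l⁻¹ with hs'
  have hs'Q : s' ∈ Q := (mem_normalizer_iff.1 (nQ hlC) s).1 hsQ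
  have hs'T : s' ∉ T₀ := by
    intro h
    refine sN fun m hm => ?_
    have e6 := com0 s' hs'Q h (l * m * l⁻¹) ((mem_normalizer_iff.1 (hLN hl) m).1 hm)
    have e7 : l * (s * m) * l⁻¹ = l * (m * s) * l⁻¹ := by
      calc l * (s * m) * l⁻¹ = s' * (l * m * l⁻¹) := by rw [hs']; group
        _ = l * m * l⁻¹ * s' := e6
        _ = l * (m * s) * l⁻¹ := by rw [hs']; group
    exact mul_left_cancel (mul_right_cancel e7)
  have hla : l * a * l⁻¹ = a := by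
    calc l * a * l⁻¹ = a * l * l⁻¹ := by rw [hZ2C l hlC a haZ]
      _ = a := by group
  have e8 : s' * n' * s'⁻¹ = a * n' := by
    calc s' * n' * s'⁻¹ = (l * a * l⁻¹) * n' := by rw [hs', hn', ha]; group
      _ = a * n' := by rw [hla]
  have e9 : s * n' * s⁻¹ = a * n' := by
    have e10 := com0 (s⁻¹ * s') (Q.mul_mem (Q.inv_mem hsQ) hs'Q) (hss s' hs'Q hs'T) n' hn'N
    calc s * n' * s⁻¹ = s * (n' * (s⁻¹ * s')) * s'⁻¹ := by group
      _ = s * (s⁻¹ * s' * n') * s'⁻¹ := by rw [e10]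
      _ = s' * n' * s'⁻¹ := by group
      _ = a * n' := e8
  have e11 : s * n * s⁻¹ = a * n := by rw [ha]; group
  have hsc : s * (n' * n⁻¹) = n' * n⁻¹ * s := by
    have e12 : s * (n' * n⁻¹) * s⁻¹ = n' * n⁻¹ := by
      have hNa : a * (n' * n⁻¹) = n' * n⁻¹ * a :=
        (hZ2C _ (hN (N.mul_mem hn'N (N.inv_mem (hZ1N hn)))) a haZ).symm
      calc s * (n' * n⁻¹) * s⁻¹ = (s * n' * s⁻¹) * (s * n * s⁻¹)⁻¹ := by group
        _ = a * n' * (a * n)⁻¹ := by rw [e9, e11]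
        _ = a * (n' * n⁻¹) * a⁻¹ := by group
        _ = n' * n⁻¹ * a * a⁻¹ := by rw [hNa]
        _ = n' * n⁻¹ := by group
    calc s * (n' * n⁻¹) = s * (n' * n⁻¹) * s⁻¹ * s := by group
      _ = n' * n⁻¹ * s := by rw [e12]
  have hx : n' * n⁻¹ ∈ N := N.mul_mem hn'N (N.inv_mem (hZ1N hn))
  have hfin : n' * n⁻¹ = 1 := by
    refine cen _ hx fun q hq => ?_
    by_cases hqT : q ∈ T₀
    · exact com0 q hq hqT _ hx
    · have e13 := com0 (s⁻¹ * q) (Q.mul_mem (Q.inv_mem hsQ) hq) (hss q hq hqT) _ hx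
      calc q * (n' * n⁻¹) = s * (s⁻¹ * q * (n' * n⁻¹)) := by group
        _ = s * (n' * n⁻¹ * (s⁻¹ * q)) := by rw [e13]
        _ = s * (n' * n⁻¹) * (s⁻¹ * q) := by group
        _ = n' * n⁻¹ * s * (s⁻¹ * q) := by rw [hsc]
        _ = n' * n⁻¹ * q := by group
  exact hln (mul_inv_eq_one.1 hfin)

end Cfsg.Agent.Omega.NOThreeL.RLow.Half
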