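import Cfsg.Agent.Omega.NOThreeL.RLow.Torus

/-!
# THEOREM R-LOW (#21762), (3), `k = 1`: (HOM)

`N : NatKM K S P (zl S P) ⊥ 1`, `R = R_0`, `A = R × (A ∩ F)` an `S`-invariant subgroup.

* `rtv_conj` : `S` normalises `R`;
* `tor_conj` : if `g` acts on `R` as the multiplication by `l`, `l ≠ 0`, then `t g t⁻¹`, `t ∈ S`, acts on `R` as the
  multiplication by some `l' ≠ 0`, and `l' = 1` only if `l = 1`;
* **`hom_inv`** : if every `g ∈ N_G(A)` trivial on `R` and on `A / R` is trivial on `A`, then `A ∩ F` is `S`-invariant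
  (`|K| ≥ 4`).
-/

set_option autoImplicit false

namespace Cfsg.Agent.Omega.NOThreeL.RLow

open Subgroup Cfsg Cfsg.Agent.ZN Cfsg.Agent.Omega.MinPar Cfsg.Agent.Omega.Frame Cfsg.Agent.Omega.FrameNOFF
open Cfsg.Agent.Omega.NOThreeL.Low (Blk Rtv Tor)
open Cfsg.Agent.Omega.NOne.Flat (Hyp EE WW NN BadX)
open Cfsg.Agent.Omega.FFThm (NatKM ActsSL)
open Cfsg.Agent.Omega.NatPair (ap ap_zero' ap_one' ap_one ext2)
open Cfsg.Agent.Lib.SL2Mat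
open Cfsg.Agent.Omega.NOThreeL (NF.NatR.e_inj NF.NatR.e_inv NF.NatR.e_one NF.NatR.cmem)

universe u

variable {G : Type u} [Group G]

section one

variable {S P U : Subgroup G} {K : Type} [Field K] {N : NatKM K S P U ⊥ 1}

theorem rtv_iff {v : G} : Rtv N 0 v ↔ v ∈ U ∧ N.e v 0 1 = 0 :=
  ⟨fun h => ⟨h.1.1, h.2⟩, fun h => ⟨⟨h.1, fun j hj => absurd (Subsingleton.elim j 0) hj⟩, h.2⟩⟩

theorem rtv_mul {v w : G} (hv : Rtv N 0 v) (hw : Rtv N 0 w) : Rtv N 0 (v * w) := by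
  rw [rtv_iff] at *
  refine ⟨mul_mem hv.1 hw.1, ?_⟩
  rw [N.mul v hv.1 w hw.1, Pi.add_apply, Pi.add_apply, hv.2, hw.2, add_zero]

theorem rtv_inv {v : G} (hv : Rtv N 0 v) : Rtv N 0 v⁻¹ := by
  rw [rtv_iff] at *
  refine ⟨inv_mem hv.1, ?_⟩
  rw [NF.NatR.e_inv (M := N) hv.1, Pi.neg_apply, Pi.neg_apply, hv.2, neg_zero]

theorem rtv_one : Rtv N 0 1 := by
  rw [rtv_iff]
  refine ⟨one_mem _, ?_⟩
  rw [NF.NatR.e_one (M := N)]; rfl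

theorem rtv_ext {v w : G} (hv : Rtv N 0 v) (hw : Rtv N 0 w) (h : N.e v 0 0 = N.e w 0 0) : v = w := by
  refine NF.NatR.e_inj (M := N) hv.1.1 hw.1.1 ?_
  funext j
  obtain rfl : j = 0 := Subsingleton.elim j 0
  exact ext2 h (by rw [hv.2, hw.2])

/-- `S` normalises `R`. -/
theorem rtv_conj (hPU : P ≤ normalizer (U : Set G)) (hSP : S ≤ P) {t : G} (ht : t ∈ S) {r : G} (hr : Rtv N 0 r) :
    Rtv N 0 (t * r * t⁻¹) := by
  obtain ⟨σ, hσ⟩ := N.line t ht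
  rw [rtv_iff] at *
  refine ⟨(mem_normalizer_iff.1 (hPU (hSP ht)) r).1 hr.1, ?_⟩
  have h := (hσ r hr.1 0).2 hr.2
  rwa [Subsingleton.elim (σ 0) 0] at h

theorem exists_rtv (x : K) : ∃ r, Rtv N 0 r ∧ N.e r 0 0 = x := by
  obtain ⟨v, hv, hev⟩ := N.surj fun _ => ![x, 0]
  exact ⟨v, rtv_iff.2 ⟨hv, by rw [hev]; rfl⟩, by rw [hev]; rfl⟩

/-- `t g t⁻¹` is a multiplication on `R` if `g` is one -/
theorem tor_conj (hPU : P ≤ normalizer (U : Set G)) (hSP : S ≤ P) {t : G} (ht : t ∈ S) {l : K} (hl : l ≠ 0) {g : G}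
    (hg : ∀ r, Rtv N 0 r → Rtv N 0 (g * r * g⁻¹) ∧ N.e (g * r * g⁻¹) 0 0 = l * N.e r 0 0) :
    ∃ l' : K, l' ≠ 0 ∧ (l' = 1 → l = 1) ∧ ∀ r, Rtv N 0 r → Rtv N 0 (t * g * t⁻¹ * r * (t * g * t⁻¹)⁻¹) ∧
      N.e (t * g * t⁻¹ * r * (t * g * t⁻¹)⁻¹) 0 0 = l' * N.e r 0 0 := by
  obtain ⟨h, hh, hA⟩ := N.lift fun _ => dg l hl
  obtain ⟨C, hC⟩ := N.norm t (hSP ht) h hh _ hA.1
  have ht' : t⁻¹ ∈ S := inv_mem ht
  have hU : ∀ {p v : G}, p ∈ P → v ∈ U → p * v * p⁻¹ ∈ U := fun {p v} hp hv =>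
    (mem_normalizer_iff.1 (hPU hp) v).1 hv
  -- `h` and `g` agree on `R`
  have hhg : ∀ r, Rtv N 0 r → h * r * h⁻¹ = g * r * g⁻¹ := by
    intro r hr
    obtain ⟨h1, h2⟩ := hg r hr
    refine NF.NatR.e_inj (M := N) (hU hh hr.1.1) h1.1.1 ?_
    funext j
    obtain rfl : j = 0 := Subsingleton.elim j 0
    rw [hA.1 r hr.1.1 0]
    refine ext2 ?_ ?_
    · rw [h2, ap_zero', dg_00, dg_01]; simp
    · rw [h1.2, ap_one', dg_10, dg_11, hr.2]; simp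
  have key : ∀ r, Rtv N 0 r → Rtv N 0 (t * g * t⁻¹ * r * (t * g * t⁻¹)⁻¹) ∧
      N.e (t * g * t⁻¹ * r * (t * g * t⁻¹)⁻¹) 0 = ap (C 0) (N.e r 0) := by
    intro r hr
    have h1 := rtv_conj hPU hSP ht' hr
    rw [inv_inv] at h1
    have h2 := (hg _ h1).1
    have h3 := rtv_conj hPU hSP ht h2
    have e1 : t * (g * (t⁻¹ * r * t) * g⁻¹) * t⁻¹ = t * g * t⁻¹ * r * (t * g * t⁻¹)⁻¹ := by group
    have e2 : t * (h * (t⁻¹ * r * t) * h⁻¹) * t⁻¹ = t * h * t⁻¹ * r * (t * h * t⁻¹)⁻¹ := by group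
    rw [e1] at h3
    refine ⟨h3, ?_⟩
    rw [← e1, ← hhg _ h1, e2]
    exact hC r hr.1.1 0
  obtain ⟨r₁, hr₁, her₁⟩ := exists_rtv (N := N) 1
  have hl' : ∀ r, Rtv N 0 r → N.e (t * g * t⁻¹ * r * (t * g * t⁻¹)⁻¹) 0 0 = (C 0) 0 0 * N.e r 0 0 := by
    intro r hr
    rw [(key r hr).2, ap_zero', hr.2, mul_zero, add_zero]
    rfl
  refine ⟨(C 0) 0 0, ?_, ?_, fun r hr => ⟨(key r hr).1, hl' r hr⟩⟩
  · intro h0
    have h1 := hl' r₁ hr₁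
    rw [h0, zero_mul] at h1
    have h2 := rtv_ext (key r₁ hr₁).1 rtv_one (by rw [h1, NF.NatR.e_one (M := N)]; rfl)
    have h3 : r₁ = 1 := by
      have e1 : r₁ = (t * g * t⁻¹)⁻¹ * (t * g * t⁻¹ * r₁ * (t * g * t⁻¹)⁻¹) * (t * g * t⁻¹) := by group
      rw [e1, h2]; group
    rw [h3, NF.NatR.e_one (M := N)] at her₁
    exact zero_ne_one her₁
  · intro h1
    have h2 : t * g * t⁻¹ * (t * r₁ * t⁻¹) * (t * g * t⁻¹)⁻¹ = t * r₁ * t⁻¹ := by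
      have h3 := rtv_conj hPU hSP ht hr₁
      refine rtv_ext (key _ h3).1 h3 ?_
      rw [hl' _ h3, h1, one_mul]
    have h3 : g * r₁ * g⁻¹ = r₁ := by
      have e1 : t * g * t⁻¹ * (t * r₁ * t⁻¹) * (t * g * t⁻¹)⁻¹ = t * (g * r₁ * g⁻¹) * t⁻¹ := by group
      rw [e1] at h2
      exact mul_left_cancel (mul_right_cancel h2)
    have h4 := (hg r₁ hr₁).2
    rw [h3, her₁, mul_one] at h4
    exact h4.symm

end one

variable [Finite G] {S : Sylow 2 G} {V F B P : Subgroup G} {K : Type} [Field K]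
  {N : NatKM K (S : Subgroup G) P (zl (S : Subgroup G) P) ⊥ 1} {β : G → K}

/-- **(HOM)**: `A = R × (A ∩ F)` is `S`-invariant, `|K| ≥ 4`, and every element of `N_G(A)` trivial on `R` and `A / R` is
trivial on `A`: then `A ∩ F` is `S`-invariant. -/
theorem NSitR.hom_inv (s : NSitR S V F B P N 0 β) (ht : Tor (F := F) N 0) (h2 : ∃ l : K, l ≠ 0 ∧ l ≠ 1)
    {A : Subgroup G} (hSA : (S : Subgroup G) ≤ normalizer (A : Set G)) (hRA : ∀ r, Rtv N 0 r → r ∈ A)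
    (hAF : ∀ a ∈ A, ∃ r, Rtv N 0 r ∧ r⁻¹ * a ∈ F)
    (hY : ∀ g ∈ normalizer (A : Set G), (∀ a ∈ A, Rtv N 0 (g * a * g⁻¹ * a⁻¹)) →
      (∀ r, Rtv N 0 r → g * r = r * g) → ∀ a ∈ A, g * a = a * g) :
    ∀ t ∈ (S : Subgroup G), ∀ f ∈ A, f ∈ F → t * f * t⁻¹ ∈ F := by
  have hPU : P ≤ normalizer (zl (S : Subgroup G) P : Set G) := Cfsg.Agent.MinSimple.VModule.le_normalizer_zl _ _
  have hSP : (S : Subgroup G) ≤ P := s.hP.isLoc.le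
  have hVc : ∀ a ∈ V, ∀ b ∈ V, a * b = b * a := fun a ha b hb => s.flat.V_comm ha hb
  -- `A ≤ V`
  have hAV : A ≤ V := by
    intro a ha
    obtain ⟨r, hr, hf⟩ := hAF a ha
    have h1 := mul_mem (s.UV hr.1.1) (s.flat.F_le_V hf)
    rwa [mul_inv_cancel_left] at h1
  -- an element of `C_G(F)` which normalises `R` normalises `A` and is trivial on `A / R`
  have hnorm : ∀ {g : G} {l : K}, l ≠ 0 → g ∈ centralizer (F : Set G) →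
      (∀ r, Rtv N 0 r → Rtv N 0 (g * r * g⁻¹) ∧ N.e (g * r * g⁻¹) 0 0 = l * N.e r 0 0) →
      (∀ a ∈ A, Rtv N 0 (g * a * g⁻¹ * a⁻¹)) := by
    intro g l hl hg h a ha
    obtain ⟨r, hr, hf⟩ := hAF a ha
    have h1 : g * (r⁻¹ * a) * g⁻¹ = r⁻¹ * a := by
      rw [← mem_centralizer_iff.1 hg _ hf, mul_inv_cancel_right]
    have e1 : g * a * g⁻¹ * a⁻¹ = g * r * g⁻¹ * r⁻¹ := by
      calc g * a * g⁻¹ * a⁻¹ = g * r * g⁻¹ * (g * (r⁻¹ * a) * g⁻¹) * a⁻¹ := by group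
        _ = g * r * g⁻¹ * (r⁻¹ * a) * a⁻¹ := by rw [h1]
        _ = g * r * g⁻¹ * r⁻¹ := by group
    rw [e1]
    exact rtv_mul (h r hr).1 (rtv_inv hr)
  have hmap : ∀ {g : G}, (∀ a ∈ A, Rtv N 0 (g * a * g⁻¹ * a⁻¹)) → g ∈ normalizer (A : Set G) := by
    intro g h
    have h1 : A.map (MulAut.conj g).toMonoidHom ≤ A := by
      rintro _ ⟨a, ha, rfl⟩
      have h2 := mul_mem (hRA _ (h a ha)) ha
      have e1 : g * a * g⁻¹ * a⁻¹ * a = g * a * g⁻¹ := by group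
      rw [e1] at h2
      exact h2
    have h2 : A.map (MulAut.conj g).toMonoidHom = A :=
      Subgroup.eq_of_le_of_card_ge h1 (Subgroup.card_map_of_injective (MulAut.conj g).injective).ge
    refine mem_normalizer_iff.2 fun a => ⟨fun ha => h1 ⟨a, ha, rfl⟩, fun ha => ?_⟩
    rw [← h2] at ha
    obtain ⟨b, hb, e⟩ := ha
    have e1 : g * b * g⁻¹ = g * a * g⁻¹ := e
    rw [← mul_left_cancel (mul_right_cancel e1)]
    exact hb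
  intro t ht' f hfA hfF
  obtain ⟨l, hl0, hl1⟩ := h2
  obtain ⟨g, hg, hgl⟩ := ht l hl0
  obtain ⟨l', hl0', hl1', h'⟩ := tor_conj hPU hSP ht' hl0 hgl
  obtain ⟨g', hg', hgl'⟩ := ht l' hl0'
  have hne : l' ≠ 1 := fun h => hl1 (hl1' h)
  have htA := hSA ht'
  have hRt : ∀ {r : G}, Rtv N 0 r → Rtv N 0 (t⁻¹ * r * t) := fun {r} hr => by
    have := rtv_conj hPU hSP (inv_mem ht') hr
    rwa [inv_inv] at this
  -- `t g t⁻¹` and `g'` agree on `A`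
  have hgA := hmap (hnorm hl0 hg hgl)
  have hgA' := hmap (hnorm hl0' hg' hgl')
  have htg : ∀ a ∈ A, Rtv N 0 (t * g * t⁻¹ * a * (t * g * t⁻¹)⁻¹ * a⁻¹) := by
    intro a ha
    have h1 : t⁻¹ * a * t ∈ A := by
      have := (mem_normalizer_iff.1 (inv_mem htA) a).1 ha
      rwa [inv_inv] at this
    have h2 := rtv_conj hPU hSP ht' (hnorm hl0 hg hgl _ h1)
    have e1 : t * (g * (t⁻¹ * a * t) * g⁻¹ * (t⁻¹ * a * t)⁻¹) * t⁻¹ =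
        t * g * t⁻¹ * a * (t * g * t⁻¹)⁻¹ * a⁻¹ := by group
    rwa [e1] at h2
  have hcA : g'⁻¹ * (t * g * t⁻¹) ∈ normalizer (A : Set G) :=
    mul_mem (inv_mem hgA') (mul_mem (mul_mem htA hgA) (inv_mem htA))
  have hcR : ∀ r, Rtv N 0 r → g'⁻¹ * (t * g * t⁻¹) * r = r * (g'⁻¹ * (t * g * t⁻¹)) := by
    intro r hr
    have h1 : t * g * t⁻¹ * r * (t * g * t⁻¹)⁻¹ = g' * r * g'⁻¹ :=
      rtv_ext (h' r hr).1 (hgl' r hr).1 (by rw [(h' r hr).2, (hgl' r hr).2])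
    calc g'⁻¹ * (t * g * t⁻¹) * r = g'⁻¹ * (t * g * t⁻¹ * r * (t * g * t⁻¹)⁻¹) * (t * g * t⁻¹) := by group
      _ = g'⁻¹ * (g' * r * g'⁻¹) * (t * g * t⁻¹) := by rw [h1]
      _ = r * (g'⁻¹ * (t * g * t⁻¹)) := by group
  have hRg' : ∀ r, Rtv N 0 r → Rtv N 0 (g'⁻¹ * r * g') := by
    intro r hr
    obtain ⟨r₂, hr₂, her₂⟩ := exists_rtv (N := N) (l'⁻¹ * N.e r 0 0)
    have h1 : g' * r₂ * g'⁻¹ = r := by
      refine rtv_ext (hgl' _ hr₂).1 hr ?_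
      rw [(hgl' _ hr₂).2, her₂, mul_inv_cancel_left₀ hl0']
    have e1 : g'⁻¹ * r * g' = r₂ := by rw [← h1]; group
    rw [e1]; exact hr₂
  have hcQ : ∀ a ∈ A, Rtv N 0 (g'⁻¹ * (t * g * t⁻¹) * a * (g'⁻¹ * (t * g * t⁻¹))⁻¹ * a⁻¹) := by
    intro a ha
    have h1 := hRg' _ (htg a ha)
    have h2 := hRg' _ (rtv_inv (hnorm hl0' hg' hgl' a ha))
    have h3 := rtv_mul h1 h2
    have e1 : g'⁻¹ * (t * g * t⁻¹ * a * (t * g * t⁻¹)⁻¹ * a⁻¹) * g' * (g'⁻¹ * (g' * a * g'⁻¹ * a⁻¹)⁻¹ * g') =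
        g'⁻¹ * (t * g * t⁻¹) * a * (g'⁻¹ * (t * g * t⁻¹))⁻¹ * a⁻¹ := by group
    rwa [e1] at h3
  have hc := hY _ hcA hcQ hcR
  -- `f' = t f t⁻¹`
  set f' := t * f * t⁻¹ with hf'
  have hf'A : f' ∈ A := (mem_normalizer_iff.1 htA f).1 hfA
  have h1 : t * g * t⁻¹ * f' * (t * g * t⁻¹)⁻¹ = f' := by
    have h2 : g * f * g⁻¹ = f := by
      rw [← mem_centralizer_iff.1 hg _ hfF, mul_inv_cancel_right]
    calc t * g * t⁻¹ * f' * (t * g * t⁻¹)⁻¹ = t * (g * f * g⁻¹) * t⁻¹ := by rw [hf']; group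
      _ = f' := by rw [h2]
  have h2 : g' * f' * g'⁻¹ = f' := by
    have h3 := hc f' hf'A
    calc g' * f' * g'⁻¹ = g' * (f' * (g'⁻¹ * (t * g * t⁻¹))) * (t * g * t⁻¹)⁻¹ := by group
      _ = g' * (g'⁻¹ * (t * g * t⁻¹) * f') * (t * g * t⁻¹)⁻¹ := by rw [h3]
      _ = t * g * t⁻¹ * f' * (t * g * t⁻¹)⁻¹ := by group
      _ = f' := h1
  obtain ⟨r, hr, hf1⟩ := hAF f' hf'A
  have h3 : g' * (r⁻¹ * f') * g'⁻¹ = r⁻¹ * f' := by
    rw [← mem_centralizer_iff.1 hg' _ hf1, mul_inv_cancel_right]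
  have h4 : g' * r * g'⁻¹ = r := by
    calc g' * r * g'⁻¹ = g' * f' * g'⁻¹ * (g' * (r⁻¹ * f') * g'⁻¹)⁻¹ := by group
      _ = f' * (r⁻¹ * f')⁻¹ := by rw [h2, h3]
      _ = r := by group
  have h5 : r = 1 := by
    refine rtv_ext hr rtv_one ?_
    have h6 := (hgl' r hr).2
    rw [h4] at h6
    rw [NF.NatR.e_one (M := N)]
    change N.e r 0 0 = 0
    by_contra h7
    exact hne (mul_right_cancel₀ h7 (by rw [one_mul]; exact h6)).symm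
  rw [h5, inv_one, one_mul] at hf1
  exact hf1

end Cfsg.Agent.Omega.NOThreeL.RLow
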