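import Cfsg.Agent.Omega.NOThreeL.RLow.TransOdd

/-!
# [R-low], #21762 (3b): the linear part of the case `k = 1`

`H` acts on the elementary abelian 2-group `K`, transitively on the nonzero vectors, a Sylow
2-subgroup `T` has cyclic image, `T ≤ R` and `R` fixes a nonzero vector: then the images of `R` and
of `T` commute.
-/

set_option autoImplicit false

namespace Cfsg.Agent.Omega.NOThreeL.RLow.KOneAbs

open Cfsg.Agent.Omega.NOThreeL.RLow

/-- #21762 (0) + (3b), linear part (`hcyc`: the image of `T` is generated by the image of `s`). -/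
theorem comm_of' {H K : Type*} [Group H] [Finite H] [AddCommGroup K] [Finite K]
    [DistribMulAction H K] (h2 : ∀ k : K, k + k = 0) (T : Sylow 2 H) (s : H)
    (hs : s ∈ (T : Subgroup H))
    (hcyc : ∀ t ∈ (T : Subgroup H), ∃ n : ℤ, ∀ k : K, t • k = (s ^ n) • k)
    (htr : ∀ a b : K, a ≠ 0 → b ≠ 0 → ∃ h : H, h • a = b) (R : Subgroup H)
    (hTR : (T : Subgroup H) ≤ R) (e : K) (he : e ≠ 0) (hR : ∀ r ∈ R, r • e = e) :
    ∀ r ∈ R, ∀ t ∈ (T : Subgroup H), ∀ k : K, r • t • k = t • r • k := by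
  classical
  have h2' : ∀ k : K, 2 • k = 0 := fun k => by rw [two_nsmul]; exact h2 k
  have : Nontrivial K := ⟨⟨e, 0, he⟩⟩
  let f : H →* (AddMonoid.End K)ˣ := (DistribMulAction.toAddMonoidEnd H K).toHomUnits
  let g : H →* f.range := f.rangeRestrict
  have hg : Function.Surjective g := f.rangeRestrict_surjective
  have hfin : Finite f.range := Finite.of_surjective g hg
  have hact : ∀ (h : H) (k : K), g h • k = h • k := fun h k => rfl
  have hfaith : FaithfulSMul f.range K := inferInstance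
  let T' : Sylow 2 f.range := T.mapSurjective hg
  have hT' : (T' : Subgroup f.range) = (T : Subgroup H).map g := rfl
  have hcyc' : IsCyclic (T' : Subgroup f.range) := by
    have hgs : g s ∈ (T' : Subgroup f.range) := by rw [hT']; exact ⟨s, hs, rfl⟩
    refine ⟨⟨g s, hgs⟩, ?_⟩
    rintro ⟨x, hx⟩
    have hx' := hx
    rw [hT'] at hx'
    obtain ⟨t, ht, rfl⟩ := hx'
    obtain ⟨n, hn⟩ := hcyc t ht
    refine ⟨n, Subtype.ext ?_⟩
    show (g s) ^ n = g t
    rw [← map_zpow]
    apply FaithfulSMul.eq_of_smul_eq_smul (α := K)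
    intro k
    rw [hact, hact, hn]
  obtain ⟨D, hDn, hodd, hDT, hcard⟩ := TransOdd.exists_complement T' hcyc'
  have hidx : ∃ n, D.index ∣ 2 ^ n := by
    obtain ⟨n, hn⟩ := IsPGroup.iff_card.1 T'.isPGroup'
    refine ⟨n, ?_⟩
    have h1 := D.card_mul_index
    rw [hcard] at h1
    have h3 : 0 < Nat.card D := Nat.card_pos
    rw [Nat.eq_of_mul_eq_mul_left h3 h1]
    exact dvd_of_eq hn
  obtain ⟨n, hn⟩ := hidx
  have htr' : ∀ a b : K, a ≠ 0 → b ≠ 0 → ∃ x : f.range, x • a = b := by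
    intro a b ha hb
    obtain ⟨h, hh⟩ := htr a b ha hb
    exact ⟨g h, hh⟩
  have htrD := TransOdd.trans_normal D n hn h2' htr'
  have hcen := TransOdd.central_of_fix D hodd h2' htrD (R.map g) e he (by
    rintro _ ⟨r, hr, rfl⟩
    exact hR r hr)
  intro r hr t ht k
  obtain ⟨d, hd, t₁, ht₁, hdt⟩ := hDT (g r)
  have hrR : g r ∈ R.map g := ⟨r, hr, rfl⟩
  have ht₁R : t₁ ∈ R.map g := by
    rw [hT'] at ht₁
    exact Subgroup.map_mono hTR ht₁
  have hdR : d ∈ R.map g := by
    have : d = g r * t₁⁻¹ := by rw [hdt]; group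
    rw [this]
    exact (R.map g).mul_mem hrR ((R.map g).inv_mem ht₁R)
  have htT' : g t ∈ (T' : Subgroup f.range) := by rw [hT']; exact ⟨t, ht, rfl⟩
  have htR : g t ∈ R.map g := ⟨t, hTR ht, rfl⟩
  have c1 : d * g t = g t * d := hcen d hd hdR _ htR
  have c2 : t₁ * g t = g t * t₁ := by
    have hcomm : IsMulCommutative (T' : Subgroup f.range) := inferInstance
    exact congrArg Subtype.val (hcomm.is_comm.comm ⟨t₁, ht₁⟩ ⟨g t, htT'⟩)
  have c3 : g r * g t = g t * g r := by
    rw [hdt, mul_assoc, c2, ← mul_assoc, c1, mul_assoc]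
  have h3 : (g r * g t) • k = (g t * g r) • k := by rw [c3]
  rw [mul_smul, mul_smul] at h3
  exact h3

/-- The same with `IsCyclic` of the image in the automorphism group. -/
theorem comm_of {H K : Type*} [Group H] [Finite H] [AddCommGroup K] [Finite K]
    [DistribMulAction H K] (h2 : ∀ k : K, k + k = 0) (T : Sylow 2 H)
    (hcyc : IsCyclic (((T : Subgroup H).map (DistribMulAction.toAddAut H K)) :
      Subgroup (Multiplicative (AddAut K))))
    (htr : ∀ a b : K, a ≠ 0 → b ≠ 0 → ∃ h : H, h • a = b) (R : Subgroup H)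
    (hTR : (T : Subgroup H) ≤ R) (e : K) (he : e ≠ 0) (hR : ∀ r ∈ R, r • e = e) :
    ∀ r ∈ R, ∀ t ∈ (T : Subgroup H), ∀ k : K, r • t • k = t • r • k := by
  obtain ⟨⟨_, s, hs, rfl⟩, hgen⟩ := hcyc.exists_generator
  refine comm_of' h2 T s hs (fun t ht => ?_) htr R hTR e he hR
  obtain ⟨n, hn⟩ := Subgroup.mem_zpowers_iff.1 (hgen ⟨_, t, ht, rfl⟩)
  refine ⟨n, fun k => ?_⟩
  have h1 : (DistribMulAction.toAddAut H K s) ^ n = DistribMulAction.toAddAut H K t :=
    congrArg Subtype.val hn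
  rw [← map_zpow] at h1
  have h3 : (DistribMulAction.toAddAut H K (s ^ n)).toAdd k
      = (DistribMulAction.toAddAut H K t).toAdd k := by rw [h1]
  exact h3.symm

end Cfsg.Agent.Omega.NOThreeL.RLow.KOneAbs
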