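import Cfsg.Agent.Omega.NOThreeL.RLow.KOneLine
import Cfsg.Agent.Omega.NOThreeL.RLow.KOneAbs
import Cfsg.Agent.Omega.Half.AppNat

/-!
# THEOREM R-LOW (#21762), (3b): a line inside the root line of a natural line has no radical

`P, R ∈ P*(S)`, `V_P` natural (one summand, `C_{V_P}(O²(P)) = 1`), `V_R` contained in the root line `C_{V_P}(C_S(..))`
of `V_P`, `C_Z(R) ≠ 1`: impossible.

* `zc_of_le` : `C_S(R₁) ≤ T ≤ S` ⟹ `Ω₁ Z(T) = C_{R₁}(T)` (`R₁` the root line);
* **`false_of_le_root`**.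
-/

set_option autoImplicit false

namespace Cfsg.Agent.Omega.NOThreeL.RLow.KOne

open Subgroup Cfsg Cfsg.Agent.ZN Cfsg.Agent.ZN.ChoiceBase Cfsg.Agent.ZN.ChoiceSit
open Cfsg.Agent.Omega.MinPar
open Cfsg.Agent.Omega.IId.MixedK (conj_comm comm_conj)
open Cfsg.Agent.Omega.FFThm (NatK NatKM ActsSL)
open Cfsg.Agent.Omega.Half (Amb amb_of_loc)
open Cfsg.Agent.Omega.NOThreeL.NF
open Cfsg.Agent.Omega.NOThreeL.NF.NatR
open Cfsg.Agent.Omega.NatPair (ap ap_zero')
open Cfsg.Agent.Lib.SL2Mat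

universe u

variable {G : Type u} [Group G] [Finite G] {F : Type} [Field F] {S : Sylow 2 G} {P R : Subgroup G}
  {N : NatKM F (S : Subgroup G) P (zl (S : Subgroup G) P) ⊥ 1}

/-- `Z ≤ R₁` -/
theorem zc_le_root (hA : Amb (S : Subgroup G) P (zl (S : Subgroup G) P)) : zc (S : Subgroup G) ≤ ln N Set.univ := by
  intro z hz
  have hzU := hA.zc hz
  refine mem_root.2 ⟨hzU, ?_⟩
  obtain ⟨t, ht, hact, -⟩ := N.unip fun _ => 1
  have h1 := hact z hzU 0
  have h2 : t * z * t⁻¹ = z := comm_conj ((ZN.mem_zc.1 hz).2.1 t ht)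
  rw [h2, ap_up] at h1
  have h3 := congrFun h1 0
  simp only [Matrix.cons_val_zero, one_mul] at h3
  exact left_eq_add.1 h3

theorem syl_of_sylow (hP : (S : Subgroup G) ≤ P) : Syl (S : Subgroup G) P :=
  ⟨hP, S.isPGroup', fun Q _ hQ hSQ => (S.is_maximal' hQ hSQ)⟩

section

variable (hA : Amb (S : Subgroup G) P (zl (S : Subgroup G) P))
include hA

theorem root_le : ln N Set.univ ≤ (S : Subgroup G) ⊓ centralizer (ln N Set.univ : Set G) := by
  refine le_inf ((ln_le _).trans hA.VT) fun x hx => mem_centralizer_iff.2 fun y hy => ?_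
  exact hA.comm y (ln_le _ hy) x (ln_le _ hx)

/-- `Ω₁ Z(T) = C_{R₁}(T)` for `C_S(R₁) ≤ T ≤ S`. -/
theorem zc_of_le [Finite F] [CharP F 2] {T : Subgroup G} (hTS : T ≤ (S : Subgroup G))
    (hT : (S : Subgroup G) ⊓ centralizer (ln N Set.univ : Set G) ≤ T) :
    zc T = ln N Set.univ ⊓ centralizer (T : Set G) := by
  have h0 := zc_inf_eq (lineF N) S.isPGroup' (norm_root hA) ((root_le hA).trans inf_le_left)
    (fun s hs => semi hA hs) (zc_le_root hA)
  have hRT : ln N Set.univ ≤ T := (root_le hA).trans hT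
  refine le_antisymm (fun x hx => ?_) fun x hx => ?_
  · obtain ⟨hxT, hxc, hx2⟩ := ZN.mem_zc.1 hx
    have hx1 : x ∈ centralizer (ln N Set.univ : Set G) :=
      mem_centralizer_iff.2 fun r hr => hxc r (hRT hr)
    refine ⟨?_, mem_centralizer_iff.2 fun t ht => hxc t ht⟩
    change x ∈ ln N Set.univ
    rw [← h0]
    exact ZN.mem_zc.2 ⟨⟨hTS hxT, hx1⟩, fun b hb => hxc b (hT hb), hx2⟩
  · obtain ⟨hx1, hx2⟩ := mem_inf.1 hx
    refine ZN.mem_zc.2 ⟨hRT hx1, fun b hb => mem_centralizer_iff.1 hx2 b hb, hA.sq x (ln_le _ hx1)⟩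

end

/-- `Ω₁ Z(T)` is commutative -/
@[reducible] def zcComm (T : Subgroup G) : CommGroup ↥(zc T) :=
  { (inferInstance : Group ↥(zc T)) with
    mul_comm := fun x y => Subtype.ext ((ZN.mem_zc.1 y.2).2.1 x (ZN.zc_le T x.2)) }

/-- the conjugation action of `N_G(T)` on `Ω₁ Z(T)` -/
@[reducible] def act (T : Subgroup G) : DistribMulAction ↥(normalizer (T : Set G)) (Additive ↥(zc T)) where
  smul h k := Additive.ofMul ⟨(h : G) * (Additive.toMul k : ↥(zc T)) * (h : G)⁻¹,
    (mem_normalizer_iff.1 (MinSimple.VModule.normalizer_le_normalizer_zc T h.2) _).1 (Additive.toMul k).2⟩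
  one_smul k := by
    apply Additive.toMul.injective
    apply Subtype.ext
    change (1 : G) * (Additive.toMul k : ↥(zc T)) * (1 : G)⁻¹ = _
    group
  mul_smul g h k := by
    apply Additive.toMul.injective
    apply Subtype.ext
    change ((g * h : ↥(normalizer (T : Set G))) : G) * (Additive.toMul k : ↥(zc T)) *
      ((g * h : ↥(normalizer (T : Set G))) : G)⁻¹ = (g : G) * ((h : G) * (Additive.toMul k : ↥(zc T)) * (h : G)⁻¹) * (g : G)⁻¹
    rw [Subgroup.coe_mul]; group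
  smul_zero h := by
    apply Additive.toMul.injective
    apply Subtype.ext
    change (h : G) * 1 * (h : G)⁻¹ = 1
    group
  smul_add h k l := by
    apply Additive.toMul.injective
    apply Subtype.ext
    change (h : G) * ((Additive.toMul k : ↥(zc T)) * (Additive.toMul l : ↥(zc T)) : G) * (h : G)⁻¹ =
      (h : G) * (Additive.toMul k : ↥(zc T)) * (h : G)⁻¹ * ((h : G) * (Additive.toMul l : ↥(zc T)) * (h : G)⁻¹)
    group

/-- **(3b)**: a line inside the root line has no radical. -/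
theorem false_of_le_root [Finite F] [CharP F 2] (hc : IsCharacteristicTwoType G)
    (hP : IsParS (S : Subgroup G) P) (N : NatKM F (S : Subgroup G) P (zl (S : Subgroup G) P) ⊥ 1)
    (hR : IsParS (S : Subgroup G) R) (hz : zc (S : Subgroup G) ⊓ centralizer (R : Set G) ≠ ⊥)
    (hl : zl (S : Subgroup G) R ≤ ln N Set.univ) : False := by
  have hA := amb_of_loc hc S hP.isLoc
  set T : Subgroup G := o2 R with hTdef
  have hTeq : (S : Subgroup G) ⊓ centralizer (zl (S : Subgroup G) R : Set G) = T := hR.inf_centralizer S hc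
  have hTS : T ≤ (S : Subgroup G) := by rw [← hTeq]; exact inf_le_left
  have hT : (S : Subgroup G) ⊓ centralizer (ln N Set.univ : Set G) ≤ T := by
    rw [← hTeq]
    exact inf_le_inf_left _ (centralizer_le hl)
  have hzT := zc_of_le hA hTS hT
  have hzT' : ∀ x ∈ zc T, x ∈ ln N Set.univ := fun x hx => by
    rw [hzT] at hx
    exact hx.1
  have hSyl : Syl (S : Subgroup G) P := syl_of_sylow hP.le
  have hZT : zc (S : Subgroup G) ≤ zc T := by
    rw [hzT]
    exact le_inf (zc_le_root hA) fun z hz => mem_centralizer_iff.2 fun t ht => (ZN.mem_zc.1 hz).2.1 t (hTS ht)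
  have hRN : R ≤ normalizer (T : Set G) := MinSimple.VModule.le_normalizer_o2 R
  have hSN : (S : Subgroup G) ≤ normalizer (T : Set G) := hR.le.trans hRN
  -- the action
  letI := zcComm T
  letI := act T
  have hsm : ∀ (h : ↥(normalizer (T : Set G))) (k : Additive ↥(zc T)),
      ((Additive.toMul (h • k) : ↥(zc T)) : G) = (h : G) * (Additive.toMul k : ↥(zc T)) * (h : G)⁻¹ :=
    fun _ _ => rfl
  obtain ⟨e, he, he1⟩ : ∃ e : G, e ∈ zc (S : Subgroup G) ⊓ centralizer (R : Set G) ∧ e ≠ 1 := by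
    by_contra hcon
    push Not at hcon
    exact hz ((Subgroup.eq_bot_iff_forall _).2 hcon)
  have he' : e ∈ zc T := hZT he.1
  obtain ⟨a, haS, hagen⟩ := (lineF N).exists_gen (S : Subgroup G) (fun s hs => semi hA hs) S.isPGroup'
  have key := KOneAbs.comm_of' (H := ↥(normalizer (T : Set G))) (K := Additive ↥(zc T)) ?_ (S.subtype hSN) ⟨a, hSN haS⟩ haS ?_ ?_
    (R.subgroupOf (normalizer (T : Set G))) ?_ (Additive.ofMul ⟨e, he'⟩) ?_ ?_
  · -- conclusion
    refine hR.not_zc ?_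
    have hle : ∀ r ∈ R, ∀ z ∈ zc (S : Subgroup G), r * z * r⁻¹ ∈ zc (S : Subgroup G) := by
      intro r hr z hz
      have h3 : r * z * r⁻¹ ∈ zc T := (mem_normalizer_iff.1
        (MinSimple.VModule.normalizer_le_normalizer_zc T (hRN hr)) z).1 (hZT hz)
      refine ZN.mem_zc.2 ⟨hTS (ZN.zc_le T h3), fun t ht => ?_, (ZN.mem_zc.1 h3).2.2⟩
      have h1 := key ⟨r, hRN hr⟩ hr ⟨t, hSN ht⟩ ht (Additive.ofMul ⟨z, hZT hz⟩)
      have h2 := congrArg (fun k : Additive ↥(zc T) => ((Additive.toMul k : ↥(zc T)) : G)) h1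
      simp only [hsm] at h2
      change r * (t * z * t⁻¹) * r⁻¹ = t * (r * z * r⁻¹) * t⁻¹ at h2
      rw [comm_conj ((ZN.mem_zc.1 hz).2.1 t ht)] at h2
      exact conj_comm h2.symm
    intro r hr
    rw [mem_normalizer_iff]
    intro z
    refine ⟨fun h => hle r hr z h, fun h => ?_⟩
    have h1 := hle r⁻¹ (inv_mem hr) _ h
    have e1 : r⁻¹ * (r * z * r⁻¹) * r⁻¹⁻¹ = z := by group
    rwa [e1] at h1
  · -- exponent 2
    intro k
    apply Additive.toMul.injective
    apply Subtype.ext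
    change ((Additive.toMul k : ↥(zc T)) : G) * (Additive.toMul k : ↥(zc T)) = 1
    rw [← pow_two]
    exact (ZN.mem_zc.1 (Additive.toMul k).2).2.2
  · -- cyclic
    intro b hb
    obtain ⟨n, hn⟩ := hagen (b : G) hb
    refine ⟨-n, fun k => ?_⟩
    apply Additive.toMul.injective
    apply Subtype.ext
    rw [hsm, hsm]
    have hk : ((Additive.toMul k : ↥(zc T)) : G) ∈ ln N Set.univ := hzT' _ (Additive.toMul k : ↥(zc T)).2
    have h2 := hn _ hk
    have e1 : (((⟨a, hSN haS⟩ : ↥(normalizer (T : Set G))) ^ (-n) : ↥(normalizer (T : Set G))) : G) = a ^ (-n) := by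
      rw [Subgroup.coe_zpow]
    rw [e1]
    have h3 : (b : G) * (Additive.toMul k : ↥(zc T)) = (a ^ n)⁻¹ * ((Additive.toMul k : ↥(zc T)) * (a ^ n * b)) := by
      rw [← h2]; group
    rw [h3, zpow_neg]
    group
  · -- transitive
    intro x y hx hy
    have hx' := (Additive.toMul x : ↥(zc T)).2
    have hy' := (Additive.toMul y : ↥(zc T)).2
    obtain ⟨-, hxc, -⟩ := ZN.mem_zc.1 hx'
    obtain ⟨-, hyc, -⟩ := ZN.mem_zc.1 hy'
    obtain ⟨g, -, hgT, hg⟩ := fuse hA hSyl hTS hT (ln_le _ (hzT' _ hx')) (ln_le _ (hzT' _ hy')) hxc hyc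
      (fun h => hx (Additive.toMul.injective (Subtype.ext h))) (fun h => hy (Additive.toMul.injective (Subtype.ext h)))
    refine ⟨⟨g, hgT⟩, ?_⟩
    apply Additive.toMul.injective
    apply Subtype.ext
    rw [hsm]
    exact hg
  · -- `S ≤ R`
    intro t ht
    exact hR.le ht
  · intro h
    exact he1 (congrArg (fun k : Additive ↥(zc T) => ((Additive.toMul k : ↥(zc T)) : G)) h)
  · intro r hr
    apply Additive.toMul.injective
    apply Subtype.ext
    rw [hsm]
    exact comm_conj (mem_centralizer_iff.1 he.2 r hr)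

end Cfsg.Agent.Omega.NOThreeL.RLow.KOne
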