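import Cfsg.Agent.Omega.IId.KOne
import Cfsg.Agent.Omega.NOThreeL.NF.Nat
import Cfsg.Agent.Omega.NO1.NSix.Semi

/-!
# THEOREM R-LOW (#21762), `k = 1`: the root line of a natural line

`N : NatKM F S P U ⊥ 1` (one natural summand), `R = ln N univ` its root line.

* `zc_inf_eq` : if a 2-group `S'` acts semilinearly on the line `R ≤ S'` and `Ω₁ Z(S') ≤ R`, then
  `Ω₁ Z(C_{S'}(R)) = R`;
* `lineF N` : coordinates on `R`, `semi` : `S` acts semilinearly on `R`;
* `slg N` : the elements of `P` acting as elements of `SL₂(F)`; `inf_slg_le` : `S ∩ slg N ≤ C(R)`;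
* `syl_sup_slg` : `C_S(R) ≤ T ≤ S` is Sylow in `T (slg N)`;
* **`fuse`** : `N_P(T)` is transitive on `C_R(T)#` (Burnside, no torus).
-/

set_option autoImplicit false
set_option linter.unusedSectionVars false

namespace Cfsg.Agent.Omega.NOThreeL.RLow.KOne

open Subgroup Cfsg Cfsg.Agent.ZN Cfsg.Agent.ZN.ChoiceBase Cfsg.Agent.ZN.ChoiceSit
open Cfsg.Agent.Omega.MinPar
open Cfsg.Agent.Omega.IId.MixedK (conj_comm comm_conj)
open Cfsg.Agent.Omega.IId.SemiLine
open Cfsg.Agent.Omega.IId.KOne (card_le_pow conj_cent syl_inf syl_le)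
open Cfsg.Agent.Omega.FFThm (NatK NatKM ActsSL)
open Cfsg.Agent.Omega.Half (Amb)
open Cfsg.Agent.Omega.Half.NatA (Mv)
open Cfsg.Agent.Omega.NO1.NSix (em em_mem e_em_self em_add ph ph_add exists_semi e_conj)
open Cfsg.Agent.Omega.NOThreeL.NF
open Cfsg.Agent.Omega.NOThreeL.NF.NatR
open Cfsg.Agent.Omega.NatPair (ap ap_mul ap_one ap_inv_ap ap_zero' ap_one' ext2 exists_ap ap_smul)
open Cfsg.Agent.Lib.SL2Mat

universe u

section line

variable {G : Type*} [Group G]

theorem mem_sup_norm {A B : Subgroup G} (h : A ≤ normalizer (B : Set G)) {x : G}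
    (hx : x ∈ A ⊔ B) : ∃ a ∈ A, ∃ b ∈ B, a * b = x := by
  have h1 : x ∈ ((A ⊔ B : Subgroup G) : Set G) := hx
  rw [coe_mul_of_left_le_normalizer_right A B h] at h1
  exact Set.mem_mul.mp h1

/-- `Ω₁ Z(C_{S'}(R)) = R` (the order argument of #13866 (1)). -/
theorem zc_inf_eq [Finite G] {F : Type*} [Field F] [Finite F] [CharP F 2] {S' R : Subgroup G}
    (L : LineF F R) (h2 : IsPGroup 2 S') (hSR : S' ≤ normalizer (R : Set G)) (hRS : R ≤ S')
    (hSs : ∀ s ∈ S', L.Semi s) (hZ : zc S' ≤ R) : zc (S' ⊓ centralizer (R : Set G)) = R := by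
  have hRc : ∀ r ∈ R, ∀ r' ∈ R, r * r' = r' * r := by
    intro r hr r' hr'
    obtain ⟨x, rfl⟩ := (L.mem r).1 hr
    obtain ⟨x', rfl⟩ := (L.mem r').1 hr'
    exact L.comm x x'
  have hRsq : ∀ r ∈ R, r * r = 1 := by
    intro r hr
    obtain ⟨x, rfl⟩ := (L.mem r).1 hr
    rw [← L.add, CharTwo.add_self_eq_zero, L.e_zero]
  set X : Subgroup G := centralizer (R : Set G) with hX
  have hRX : R ≤ X := fun r hr => mem_centralizer_iff.2 fun r' hr' => hRc r' hr' r hr
  set Y := S' ⊓ X with hY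
  have hmemX : ∀ {g : G}, g ∈ X ↔ ∀ r ∈ R, g * r = r * g := by
    intro g
    rw [hX, mem_centralizer_iff]
    exact ⟨fun h r hr => (h r hr).symm, fun h r hr => (h r hr).symm⟩
  have h2' : Nat.card R = Nat.card ↥(R ⊓ centralizer (S' : Set G)) ^ Y.relIndex S' :=
    L.card_eq S' hSs h2
  have h4 : Nat.card Y * Y.relIndex S' = Nat.card S' := by
    have h := relIndex_mul_relIndex (⊥ : Subgroup G) Y S' bot_le inf_le_left
    rwa [relIndex_bot_left, relIndex_bot_left] at h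
  have hRY : R ≤ Y := le_inf hRS hRX
  have hRz : R ≤ zc Y := by
    intro r hr
    refine Cfsg.Agent.ZN.mem_zc.2 ⟨hRY hr, fun b hb => hmemX.1 hb.2 r hr, ?_⟩
    rw [pow_two]; exact hRsq r hr
  obtain ⟨a, haS, hagen⟩ := L.exists_gen S' hSs h2
  have hYN : (Y.subgroupOf S').Normal := by
    constructor
    intro n hn g
    rw [mem_subgroupOf] at hn ⊢
    exact mem_inf.2 ⟨(g * n * g⁻¹).2, conj_cent (hSR g.2) hn.2⟩
  obtain ⟨k, hk⟩ : ∃ k, Y.relIndex S' = 2 ^ k := by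
    obtain ⟨n, hn⟩ := h2.exists_card_eq
    have h5 : Y.relIndex S' ∣ 2 ^ n := by
      rw [← hn, ← h4]; exact dvd_mul_left _ _
    obtain ⟨k, -, hk⟩ := (Nat.dvd_prime_pow Nat.prime_two).1 h5
    exact ⟨k, hk⟩
  have hak : a ^ 2 ^ k ∈ Y := by
    have h5 := Subgroup.pow_index_mem (Y.subgroupOf S') (⟨a, haS⟩ : S')
    rw [mem_subgroupOf] at h5
    rw [← hk]
    exact h5
  have hSNz : S' ≤ normalizer ((zc Y : Subgroup G) : Set G) := by
    refine le_trans ?_ (normalizer_le_normalizer_zc Y)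
    exact (normal_subgroupOf_iff_le_normalizer inf_le_left).1 hYN
  have h5 := card_le_pow (Z := zc Y) (fun x hx y hy => zc_comm hy (ZN.zc_le Y hx))
    (fun x hx => by rw [← pow_two]; exact zc_sq hx) (a := a)
    (fun x hx => (mem_normalizer_iff.1 (hSNz haS) x).1 hx) k
    (fun x hx => zc_comm hx hak)
  have h6 : zc Y ⊓ centralizer ({a} : Set G) ≤ R ⊓ centralizer (S' : Set G) := by
    intro x hxx
    obtain ⟨hx, hxa⟩ := mem_inf.1 hxx
    rw [mem_centralizer_singleton_iff] at hxa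
    have hxS : ∀ s ∈ S', s * x = x * s := by
      intro s hs
      obtain ⟨n, hn⟩ := hagen s hs
      have hY' : a ^ n * s ∈ Y := mem_inf.2 ⟨mul_mem (zpow_mem haS n) hs, hmemX.2 hn⟩
      have h7 : (a ^ n * s) * x = x * (a ^ n * s) := zc_comm hx hY'
      have h8 : a ^ n * x = x * a ^ n := ((show Commute a x from hxa.symm).zpow_left n).eq
      have h9 : a ^ n * (s * x) = a ^ n * (x * s) := by
        calc a ^ n * (s * x) = (a ^ n * s) * x := by group
          _ = (x * a ^ n) * s := by rw [h7]; group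
          _ = a ^ n * (x * s) := by rw [← h8]; group
      exact mul_left_cancel h9
    refine mem_inf.2 ⟨hZ (mem_zc.2 ⟨(ZN.zc_le Y hx).1, hxS, zc_sq hx⟩),
      mem_centralizer_iff.2 fun s hs => hxS s hs⟩
  refine (Subgroup.eq_of_le_of_card_ge hRz ?_).symm
  calc Nat.card (zc Y) ≤ Nat.card ↥(zc Y ⊓ centralizer ({a} : Set G)) ^ 2 ^ k := h5
    _ ≤ Nat.card ↥(R ⊓ centralizer (S' : Set G)) ^ 2 ^ k :=
        Nat.pow_le_pow_left (card_le_of_le h6) _
    _ = Nat.card R := by rw [h2', hk]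

end line

/-! ### One natural summand -/

section one

variable {G : Type u} [Group G] {F : Type} [Field F] {S P U : Subgroup G}

/-- coordinates on the root line -/
noncomputable def lineF (N : NatKM F S P U ⊥ 1) : LineF F (ln N Set.univ) where
  e x := em N.toNatK 0 ![x, 0]
  add x y := by
    rw [← em_add]
    congr 1
    ext i; fin_cases i <;> simp
  inj := by
    intro x y hxy
    have h1 : em N.toNatK 0 ![x, 0] = em N.toNatK 0 ![y, 0] := hxy
    have h2 := congrArg (fun g => N.e g 0) h1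
    simp only [e_em_self] at h2
    exact congrFun h2 0
  mem g := by
    rw [mem_ln]
    constructor
    · rintro ⟨hg, h1, -⟩
      refine ⟨N.e g 0 0, ?_⟩
      refine e_inj (M := N) (em_mem _ _ _) hg ?_
      funext j
      obtain rfl : j = 0 := Subsingleton.elim _ _
      rw [e_em_self]
      refine ext2 rfl ?_
      rw [h1]; rfl
    · rintro ⟨x, rfl⟩
      refine ⟨em_mem _ _ _, fun j => ?_, fun j hj => absurd (Set.mem_univ j) hj⟩
      obtain rfl : j = 0 := Subsingleton.elim _ _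
      rw [e_em_self]; rfl

variable {N : NatKM F S P U ⊥ 1}

theorem mem_root {v : G} : v ∈ ln N Set.univ ↔ v ∈ U ∧ N.e v 0 1 = 0 := by
  rw [mem_ln]
  constructor
  · rintro ⟨h1, h2, -⟩
    exact ⟨h1, h2 0⟩
  · rintro ⟨h1, h2⟩
    refine ⟨h1, fun j => ?_, fun j hj => absurd (Set.mem_univ j) hj⟩
    obtain rfl : j = 0 := Subsingleton.elim _ _
    exact h2

variable (hA : Amb S P U)
include hA

theorem norm_root : S ≤ normalizer (ln N Set.univ : Set G) := by
  have key : ∀ s ∈ S, ∀ v ∈ ln N Set.univ, s * v * s⁻¹ ∈ ln N Set.univ := by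
    intro s hs v hv
    rw [mem_root] at hv ⊢
    obtain ⟨σ, hσ⟩ := N.line s hs
    refine ⟨hA.conj_mem (hA.TH hs) hv.1, ?_⟩
    have h1 := (hσ v hv.1 0).2 hv.2
    have h2 : σ 0 = 0 := Subsingleton.elim _ _
    rwa [h2] at h1
  intro s hs
  rw [mem_normalizer_iff]
  intro v
  refine ⟨key s hs v, fun h => ?_⟩
  have h1 := key s⁻¹ (inv_mem hs) _ h
  have e1 : s⁻¹ * (s * v * s⁻¹) * s⁻¹⁻¹ = v := by group
  rwa [e1] at h1

/-- **`S` acts semilinearly on the root line.** -/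
theorem semi [Finite F] {s : G} (hs : s ∈ S) : (lineF N).Semi s := by
  have hsP := hA.TH hs
  obtain ⟨σ, hσ⟩ := N.perm s hsP
  have h0 : σ 0 = 0 := Subsingleton.elim _ _
  obtain ⟨τ, hτ⟩ := exists_semi (M := N.toNatK) hA hsP hσ 0
  rw [h0] at hτ
  refine ⟨ph N.toNatK s 0 0 ![1, 0] 0, τ, fun x => ?_⟩
  have hm : ∀ y : F, em N.toNatK 0 ![y, 0] ∈ ln N Set.univ := fun y => ((lineF N).mem _).2 ⟨y, rfl⟩
  have h1 := (mem_normalizer_iff.1 (norm_root hA hs) _).1 (hm x)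
  obtain ⟨y, hy⟩ := ((lineF N).mem _).1 h1
  have hy' : em N.toNatK 0 ![y, 0] = s * em N.toNatK 0 ![x, 0] * s⁻¹ := hy
  change s * em N.toNatK 0 ![x, 0] * s⁻¹ = em N.toNatK 0 ![_, 0]
  rw [← hy']
  congr 2
  have h2 : N.e (s * em N.toNatK 0 ![x, 0] * s⁻¹) 0 = τ x • ph N.toNatK s 0 0 ![1, 0] := by
    rw [← hτ]
    have e1 : (x • ![1, 0] : Fin 2 → F) = ![x, 0] := by ext i; fin_cases i <;> simp
    rw [e1]; rfl
  rw [← hy', e_em_self] at h2
  have h3 := congrFun h2 0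
  simp only [Matrix.cons_val_zero, Pi.smul_apply, smul_eq_mul] at h3
  rw [h3, mul_comm]

/-- The elements of `P` acting as elements of `SL₂(F)`. -/
def slg (N : NatKM F S P U ⊥ 1) (hPU : P ≤ normalizer (U : Set G)) : Subgroup G where
  carrier := {g | g ∈ P ∧ ∃ A, Ac N g A}
  mul_mem' := by
    rintro a b ⟨ha, A, hA⟩ ⟨hb, B, hB⟩
    exact ⟨mul_mem ha hb, A * B, hA.mul hPU hb hB⟩
  one_mem' := ⟨one_mem _, 1, ac_one (one_mem _)⟩
  inv_mem' := by
    rintro a ⟨ha, A, hA⟩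
    exact ⟨inv_mem ha, A⁻¹, hA.inv hPU ha⟩

theorem mem_slg {hPU : P ≤ normalizer (U : Set G)} {g : G} : g ∈ slg N hPU ↔ g ∈ P ∧ ∃ A, Ac N g A := Iff.rfl

theorem slg_le {hPU : P ≤ normalizer (U : Set G)} : slg N hPU ≤ P := fun _ h => h.1

theorem slg_conj {hPU : P ≤ normalizer (U : Set G)} {g h : G} (hg : g ∈ P) (hh : h ∈ slg N hPU) :
    g * h * g⁻¹ ∈ slg N hPU := by
  obtain ⟨hh1, A, hA'⟩ := hh
  obtain ⟨B, hB⟩ := N.norm g hg h hh1 A hA'
  exact ⟨mul_mem (mul_mem hg hh1) (inv_mem hg), B, hB⟩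

omit hA in
theorem cent_le_slg {hPU : P ≤ normalizer (U : Set G)} : P ⊓ centralizer (U : Set G) ≤ slg N hPU :=
  fun _ hg => ⟨hg.1, 1, ac_one hg.2⟩

/-- a 2-element of `SL₂(F)` which fixes the root line centralises it -/
theorem inf_slg_le [Finite F] [CharP F 2] (hS : IsPGroup 2 S) {hPU : P ≤ normalizer (U : Set G)} :
    S ⊓ slg N hPU ≤ centralizer (ln N Set.univ : Set G) := by
  rintro s ⟨hs, hsP, A, hsA⟩
  -- `s` acts as a scalar
  set L := lineF N with hL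
  have hm : ∀ y : F, L.e y ∈ ln N Set.univ := fun y => (L.mem _).2 ⟨y, rfl⟩
  have hU : ∀ y : F, L.e y ∈ U := fun y => (mem_root.1 (hm y)).1
  have he : ∀ y : F, N.e (L.e y) 0 = ![y, 0] := fun y => e_em_self _ _ _
  have h1 : ∀ y, s * L.e y * s⁻¹ = L.e (ap (A 0) ![1, 0] 0 * y) := by
    intro y
    obtain ⟨y', hy'⟩ := (L.mem _).1 ((mem_normalizer_iff.1 (norm_root hA hs) _).1 (hm y))
    rw [← hy']
    have h2 := hsA _ (hU y) 0
    rw [← hy', he, he] at h2
    have e1 : (![y, 0] : Fin 2 → F) = y • ![1, 0] := by ext i; fin_cases i <;> simp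
    rw [e1, ap_smul] at h2
    have h3 := congrFun h2 0
    simp only [Matrix.cons_val_zero, Pi.smul_apply, smul_eq_mul] at h3
    rw [h3, mul_comm]
  set a : F := ap (A 0) ![1, 0] 0 with ha
  have h2 : ∀ (n : ℕ) (y : F), (s ^ n) * L.e y * (s ^ n)⁻¹ = L.e (a ^ n * y) := by
    intro n
    induction n with
    | zero => intro y; simp
    | succ n ih =>
      intro y
      rw [pow_succ]
      calc s ^ n * s * L.e y * (s ^ n * s)⁻¹ = s ^ n * (s * L.e y * s⁻¹) * (s ^ n)⁻¹ := by group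
        _ = _ := by rw [h1, ih, pow_succ, mul_assoc]
  obtain ⟨k, hk⟩ := hS ⟨s, hs⟩
  have hk' : s ^ 2 ^ k = 1 := by
    have := congrArg Subtype.val hk
    simpa using this
  have h3 : a ^ 2 ^ k = 1 := by
    have h4 := h2 (2 ^ k) 1
    rw [hk'] at h4
    have h5 := L.inj (h4.symm.trans (by simp : (1 : G) * L.e 1 * (1 : G)⁻¹ = L.e 1))
    rwa [mul_one] at h5
  have h4 : a = 1 := by
    have h5 := (iterateFrobenius F 2 k).injective
    refine h5 ?_
    rw [iterateFrobenius_def, iterateFrobenius_def, h3, one_pow]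
  refine mem_centralizer_iff.2 fun r hr => ?_
  obtain ⟨y, rfl⟩ := (L.mem r).1 hr
  have h5 := h1 y
  rw [h4, one_mul] at h5
  exact (conj_comm h5).symm

/-- **`T` is Sylow in `T (slg N)`** if `C_S(R) ≤ T ≤ S`. -/
theorem syl_sup_slg [Finite G] [Finite F] [CharP F 2] (hSP : Syl S P) {hPU : P ≤ normalizer (U : Set G)}
    {T : Subgroup G} (hTS : T ≤ S) (hT : S ⊓ centralizer (ln N Set.univ : Set G) ≤ T) : Syl T (T ⊔ slg N hPU) := by
  have hS2 : IsPGroup 2 S := hSP.2.1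
  have hN1 : S ⊓ slg N hPU ≤ T := (le_inf inf_le_left (inf_slg_le hA hS2)).trans hT
  have hSyl : Syl (S ⊓ slg N hPU) (slg N hPU) := syl_inf hSP (slg_le hA) fun h hh n hn => slg_conj hA hh hn
  have hTN : T ≤ normalizer (slg N hPU : Set G) := by
    intro t ht
    have htP : t ∈ P := hA.TH (hTS ht)
    rw [mem_normalizer_iff]
    intro x
    refine ⟨fun hx => slg_conj hA htP hx, fun hx => ?_⟩
    have h1 := slg_conj hA (inv_mem htP) hx
    have e1 : t⁻¹ * (t * x * t⁻¹) * t⁻¹⁻¹ = x := by group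
    rwa [e1] at h1
  refine ⟨le_sup_left, hS2.to_le hTS, fun Q hQ hQ2 hTQ => ?_⟩
  have hQN : Q ⊓ slg N hPU = S ⊓ slg N hPU :=
    hSyl.2.2 _ inf_le_right (hQ2.to_le inf_le_left) (le_inf (hN1.trans hTQ) inf_le_right)
  refine le_antisymm (fun x hx => ?_) hTQ
  obtain ⟨t, ht, n, hn, rfl⟩ := mem_sup_norm hTN (hQ hx)
  have h1 : n ∈ Q := by
    have := mul_mem (inv_mem (hTQ ht)) hx
    rwa [inv_mul_cancel_left] at this
  have h2 : n ∈ S ⊓ slg N hPU := by rw [← hQN]; exact ⟨h1, hn⟩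
  exact mul_mem ht (hN1 h2)

/-- **Fusion**: `N_P(T)` is transitive on the involutions of `Ω₁ Z(T)` in the root line (`C_S(R) ≤ T ≤ S`). -/
theorem fuse [Finite G] [Finite F] [CharP F 2] (hSP : Syl S P) {T : Subgroup G}
    (hTS : T ≤ S) (hT : S ⊓ centralizer (ln N Set.univ : Set G) ≤ T) {a b : G} (ha : a ∈ U) (hb : b ∈ U)
    (haT : ∀ t ∈ T, t * a = a * t) (hbT : ∀ t ∈ T, t * b = b * t) (ha1 : a ≠ 1) (hb1 : b ≠ 1) :
    ∃ g ∈ P, g ∈ normalizer (T : Set G) ∧ g * a * g⁻¹ = b := by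
  have hPU := hA.HV
  have hea : N.e a 0 ≠ 0 := by
    intro h
    refine ha1 (e_inj (M := N) ha (one_mem _) ?_)
    rw [e_one]
    funext j
    obtain rfl : j = 0 := Subsingleton.elim _ _
    exact h
  have heb : N.e b 0 ≠ 0 := by
    intro h
    refine hb1 (e_inj (M := N) hb (one_mem _) ?_)
    rw [e_one]
    funext j
    obtain rfl : j = 0 := Subsingleton.elim _ _
    exact h
  obtain ⟨A, hAab⟩ := exists_ap hea heb
  obtain ⟨g, hg, hgA, -⟩ := N.lift fun _ => A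
  have hgs : g ∈ slg N hPU := ⟨hg, _, hgA⟩
  have hgab : g * a * g⁻¹ = b := by
    refine e_inj (M := N) (hA.conj_mem hg ha) hb ?_
    funext j
    obtain rfl : j = 0 := Subsingleton.elim _ _
    rw [hgA a ha 0, hAab]
  have hSyl := syl_sup_slg hA hSP (hPU := hPU) hTS hT
  set P₀ := T ⊔ slg N hPU with hP₀
  have hP₀P : P₀ ≤ P := sup_le (hTS.trans hA.TH) (slg_le hA)
  have hgP₀ : g ∈ P₀ := le_sup_right (a := T) hgs
  have hcj : cj g P₀ = P₀ := cj_eq_of_mem_normalizer (le_normalizer hgP₀)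
  have h1 : Syl (cj g T) P₀ := by
    refine ⟨?_, isPGroup_cj g hSyl.2.1, fun Q hQ hp hTQ => ?_⟩
    · rw [← hcj]; exact cj_mono g hSyl.1
    · have h3 := cj_mono g⁻¹ hQ
      have h4 : cj g⁻¹ P₀ = P₀ := cj_eq_of_mem_normalizer (le_normalizer (inv_mem hgP₀))
      rw [h4] at h3
      have h2 := hSyl.2.2 (cj g⁻¹ Q) h3 (isPGroup_cj _ hp) (cj_le_iff.1 hTQ)
      rw [← h2, cj_cj_inv]
  have hC1 : cj g T ≤ centralizer ({b} : Set G) := by
    rintro _ ⟨t, ht, rfl⟩
    rw [mem_centralizer_singleton_iff]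
    change g * t * g⁻¹ * b = b * (g * t * g⁻¹)
    rw [← hgab]
    calc g * t * g⁻¹ * (g * a * g⁻¹) = g * (t * a) * g⁻¹ := by group
      _ = g * (a * t) * g⁻¹ := by rw [haT t ht]
      _ = _ := by group
  have hC2 : T ≤ centralizer ({b} : Set G) := fun t ht => by
    rw [mem_centralizer_singleton_iff]; exact hbT t ht
  obtain ⟨c, hc, e⟩ := syl_conj (syl_le h1 (le_inf h1.1 hC1) inf_le_left)
    (syl_le hSyl (le_inf hSyl.1 hC2) inf_le_left : Syl T (P₀ ⊓ centralizer ({b} : Set G)))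
  rw [cj_cj] at e
  refine ⟨c * g, mul_mem (hP₀P hc.1) hg, mem_normalizer_iff_cj.2 e, ?_⟩
  have hcb : c * b = b * c := mem_centralizer_singleton_iff.1 (show c ∈ centralizer ({b} : Set G) from hc.2)
  calc c * g * a * (c * g)⁻¹ = c * (g * a * g⁻¹) * c⁻¹ := by group
    _ = b := by rw [hgab, hcb]; group

end one

end Cfsg.Agent.Omega.NOThreeL.RLow.KOne
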