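import Cfsg.Agent.Omega.NOThreeL.RLow.KTwoBase
import Cfsg.Agent.Omega.NOne.LemmaT

/-!
# [R-low] (#21762, helper597): LEMMA HALF (#22231 (A), helper535)

`G` of characteristic 2 type, `U = V_P` a sum of natural modules, `T₀` of index 2 in `S`, `N_S(N_i) ≤ T₀`, `O` the
`T₀`-orbit of `i`, `Z₂ = {z_{O'} : z ∈ Z}` (`O'` the complement of `O`). Then `N_j ≤ O₂(C_G(Z₂))` for `j ∈ O`.
-/

set_option autoImplicit false

namespace Cfsg.Agent.Omega.NOThreeL.RLow.KTwo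

open Subgroup Cfsg Cfsg.Agent.ZN Cfsg.Agent.Omega.MinPar
open Cfsg.Agent.Omega.FFThm (NatKM ActsSL)
open Cfsg.Agent.MinSimple.VModule (zc_le_zl zc_sq o2_isPGroup le_o2)
open Cfsg.Agent.Omega.NatPair (ap ap_mul ap_one ap_inv_ap ap_zero' ap_one' ap_inj ext2 exists_ap)
open Cfsg.Agent.Lib.SL2Mat
open Cfsg.Agent.Omega.NOThreeL.Low (Blk Rtv blk mem_blk exists_blk)
open Cfsg.Agent.Omega.NOThreeL.NF.NatR
open scoped Pointwise

universe u

/-! ### Support -/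

section supp

variable {G : Type u} [Group G] {K : Type} [Field K] {S P U : Subgroup G} {k : ℕ}
  (N : NatKM K S P U ⊥ k)

/-- the vectors with support in `O` -/
def uo (O : Set (Fin k)) : Subgroup G where
  carrier := {v | v ∈ U ∧ ∀ j, j ∉ O → N.e v j = 0}
  mul_mem' := by
    rintro a b ⟨ha, ha'⟩ ⟨hb, hb'⟩
    exact ⟨mul_mem ha hb, fun j hj => by rw [N.mul a ha b hb, Pi.add_apply, ha' j hj, hb' j hj, add_zero]⟩
  one_mem' := ⟨one_mem _, fun j _ => by rw [e_one (M := N)]; rfl⟩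
  inv_mem' := by
    rintro a ⟨ha, ha'⟩
    exact ⟨inv_mem ha, fun j hj => by rw [e_inv (M := N) ha, Pi.neg_apply, ha' j hj, neg_zero]⟩

variable {N}

theorem mem_uo {O : Set (Fin k)} {v : G} : v ∈ uo N O ↔ v ∈ U ∧ ∀ j, j ∉ O → N.e v j = 0 := Iff.rfl

theorem pr_mem_uo {O : Set (Fin k)} (v : G) : pr N O v ∈ uo N O := ⟨pr_mem N O v, fun _ hj => e_pr_out hj⟩

theorem blk_le_uo {O : Set (Fin k)} {j : Fin k} (hj : j ∈ O) : blk N j ≤ uo N O := fun _ hv =>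
  ⟨hv.1, fun i hi => hv.2 i fun h => hi (h ▸ hj)⟩

theorem uo_le_aux {O : Set (Fin k)} {H : Subgroup G} (hH : ∀ j ∈ O, blk N j ≤ H) (s : Finset (Fin k)) :
    ∀ v ∈ uo N O, (∀ j, j ∉ s → N.e v j = 0) → v ∈ H := by
  classical
  induction s using Finset.induction_on with
  | empty =>
    intro v hv h0
    have : v = 1 := e_inj (M := N) hv.1 (one_mem _) (by
      rw [e_one]; funext j; exact h0 j (Finset.notMem_empty j))
    rw [this]; exact one_mem _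
  | insert a s has ih =>
    intro v hv h0
    by_cases haJ : a ∈ O
    · obtain ⟨w, hw, hew⟩ := exists_blk N a (N.e v a)
      have h1 := ih (v * w⁻¹) (mul_mem hv (inv_mem (blk_le_uo haJ hw))) (fun j hj => by
        rw [N.mul v hv.1 _ (inv_mem hw.1), e_inv hw.1, Pi.add_apply, Pi.neg_apply]
        by_cases hja : j = a
        · subst hja; rw [hew, add_neg_cancel]
        · rw [hw.2 j hja, neg_zero, add_zero]
          exact h0 j fun h => (Finset.mem_insert.1 h).elim hja hj)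
      have h3 := mul_mem h1 (hH a haJ hw)
      rwa [inv_mul_cancel_right] at h3
    · refine ih v hv fun j hj => ?_
      by_cases hja : j = a
      · subst hja; exact hv.2 j haJ
      · exact h0 j fun h => (Finset.mem_insert.1 h).elim hja hj

theorem uo_le {O : Set (Fin k)} {H : Subgroup G} (hH : ∀ j ∈ O, blk N j ≤ H) : uo N O ≤ H := fun v hv =>
  uo_le_aux hH Finset.univ v hv fun j hj => absurd (Finset.mem_univ j) hj

/-- A subgroup `Q` of `G` normalised by the elements acting on the block `j` only, with `v ∈ Q`, `v_j ≠ 0`, contains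
the block `j`. -/
theorem blk_le_of_mem (hPU : P ≤ normalizer (U : Set G)) {Q : Subgroup G} {j : Fin k}
    (hQ : ∀ g ∈ P, ∀ B, Ac N g (Pi.mulSingle j B) → ∀ q ∈ Q, g * q * g⁻¹ ∈ Q) {v : G} (hv : v ∈ U) (hvQ : v ∈ Q)
    (hvj : N.e v j ≠ 0) : blk N j ≤ Q := by
  classical
  set x := N.e v j with hx
  have key : ∀ a ∈ blk N j, N.e a j ≠ -x → a ∈ Q := by
    intro a ha hne
    have hne' : N.e a j + x ≠ 0 := fun h => hne (eq_neg_of_add_eq_zero_left h)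
    obtain ⟨B, hB⟩ := exists_ap (F := K) hvj hne'
    obtain ⟨g, hg, hac⟩ := lift_ac (M := N) (Pi.mulSingle j B)
    have h1 : g * v * g⁻¹ * v⁻¹ ∈ Q := mul_mem (hQ g hg B hac v hvQ) (inv_mem hvQ)
    have h2 : a = g * v * g⁻¹ * v⁻¹ := by
      refine e_inj (M := N) ha.1 (mul_mem (cmem hPU hg hv) (inv_mem hv)) ?_
      funext i
      rw [N.mul _ (cmem hPU hg hv) _ (inv_mem hv), e_inv hv, Pi.add_apply, Pi.neg_apply, hac v hv i]
      by_cases hij : i = j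
      · subst hij
        rw [Pi.mulSingle_eq_same, ← hx, hB, add_neg_cancel_right]
      · rw [Pi.mulSingle_eq_of_ne hij, ap_one, add_neg_cancel, ha.2 i hij]
    rw [h2]; exact h1
  intro a ha
  by_cases hne : N.e a j = -x
  · -- `- x = w + (- x - w)`
    have hw : ∃ w : Fin 2 → K, w ≠ 0 ∧ w ≠ -x := by
      by_cases h0 : x 0 = 0
      · refine ⟨![1, 0], fun h => one_ne_zero (congrFun h 0), fun h => ?_⟩
        have h1 := congrFun h 0
        rw [Pi.neg_apply, h0, neg_zero] at h1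
        exact one_ne_zero h1
      · refine ⟨![0, 1], fun h => one_ne_zero (congrFun h 1), fun h => ?_⟩
        have h1 := congrFun h 0
        rw [Pi.neg_apply] at h1
        have h2 : x 0 = 0 := neg_eq_zero.1 h1.symm
        exact h0 h2
    obtain ⟨w, hw0, hwx⟩ := hw
    obtain ⟨b, hb, heb⟩ := exists_blk N j w
    have h1 : b ∈ Q := key b hb (by rw [heb]; exact hwx)
    have h2 : b⁻¹ * a ∈ Q := by
      refine key _ (mul_mem (inv_mem hb) ha) ?_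
      rw [N.mul _ (inv_mem hb.1) _ ha.1, e_inv hb.1, Pi.add_apply, Pi.neg_apply, heb, hne]
      intro h
      exact hw0 (neg_eq_zero.1 (add_eq_right.1 h))
    have h3 := mul_mem h1 h2
    rwa [mul_inv_cancel_left] at h3
  · exact key a ha hne

end supp

/-! ### `Z` -/

section Z

variable {G : Type u} [Group G] [Finite G] {S : Sylow 2 G} {P : Subgroup G} {K : Type} [Field K] {k : ℕ}
  {N : NatKM K (S : Subgroup G) P (zl (S : Subgroup G) P) ⊥ k}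

omit [Finite G] in
theorem zc_conj_eq {z t : G} (hz : z ∈ zc (S : Subgroup G)) (ht : t ∈ (S : Subgroup G)) : t * z * t⁻¹ = z := by
  rw [(MinSimple.VModule.mem_zc.1 hz).2.1 t ht, mul_inv_cancel_right]

theorem zc_snd {z : G} (hz : z ∈ zc (S : Subgroup G)) (j : Fin k) : N.e z j 1 = 0 := by
  obtain ⟨t, ht, hac⟩ := N.unip fun _ => 1
  have h1 := hac.1 z (zc_le_zl _ _ hz) j
  rw [zc_conj_eq hz ht, ap_up] at h1
  have h2 := congrFun h1 0
  simp only [Matrix.cons_val_zero, one_mul] at h2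
  exact left_eq_add.1 h2

theorem zc_ne {z : G} (hz : z ∈ zc (S : Subgroup G)) (h1 : z ≠ 1) (j : Fin k) : N.e z j ≠ 0 := by
  intro h0
  refine h1 (e_inj (M := N) (zc_le_zl _ _ hz) (one_mem _) ?_)
  rw [e_one (M := N)]
  funext i
  obtain ⟨t, ht, h2⟩ := N.trans j i
  have h3 := (h2 z (zc_le_zl _ _ hz)).2 h0
  rwa [zc_conj_eq hz ht] at h3

variable (N) in
/-- `{z_O : z ∈ Z}` -/
def zo (O : Set (Fin k)) : Subgroup G where
  carrier := {v | ∃ z ∈ zc (S : Subgroup G), v = pr N O z}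
  mul_mem' := by
    rintro _ _ ⟨z, hz, rfl⟩ ⟨w, hw, rfl⟩
    exact ⟨z * w, mul_mem hz hw, (pr_mul (zc_le_zl _ _ hz) (zc_le_zl _ _ hw)).symm⟩
  one_mem' := ⟨1, one_mem _, pr_one.symm⟩
  inv_mem' := by
    rintro _ ⟨z, hz, rfl⟩
    refine ⟨z⁻¹, inv_mem hz, ?_⟩
    have h1 := pr_mul (N := N) (O := O) (zc_le_zl _ P (inv_mem hz)) (zc_le_zl _ _ hz)
    rw [inv_mul_cancel, pr_one] at h1
    exact (eq_inv_of_mul_eq_one_left h1.symm).symm

omit [Finite G] in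
theorem mem_zo {O : Set (Fin k)} {v : G} : v ∈ zo N O ↔ ∃ z ∈ zc (S : Subgroup G), v = pr N O z := Iff.rfl

omit [Finite G] in
theorem zo_le_uo (O : Set (Fin k)) : zo N O ≤ uo N O := by
  rintro _ ⟨z, _, rfl⟩
  exact pr_mem_uo z

end Z

/-! ### `T₀` and `Z` -/

section half

variable {G : Type u} [Group G] [Finite G] {S : Sylow 2 G} {P : Subgroup G} {K : Type} [Field K] {k : ℕ}
  {N : NatKM K (S : Subgroup G) P (zl (S : Subgroup G) P) ⊥ k} {T₀ : Subgroup G} {i : Fin k} {O : Set (Fin k)}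

theorem Half.fix (hO : Half N T₀ i O) (h : Two (S : Subgroup G) T₀) (hSP : (S : Subgroup G) ≤ P) {t z : G}
    (ht : t ∈ T₀) (hz : z ∈ zc (S : Subgroup G)) : t * pr N O z * t⁻¹ = pr N O z := by
  rw [pr_conj (le_normalizer_zl _ _) (hSP (h.le ht)) (hO.pres t ht) (hO.pres' t ht) (zc_le_zl _ _ hz),
    zc_conj_eq hz (h.le ht)]

theorem Half.fix' (hO : Half N T₀ i O) (h : Two (S : Subgroup G) T₀) (hSP : (S : Subgroup G) ≤ P) {t z : G}
    (ht : t ∈ T₀) (hz : z ∈ zc (S : Subgroup G)) : t * pr N Oᶜ z * t⁻¹ = pr N Oᶜ z := by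
  rw [pr_conj (le_normalizer_zl _ _) (hSP (h.le ht)) (hO.pres' t ht)
    (by rw [compl_compl]; exact hO.pres t ht) (zc_le_zl _ _ hz), zc_conj_eq hz (h.le ht)]

theorem Half.sw (hO : Half N T₀ i O) (hSP : (S : Subgroup G) ≤ P) {t z : G}
    (ht : t ∈ (S : Subgroup G)) (ht' : t ∉ T₀) (hz : z ∈ zc (S : Subgroup G)) :
    t * pr N O z * t⁻¹ = pr N Oᶜ z := by
  rw [pr_conj (le_normalizer_zl _ _) (hSP ht) (hO.swap t ht ht')
    (by rw [compl_compl]; exact hO.swap' t ht ht') (zc_le_zl _ _ hz), zc_conj_eq hz ht]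

/-- `z ↦ z_{O'}` is injective on `Z`. -/
theorem Half.card_zo (hO : Half N T₀ i O) (h : Two (S : Subgroup G) T₀) (hSP : (S : Subgroup G) ≤ P) :
    Nat.card (zc (S : Subgroup G)) ≤ Nat.card (zo N Oᶜ) := by
  obtain ⟨t, ht, ht'⟩ := h.ex
  refine Nat.card_le_card_of_injective
    (fun z : zc (S : Subgroup G) => (⟨pr N Oᶜ (z : G), z, z.2, rfl⟩ : zo N Oᶜ)) fun z w hzw => ?_
  have h1 : pr N Oᶜ (z : G) = pr N Oᶜ (w : G) := congrArg Subtype.val hzw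
  rw [← hO.sw hSP ht ht' z.2, ← hO.sw hSP ht ht' w.2] at h1
  have h2 : pr N O (z : G) = pr N O (w : G) := mul_left_cancel (mul_right_cancel h1)
  have h3 : pr N O ((z : G) * (w : G)⁻¹) = 1 := by
    rw [pr_mul (zc_le_zl _ _ z.2) (zc_le_zl _ _ (inv_mem w.2)), h2,
      ← pr_mul (zc_le_zl _ _ w.2) (zc_le_zl _ _ (inv_mem w.2)), mul_inv_cancel, pr_one]
  by_contra hne
  refine zc_ne (N := N) (mul_mem z.2 (inv_mem w.2)) (fun h4 => hne (Subtype.ext (mul_inv_eq_one.1 h4))) i ?_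
  rw [← e_pr_in (N := N) (O := O) hO.mem, h3, e_one (M := N)]
  rfl

/-- **LEMMA HALF** (535 #22231 (A)). -/
theorem half_le (hc : IsCharacteristicTwoType G) (hP : IsParS (S : Subgroup G) P) (h : Two (S : Subgroup G) T₀)
    (hst : (S : Subgroup G) ⊓ normalizer (blk N i : Set G) ≤ T₀) (hO : Half N T₀ i O) :
    uo N O ≤ o2 (centralizer (zo N Oᶜ : Set G)) := by
  classical
  have hf : Fact (Nat.Prime 2) := ⟨Nat.prime_two⟩
  have hSP : (S : Subgroup G) ≤ P := hP.le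
  have hPU : P ≤ normalizer (zl (S : Subgroup G) P : Set G) := le_normalizer_zl _ _
  have hU2 : zl (S : Subgroup G) P ≤ zc (o2 P) := hP.isLoc.zl_le S hc
  have hUS : zl (S : Subgroup G) P ≤ (S : Subgroup G) := (hU2.trans (zc_le _)).trans (hP.isLoc.o2_le S)
  have hUC : ∀ u ∈ zl (S : Subgroup G) P, ∀ v ∈ zl (S : Subgroup G) P, u * v = v * u := fun u hu v hv =>
    comm N hu hv
  have hUT : zl (S : Subgroup G) P ≤ T₀ := by
    intro u hu
    refine hst ⟨hUS hu, ?_⟩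
    have h1 : zl (S : Subgroup G) P ≤ centralizer (blk N i : Set G) := fun u hu =>
      mem_centralizer_iff.2 fun v hv => hUC v hv.1 u hu
    exact centralizer_le_normalizer _ (h1 hu)
  have hUsq : ∀ u ∈ zl (S : Subgroup G) P, u ^ 2 = 1 := fun u hu => zc_sq _ _ (hU2 hu)
  obtain ⟨ζ, hζ, hζ1⟩ : ∃ z ∈ zc (S : Subgroup G), z ≠ 1 := by
    by_contra hcon
    push Not at hcon
    refine hP.not_zc ?_
    have h1 : zc (S : Subgroup G) = ⊥ := (eq_bot_iff_forall _).2 hcon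
    rw [h1]
    intro x _
    rw [mem_normalizer_iff]
    intro y
    change y ∈ (⊥ : Subgroup G) ↔ x * y * x⁻¹ ∈ (⊥ : Subgroup G)
    rw [mem_bot, mem_bot]
    exact conj_eq_one_iff.symm
  obtain ⟨t, htS, htT⟩ := h.ex
  -- `Z₂`
  have hZ2T : zo N Oᶜ ≤ T₀ := (zo_le_uo _).trans fun v hv => hUT hv.1
  have hZ2 : IsPGroup 2 (zo N Oᶜ) := S.isPGroup'.to_le (hZ2T.trans h.le)
  have hZ2ne : zo N Oᶜ ≠ ⊥ := by
    intro h0
    have h1 : pr N Oᶜ ζ ∈ zo N Oᶜ := ⟨ζ, hζ, rfl⟩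
    rw [h0, mem_bot, ← hO.sw hSP htS htT hζ, conj_eq_one_iff] at h1
    refine zc_ne (N := N) hζ hζ1 i ?_
    rw [← e_pr_in (N := N) (O := O) hO.mem, h1, e_one (M := N)]
    rfl
  set C := centralizer (zo N Oᶜ : Set G) with hC
  set Q := o2 C with hQ
  have hC2 : C ⊓ centralizer (Q : Set G) ≤ Q := NOne.LemmaT.char2_centralizer hc hZ2 hZ2ne
  have hQC : Q ≤ C := o2_le _
  have hCQ : C ≤ normalizer (Q : Set G) := le_normalizer_o2 C
  have hT0C : T₀ ≤ C := by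
    intro s hs
    rw [hC, mem_centralizer_iff]
    rintro _ ⟨z, hz, rfl⟩
    have h1 := hO.fix' h hSP hs hz
    exact (mul_inv_eq_iff_eq_mul.1 h1).symm
  have hUCC : zl (S : Subgroup G) P ≤ C := hUT.trans hT0C
  have hLC : ∀ g ∈ P, ∀ j ∈ O, ∀ B, Ac N g (Pi.mulSingle j B) → g ∈ C := by
    intro g hg j hj B hac
    rw [hC, mem_centralizer_iff]
    rintro _ ⟨z, hz, rfl⟩
    have h1 : g * pr N Oᶜ z * g⁻¹ = pr N Oᶜ z := by
      refine e_inj (M := N) (cmem hPU hg (pr_mem N Oᶜ z)) (pr_mem N Oᶜ z) ?_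
      funext a
      rw [hac _ (pr_mem N Oᶜ z) a]
      have hj' : j ∉ Oᶜ := fun h' => h' hj
      by_cases ha : a = j
      · rw [ha, e_pr_out hj', Pi.mulSingle_eq_same]
        refine ext2 ?_ ?_
        · rw [ap_zero']; simp
        · rw [ap_one']; simp
      · rw [Pi.mulSingle_eq_of_ne ha, ap_one]
    exact (mul_inv_eq_iff_eq_mul.1 h1).symm
  by_contra hne
  -- 1.
  have hinf : ∀ v ∈ uo N O, v ∈ Q → v = 1 := by
    intro v hv hvQ
    by_contra hv1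
    have h1 : ∃ j, N.e v j ≠ 0 := by
      by_contra hcon
      push Not at hcon
      refine hv1 (e_inj (M := N) hv.1 (one_mem _) ?_)
      rw [e_one (M := N)]
      funext j
      exact hcon j
    obtain ⟨j, hj⟩ := h1
    have hjO : j ∈ O := by
      by_contra h2
      exact hj (hv.2 j h2)
    have h2 : blk N j ≤ Q := by
      refine blk_le_of_mem hPU (fun g hg B hac q hq => ?_) hv.1 hvQ hj
      exact (mem_normalizer_iff.1 (hCQ (hLC g hg j hjO B hac)) q).1 hq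
    obtain ⟨s, hs, hsj⟩ := hO.orb j hjO
    refine hne (uo_le fun j' hj' w hw => ?_)
    obtain ⟨s', hs', hsj'⟩ := hO.orb j' hj'
    have e1 : s' * (s'⁻¹ * w * s') * s'⁻¹ = w := by group
    have h3 : s'⁻¹ * w * s' ∈ blk N i := (hsj' _).2 (by rw [e1]; exact hw)
    have h4 : s * (s'⁻¹ * w * s') * s⁻¹ ∈ Q := h2 ((hsj _).1 h3)
    have h5 := (mem_normalizer_iff.1 (hCQ (hT0C (mul_mem hs' (inv_mem hs)))) _).1 h4
    have e2 : s' * s⁻¹ * (s * (s'⁻¹ * w * s') * s⁻¹) * (s' * s⁻¹)⁻¹ = w := by group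
    rwa [e2] at h5
  -- 2.
  have hZ1C : ∀ z ∈ zc (S : Subgroup G), pr N O z ∈ T₀ := fun z _ => hUT (pr_mem N O z)
  have h2 : ¬ Q ≤ T₀ := by
    intro hQT
    have h1 : pr N O ζ ∈ Q := by
      refine hC2 ⟨hUCC (pr_mem N O ζ), mem_centralizer_iff.2 fun q hq => ?_⟩
      exact mul_inv_eq_iff_eq_mul.1 (hO.fix h hSP (hQT hq) hζ)
    have h3 := hinf _ (pr_mem_uo ζ) h1
    refine zc_ne (N := N) hζ hζ1 i ?_
    rw [← e_pr_in (N := N) (O := O) hO.mem, h3, e_one (M := N)]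
    rfl
  obtain ⟨s, hsQ, hsT⟩ := SetLike.not_le_iff_exists.1 h2
  set T₂ := T₀ ⊔ Q with hT2
  have hT2p : IsPGroup 2 T₂ :=
    IsPGroup.to_sup_of_normal_right' (S.isPGroup'.to_le h.le) (o2_isPGroup _) (hT0C.trans hCQ)
  obtain ⟨S₂, hS2⟩ := hT2p.exists_le_sylow
  have hcS : Nat.card (S₂ : Subgroup G) = Nat.card (S : Subgroup G) := by
    rw [Sylow.card_eq_multiplicity, Sylow.card_eq_multiplicity]
  have hcT : 2 * Nat.card T₀ ≤ Nat.card T₂ :=
    Cfsg.Agent.SectRankFour.C2.BThreeA.two_mul_card_le le_sup_left (p := s) (le_sup_right (a := T₀) hsQ) hsT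
  have hT2S : T₂ = (S₂ : Subgroup G) := by
    refine Subgroup.eq_of_le_of_card_ge hS2 ?_
    rw [hcS, h.card]
    exact hcT
  have htwo : Two T₂ T₀ := by
    have hcard : Nat.card T₂ = 2 * Nat.card T₀ := by rw [hT2S, hcS, h.card]
    have h1 := Cfsg.Agent.SectRankFour.C2.BThreeA.card_mul_relIndex (le_sup_left : T₀ ≤ T₂)
    have h3 : T₀.relIndex T₂ = 2 := by
      rw [hcard, mul_comm 2] at h1
      exact Nat.eq_of_mul_eq_mul_left Nat.card_pos h1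
    refine ⟨le_sup_left, ⟨s, le_sup_right (a := T₀) hsQ, hsT⟩, fun a ha b hb ha' hb' => ?_⟩
    have h4 := (Subgroup.mul_mem_iff_of_index_two (G := T₂) (H := T₀.subgroupOf T₂) h3
      (a := ⟨a, ha⟩) (b := ⟨b, hb⟩)).2 (iff_of_false ha' hb')
    exact h4
  have hQT2 : ∀ q ∈ Q, q ∈ T₂ := fun q hq => le_sup_right (a := T₀) hq
  -- 3.
  have h3 : ∀ q ∈ Q, q ∈ T₀ → ∀ v ∈ uo N O, q * v * q⁻¹ = v := by
    intro q hq hqT v hv
    have h4 : q * v * q⁻¹ * v⁻¹ ∈ uo N O := by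
      refine mul_mem ⟨cmem hPU (hSP (h.le hqT)) hv.1, hO.pres q hqT v hv.1 hv.2⟩ (inv_mem hv)
    have h5 : q * (v * q⁻¹ * v⁻¹) ∈ Q :=
      mul_mem hq ((mem_normalizer_iff.1 (hCQ (hUCC hv.1)) _).1 (inv_mem hq))
    have e1 : q * (v * q⁻¹ * v⁻¹) = q * v * q⁻¹ * v⁻¹ := by group
    rw [e1] at h5
    exact mul_inv_eq_one.1 (hinf _ h4 h5)
  have h3s : ¬ ∀ v ∈ uo N O, s * v * s⁻¹ = v := by
    intro hs
    refine hne fun v hv => hC2 ⟨hUCC hv.1, mem_centralizer_iff.2 fun q hq => ?_⟩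
    refine mul_inv_eq_iff_eq_mul.1 ?_
    by_cases hqT : q ∈ T₀
    · exact h3 q hq hqT v hv
    · have h4 : q * s⁻¹ ∈ T₀ := htwo.mul q (hQT2 q hq) _ (inv_mem (hQT2 s hsQ)) hqT fun h5 => hsT (inv_mem_iff.1 h5)
      have h5 := h3 _ (mul_mem hq (inv_mem hsQ)) h4 v hv
      have h6 : q * v * q⁻¹ = q * s⁻¹ * (s * v * s⁻¹) * (q * s⁻¹)⁻¹ := by group
      rw [h6, hs v hv, h5]
  -- `(s n s⁻¹)^l = s n^l s⁻¹`
  have hl : ∀ l ∈ P, ∀ B, Ac N l (Pi.mulSingle i B) → ∀ n ∈ uo N O,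
      l * (s * n * s⁻¹) * l⁻¹ = s * (l * n * l⁻¹) * s⁻¹ ∧ l * n * l⁻¹ ∈ uo N O := by
    intro l hlP B hac n hn
    have hlC := hLC l hlP i hO.mem B hac
    have hluo : ∀ m ∈ P, ∀ B, Ac N m (Pi.mulSingle i B) → ∀ n ∈ uo N O, m * n * m⁻¹ ∈ uo N O := by
      intro m hm B hac n hn
      refine ⟨cmem hPU hm hn.1, fun j hj => ?_⟩
      have hji : j ≠ i := fun h => hj (h ▸ hO.mem)
      rw [hac n hn.1 j, Pi.mulSingle_eq_of_ne hji, ap_one]
      exact hn.2 j hj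
    have hs' : l * s * l⁻¹ ∈ Q := (mem_normalizer_iff.1 (hCQ hlC) s).1 hsQ
    have hs'T : l * s * l⁻¹ ∉ T₀ := by
      intro h4
      refine h3s fun v hv => ?_
      have h5 := h3 _ hs' h4 _ (hluo l hlP B hac v hv)
      have e1 : l * s * l⁻¹ * (l * v * l⁻¹) * (l * s * l⁻¹)⁻¹ = l * (s * v * s⁻¹) * l⁻¹ := by group
      rw [e1] at h5
      exact mul_left_cancel (mul_right_cancel h5)
    have hcT : s⁻¹ * (l * s * l⁻¹) ∈ T₀ :=
      htwo.mul _ (inv_mem (hQT2 s hsQ)) _ (hQT2 _ hs') (fun h5 => hsT (inv_mem_iff.1 h5)) hs'T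
    have h4 := h3 _ (mul_mem (inv_mem hsQ) hs') hcT _ (hluo l hlP B hac n hn)
    refine ⟨?_, hluo l hlP B hac n hn⟩
    have e1 : l * (s * n * s⁻¹) * l⁻¹ = s * (s⁻¹ * (l * s * l⁻¹) * (l * n * l⁻¹) * (s⁻¹ * (l * s * l⁻¹))⁻¹) * s⁻¹ := by
      group
    rw [e1, h4]
  -- 4.
  have hzT2 : zc T₂ = zo N Oᶜ := by
    obtain ⟨g, hg⟩ := MulAction.exists_smul_eq G S S₂
    have h4 : Nat.card (zc T₂) = Nat.card (zc (S : Subgroup G)) := by
      have h5 : T₂ = MulAut.conj g • (S : Subgroup G) := by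
        rw [hT2S, ← hg]; rfl
      rw [h5, Cfsg.Agent.MinSimple.CosetFam.zc_conj]
      exact (Nat.card_congr (Subgroup.equivSMul (MulAut.conj g) (zc (S : Subgroup G))).toEquiv).symm
    have h5 : zo N Oᶜ ≤ zc T₂ := by
      intro v hv
      refine MinSimple.VModule.mem_zc.2 ⟨le_sup_left (a := T₀) (hZ2T hv), fun b hb => ?_,
        hUsq v (zo_le_uo _ hv).1⟩
      have h6 : T₂ ≤ C := sup_le hT0C hQC
      exact (mem_centralizer_iff.1 (h6 hb) v hv).symm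
    refine (Subgroup.eq_of_le_of_card_ge h5 ?_).symm
    rw [h4]
    exact hO.card_zo h hSP
  -- 5.
  set n := pr N O ζ with hn
  have hnu : n ∈ uo N O := pr_mem_uo ζ
  have hnT : n ∈ T₀ := hUT hnu.1
  have hnfix : ∀ b ∈ T₀, b * n * b⁻¹ = n := fun b hb => hO.fix h hSP hb hζ
  have hsn : s * n * s⁻¹ ∈ T₀ := htwo.conj (hQT2 s hsQ) hnT
  have hsnfix : ∀ b ∈ T₀, b * (s * n * s⁻¹) * b⁻¹ = s * n * s⁻¹ := by
    intro b hb
    have h4 : s⁻¹ * b * s ∈ T₀ := by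
      have := htwo.conj (inv_mem (hQT2 s hsQ)) hb
      rwa [inv_inv] at this
    have e1 : b * (s * n * s⁻¹) * b⁻¹ = s * ((s⁻¹ * b * s) * n * (s⁻¹ * b * s)⁻¹) * s⁻¹ := by group
    rw [e1, hnfix _ h4]
  have hnsq : n * n = 1 := by rw [← pow_two]; exact hUsq n hnu.1
  have hninv : n⁻¹ = n := inv_eq_of_mul_eq_one_left hnsq
  have hss : s * s ∈ T₀ := htwo.mul s (hQT2 s hsQ) s (hQT2 s hsQ) hsT hsT
  have hcomm : s * n * s⁻¹ * n = n * (s * n * s⁻¹) := by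
    have h4 := hnfix _ hsn
    exact mul_inv_eq_iff_eq_mul.1 h4
  have hw : s * n * s⁻¹ * n⁻¹ ∈ zo N Oᶜ := by
    rw [← hzT2, hninv]
    have hwT : s * n * s⁻¹ * n ∈ T₀ := mul_mem hsn hnT
    have hwfix : ∀ b ∈ T₀, b * (s * n * s⁻¹ * n) * b⁻¹ = s * n * s⁻¹ * n := by
      intro b hb
      have e1 : b * (s * n * s⁻¹ * n) * b⁻¹ = b * (s * n * s⁻¹) * b⁻¹ * (b * n * b⁻¹) := by group
      rw [e1, hsnfix b hb, hnfix b hb]
    have hwfix2 : s * (s * n * s⁻¹ * n) * s⁻¹ = s * n * s⁻¹ * n := by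
      have e1 : s * (s * n * s⁻¹ * n) * s⁻¹ = (s * s) * n * (s * s)⁻¹ * (s * n * s⁻¹) := by group
      rw [e1, hnfix _ hss, hcomm]
    refine MinSimple.VModule.mem_zc.2 ⟨le_sup_left (a := T₀) hwT, fun b hb => ?_, ?_⟩
    · refine mul_inv_eq_iff_eq_mul.1 ?_
      by_cases hbT : b ∈ T₀
      · exact hwfix b hbT
      · have h4 : b * s⁻¹ ∈ T₀ := htwo.mul b hb _ (inv_mem (hQT2 s hsQ)) hbT fun h5 => hsT (inv_mem_iff.1 h5)
        have e1 : b * (s * n * s⁻¹ * n) * b⁻¹ = b * s⁻¹ * (s * (s * n * s⁻¹ * n) * s⁻¹) * (b * s⁻¹)⁻¹ := by group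
        rw [e1, hwfix2, hwfix _ h4]
    · have e1 : s * n * s⁻¹ * n * (s * n * s⁻¹ * n) = s * n * s⁻¹ * (n * (s * n * s⁻¹)) * n := by group
      rw [pow_two, e1, ← hcomm]
      have e2 : s * n * s⁻¹ * (s * n * s⁻¹ * n) * n = s * (n * n) * s⁻¹ * (n * n) := by group
      rw [e2, hnsq]; group
  obtain ⟨l, hlP, hac⟩ := lift_ac (M := N) (Pi.mulSingle i (lo 1))
  obtain ⟨h5, hm⟩ := hl l hlP _ hac n hnu
  have hlw : l * (s * n * s⁻¹ * n⁻¹) * l⁻¹ = s * n * s⁻¹ * n⁻¹ := by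
    have h6 := mem_centralizer_iff.1 (hLC l hlP i hO.mem _ hac) _ hw
    rw [← h6, mul_inv_cancel_right]
  set m := l * n * l⁻¹ with hmdef
  have e3 : l * (s * n * s⁻¹ * n⁻¹) * l⁻¹ = l * (s * n * s⁻¹) * l⁻¹ * m⁻¹ := by rw [hmdef]; group
  rw [e3, h5] at hlw
  -- `s m s⁻¹ m⁻¹ = s n s⁻¹ n⁻¹`
  have hy : s * (m⁻¹ * n) * s⁻¹ = m⁻¹ * n := by
    have e4 : s * (m⁻¹ * n) * s⁻¹ = (s * m * s⁻¹)⁻¹ * (s * n * s⁻¹ * n⁻¹) * n := by group
    rw [e4, ← hlw]; group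
  have hyu : m⁻¹ * n ∈ uo N O := mul_mem (inv_mem hm) hnu
  have hyQ : m⁻¹ * n ∈ Q := by
    refine hC2 ⟨hUCC hyu.1, mem_centralizer_iff.2 fun q hq => mul_inv_eq_iff_eq_mul.1 ?_⟩
    by_cases hqT : q ∈ T₀
    · exact h3 q hq hqT _ hyu
    · have h6 : q * s⁻¹ ∈ T₀ := htwo.mul q (hQT2 q hq) _ (inv_mem (hQT2 s hsQ)) hqT fun h7 => hsT (inv_mem_iff.1 h7)
      have e5 : q * (m⁻¹ * n) * q⁻¹ = q * s⁻¹ * (s * (m⁻¹ * n) * s⁻¹) * (q * s⁻¹)⁻¹ := by group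
      rw [e5, hy, h3 _ (mul_mem hq (inv_mem hsQ)) h6 _ hyu]
  have hy1 : m = n := (inv_mul_eq_one.1 (hinf _ hyu hyQ))
  have hx0 : N.e n i 0 ≠ 0 := by
    intro h0
    refine zc_ne (N := N) hζ hζ1 i ?_
    rw [hn, e_pr_in hO.mem] at h0
    exact ext2 h0 (zc_snd hζ i)
  have h7 := hac n hnu.1 i
  rw [← hmdef, hy1, Pi.mulSingle_eq_same, ap_lo] at h7
  have h8 := congrFun h7 1
  have h9 : N.e n i 1 = 0 := by rw [hn, e_pr_in hO.mem]; exact zc_snd hζ i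
  simp only [Matrix.cons_val_one, Matrix.cons_val_zero, one_mul, h9, add_zero] at h8
  exact hx0 h8.symm

end half

end Cfsg.Agent.Omega.NOThreeL.RLow.KTwo
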