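import Cfsg.Agent.Omega.NOThreeL.RLow.TransOdd

/-!
# [R-low], #21762 (1): the linear part of LEMMA K2

`E = A ⊕ B`, `t` swaps `A` and `B`, `Θ` commuting elements of `D` trivial on `B` and transitive on the
nonzero elements of `A`, `|A| ≥ 4`: a normal subgroup `D` of odd order is not transitive on `E ∖ 0`.
-/

set_option autoImplicit false

namespace Cfsg.Agent.Omega.NOThreeL.RLow.KTwoAbs

open Cfsg.Agent.Omega.NOThreeL.RLow

section

variable {Γ E : Type*} [Group Γ] [Finite Γ] [AddCommGroup E] [Finite E]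
    [DistribMulAction Γ E] [FaithfulSMul Γ E]

/-- #21762 (1), linear part. -/
theorem not_trans (h2 : ∀ e : E, 2 • e = 0) (A B : AddSubgroup E)
    (hdis : ∀ x ∈ A, x ∈ B → x = 0) (hsup : ∀ e : E, ∃ a ∈ A, ∃ b ∈ B, e = a + b)
    (h4 : 4 ≤ Nat.card A) (D : Subgroup Γ) [hDn : D.Normal] (hodd : Odd (Nat.card D))
    (t : Γ) (htA : ∀ a ∈ A, t • a ∈ B) (htB : ∀ b ∈ B, t • b ∈ A)
    (Θ : Subgroup Γ) (hΘD : Θ ≤ D) (hΘA : ∀ θ ∈ Θ, ∀ a ∈ A, θ • a ∈ A)
    (hΘB : ∀ θ ∈ Θ, ∀ b ∈ B, θ • b = b)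
    (hΘc : ∀ θ ∈ Θ, ∀ θ' ∈ Θ, θ * θ' = θ' * θ)
    (hΘt : ∀ a ∈ A, ∀ a' ∈ A, a ≠ 0 → a' ≠ 0 → ∃ θ ∈ Θ, θ • a = a')
    (htr : ∀ a b : E, a ≠ 0 → b ≠ 0 → ∃ d ∈ D, d • a = b) : False := by
  classical
  have hA1 : ∃ a ∈ A, a ≠ 0 := by
    by_contra h
    push Not at h
    have : A = ⊥ := (AddSubgroup.eq_bot_iff_forall _).2 h
    rw [this] at h4
    simp at h4
  obtain ⟨a, haA, ha0⟩ := hA1
  have : Nontrivial E := ⟨⟨a, 0, ha0⟩⟩
  obtain ⟨K, hKD, hKn, hKc, hfree, hself, hcomm⟩ := TransOdd.core D hodd h2 htr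
  have hneg : ∀ y : E, -y = y := fun y => by
    have := h2 y
    rw [two_nsmul] at this
    exact (eq_neg_of_add_eq_zero_left this).symm
  have hadd : ∀ x : E, x + x = 0 := fun x => by rw [← two_nsmul]; exact h2 x
  have hsum : ∀ x y : E, x + y = 0 → x = y := fun x y h => by
    have := eq_neg_of_add_eq_zero_left h
    rwa [hneg] at this
  -- uniqueness of components
  have huniq : ∀ a ∈ A, ∀ a' ∈ A, ∀ b ∈ B, ∀ b' ∈ B, a + b = a' + b' → a = a' ∧ b = b' := by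
    intro a ha a' ha' b hb b' hb' h
    have h1 : a + a' = b + b' := by
      have : a + a' = (a + b) + (a' + b') + (b + b') + 0 := by
        rw [show (a + b) + (a' + b') + (b + b') + 0 = a + a' + (b + b) + (b' + b') by abel,
          hadd, hadd]; simp
      rw [this, h, hadd]; simp
    have h3 : a + a' = 0 := hdis _ (A.add_mem ha ha') (by rw [h1]; exact B.add_mem hb hb')
    have h4 : b + b' = 0 := by rw [← h1]; exact h3
    exact ⟨hsum _ _ h3, hsum _ _ h4⟩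
  -- `t⁻¹` swaps as well
  have hsq : ∀ (C : AddSubgroup E), (∀ c ∈ C, t • t • c ∈ C) → ∀ c ∈ C, ∃ c' ∈ C, t • t • c' = c := by
    intro C hC
    let f : C → C := fun c => ⟨t • t • (c : E), hC c c.2⟩
    have hf : Function.Injective f := by
      intro c c' h
      have h1 : t • t • (c : E) = t • t • (c' : E) := congrArg Subtype.val h
      exact Subtype.ext (smul_left_cancel _ (smul_left_cancel _ h1))
    have hs : Function.Surjective f := Finite.injective_iff_surjective.1 hf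
    intro c hc
    obtain ⟨c', hc'⟩ := hs ⟨c, hc⟩
    exact ⟨c', c'.2, congrArg Subtype.val hc'⟩
  have htA' : ∀ a ∈ A, t⁻¹ • a ∈ B := by
    intro a ha
    obtain ⟨a', ha', rfl⟩ := hsq A (fun c hc => htB _ (htA _ hc)) a ha
    rw [inv_smul_smul]
    exact htA _ ha'
  have htB' : ∀ b ∈ B, t⁻¹ • b ∈ A := by
    intro b hb
    obtain ⟨b', hb', rfl⟩ := hsq B (fun c hc => htA _ (htB _ hc)) b hb
    rw [inv_smul_smul]
    exact htB _ hb'
  -- the elements `x θ`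
  set x : Γ → Γ := fun θ => θ⁻¹ * (t * θ * t⁻¹) with hx
  have hsA : ∀ θ ∈ Θ, ∀ a ∈ A, (t * θ * t⁻¹) • a = a := by
    intro θ hθ a ha
    rw [mul_smul, mul_smul, hΘB θ hθ _ (htA' a ha), smul_inv_smul]
  have hsB : ∀ θ ∈ Θ, ∀ b ∈ B, (t * θ * t⁻¹) • b ∈ B := by
    intro θ hθ b hb
    rw [mul_smul, mul_smul]
    exact htA _ (hΘA θ hθ _ (htB' b hb))
  have hxA : ∀ θ ∈ Θ, ∀ a ∈ A, x θ • a = θ⁻¹ • a := by
    intro θ hθ a ha
    rw [hx]; simp only []
    rw [mul_smul, hsA θ hθ a ha]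
  have hxB : ∀ θ ∈ Θ, ∀ a ∈ A, x θ • t • a = t • θ • a := by
    intro θ hθ a ha
    rw [hx]; simp only []
    rw [mul_smul, hΘB θ⁻¹ (Θ.inv_mem hθ) _ (hsB θ hθ _ (htA a ha)), mul_smul, mul_smul,
      inv_smul_smul]
  have hxK : ∀ θ ∈ Θ, x θ ∈ K := by
    intro θ hθ
    have := hcomm θ⁻¹ (hΘD (Θ.inv_mem hθ)) t
    rw [inv_inv] at this
    have h1 : x θ = θ⁻¹ * t * θ * t⁻¹ := by rw [hx]; group
    rw [h1]; exact this
  have hcm : ∀ θ ∈ Θ, Commute θ⁻¹ (t * θ * t⁻¹) := by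
    intro θ hθ
    apply FaithfulSMul.eq_of_smul_eq_smul (α := E)
    intro e
    obtain ⟨p, hp, q, hq, rfl⟩ := hsup e
    have hθi := Θ.inv_mem hθ
    rw [smul_add, smul_add, mul_smul θ⁻¹ (t * θ * t⁻¹) p, mul_smul θ⁻¹ (t * θ * t⁻¹) q,
      mul_smul (t * θ * t⁻¹) θ⁻¹ p, mul_smul (t * θ * t⁻¹) θ⁻¹ q, hsA θ hθ p hp,
      hsA θ hθ _ (hΘA _ hθi p hp), hΘB _ hθi _ (hsB θ hθ q hq), hΘB _ hθi q hq]
  have hxz : ∀ θ ∈ Θ, ∀ m : ℤ, (x θ) ^ m = x (θ ^ m) := by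
    intro θ hθ m
    rw [hx]; simp only []
    rw [(hcm θ hθ).mul_zpow, conj_zpow, inv_zpow]
  -- the set of the `x θ` is invariant
  have hxc : ∀ g : Γ, ∀ θ ∈ Θ, ∃ θ' ∈ Θ, g * x θ * g⁻¹ = x θ' := by
    intro g θ hθ
    obtain ⟨⟨z, hz⟩, hgen⟩ := hKc.exists_generator
    obtain ⟨n, hn⟩ := Subgroup.mem_zpowers_iff.1 (hgen ⟨x θ, hxK θ hθ⟩)
    obtain ⟨m, hm⟩ := Subgroup.mem_zpowers_iff.1 (hgen ⟨g * z * g⁻¹, hKn.conj_mem z hz g⟩)
    have hn' : z ^ n = x θ := congrArg Subtype.val hn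
    have hm' : z ^ m = g * z * g⁻¹ := congrArg Subtype.val hm
    refine ⟨θ ^ m, Θ.zpow_mem hθ m, ?_⟩
    rw [← hxz θ hθ m, ← hn', ← zpow_mul, mul_comm n m, zpow_mul, hm', conj_zpow]
  -- the base vector of full support
  have htaB : t • a ∈ B := htA a haA
  have hta0 : t • a ≠ 0 := fun h => ha0 ((smul_eq_zero_iff_eq t).1 h)
  have hv0 : a + t • a ≠ 0 := fun h => ha0 (hdis a haA (by rw [hsum _ _ h]; exact htaB))
  obtain ⟨d, hdD, hd⟩ := htr a (a + t • a) ha0 hv0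
  have hxv : ∀ θ ∈ Θ, x θ • (a + t • a) = θ⁻¹ • a + t • θ • a := by
    intro θ hθ
    rw [smul_add, hxA θ hθ a haA, hxB θ hθ a haA]
  -- the key relation
  have key1 : ∀ θ ∈ Θ, θ • a ≠ a → ∃ μ ∈ Θ, a + θ⁻¹ • a = μ⁻¹ • a ∧ a + θ • a = μ • a := by
    intro θ hθ hne
    obtain ⟨θ₀, hθ₀, h0⟩ := hxc d⁻¹ θ hθ
    have h1 : x θ • (a + t • a) = d • (θ₀⁻¹ • a) := by
      rw [← hxA θ₀ hθ₀ a haA, ← h0, ← hd, ← mul_smul, ← mul_smul]
      congr 1; group
    have h2' : (a + t • a) + x θ • (a + t • a) = d • (a + θ₀⁻¹ • a) := by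
      rw [h1, smul_add, hd]
    have hθ₀i := Θ.inv_mem hθ₀
    have hmA : a + θ₀⁻¹ • a ∈ A := A.add_mem haA (hΘA _ hθ₀i a haA)
    have hne0 : a + θ₀⁻¹ • a ≠ 0 := by
      intro h
      rw [h, smul_zero, hxv θ hθ] at h2'
      have h3 : a + t • a = θ⁻¹ • a + t • θ • a := hsum _ _ h2'
      have h4 := (huniq a haA _ (hΘA _ (Θ.inv_mem hθ) a haA) _ htaB _
        (htA _ (hΘA θ hθ a haA)) h3).2
      exact hne (smul_left_cancel _ h4).symm
    obtain ⟨ν, hν, hν1⟩ := hΘt a haA _ hmA ha0 hne0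
    obtain ⟨μ, hμ, hμ1⟩ := hxc d ν⁻¹ (Θ.inv_mem hν)
    have h5 : d • (a + θ₀⁻¹ • a) = x μ • (a + t • a) := by
      rw [← hν1, ← hμ1, ← hd, ← mul_smul, ← mul_smul]
      have h6 : x ν⁻¹ • a = ν • a := by
        rw [hxA _ (Θ.inv_mem hν) a haA, inv_inv]
      have h7 : d * x ν⁻¹ * d⁻¹ * d = d * x ν⁻¹ := by group
      rw [h7, mul_smul, mul_smul, h6]
    rw [h5, hxv θ hθ, hxv μ hμ] at h2'
    have h8 : (a + θ⁻¹ • a) + (t • (a + θ • a)) = μ⁻¹ • a + t • μ • a := by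
      rw [← h2', smul_add]; abel
    have h9 := huniq _ (A.add_mem haA (hΘA _ (Θ.inv_mem hθ) a haA)) _
      (hΘA _ (Θ.inv_mem hμ) a haA) _ (htA _ (A.add_mem haA (hΘA θ hθ a haA))) _
      (htA _ (hΘA μ hμ a haA)) h8
    exact ⟨μ, hμ, h9.1, smul_left_cancel _ h9.2⟩
  have key2 : ∀ θ ∈ Θ, θ • a ≠ a → θ • a + θ⁻¹ • a = a := by
    intro θ hθ hne
    obtain ⟨μ, hμ, h1, h3⟩ := key1 θ hθ hne
    have h4 : μ • (a + θ⁻¹ • a) = a := by rw [h1, smul_inv_smul]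
    have h5 : μ * θ⁻¹ = θ⁻¹ * μ := hΘc μ hμ _ (Θ.inv_mem hθ)
    rw [smul_add, ← mul_smul, h5, mul_smul, ← h3, smul_add, inv_smul_smul] at h4
    have h6 : a + θ • a + (θ⁻¹ • a + a) = θ • a + θ⁻¹ • a + (a + a) := by abel
    rw [h6, hadd, add_zero] at h4
    exact h4
  -- a second element
  obtain ⟨θ, hθ, hθ1⟩ : ∃ θ ∈ Θ, θ • a ≠ a := by
    by_contra h
    push Not at h
    have hle : (A : Set E) ⊆ {0, a} := by
      intro c hc
      by_cases hc0 : c = 0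
      · exact Or.inl hc0
      · obtain ⟨θ, hθ, h1⟩ := hΘt a haA c hc ha0 hc0
        right
        rw [Set.mem_singleton_iff, ← h1]
        exact h θ hθ
    have h1 := Set.ncard_le_ncard hle (Set.toFinite _)
    have h2' : (A : Set E).ncard = Nat.card A := rfl
    have h3 : ({0, a} : Set E).ncard ≤ 2 := (Set.ncard_insert_le _ _).trans (by rw [Set.ncard_singleton])
    omega
  have hθi := Θ.inv_mem hθ
  have hAle : ∀ c ∈ A, c = 0 ∨ c = a ∨ c = θ • a ∨ c = θ⁻¹ • a := by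
    intro c hc
    by_contra hcon
    push Not at hcon
    obtain ⟨hc0, hca, hcθ, hcθi⟩ := hcon
    obtain ⟨η, hη, rfl⟩ := hΘt a haA c hc ha0 hc0
    have hηi := Θ.inv_mem hη
    have e1 := key2 η hη hca
    have e2 := key2 θ hθ hθ1
    have n1 : (θ * η) • a ≠ a := by
      intro h
      apply hcθi
      rw [mul_smul] at h
      exact (eq_inv_smul_iff).2 h
    have n2 : (θ⁻¹ * η) • a ≠ a := by
      intro h
      apply hcθ
      rw [mul_smul] at h
      exact (inv_smul_eq_iff).1 h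
    have e3 := key2 _ (Θ.mul_mem hθ hη) n1
    have e4 := key2 _ (Θ.mul_mem hθi hη) n2
    have e5 : η • (θ • a + θ⁻¹ • a) + η⁻¹ • (θ⁻¹ • a + θ • a) = 0 := by
      have c1 : η • θ • a = (θ * η) • a := by rw [← mul_smul, hΘc η hη θ hθ]
      have c2 : η • θ⁻¹ • a = (θ⁻¹ * η) • a := by rw [← mul_smul, hΘc η hη _ hθi]
      have c3 : η⁻¹ • θ⁻¹ • a = (θ * η)⁻¹ • a := by
        rw [mul_inv_rev, mul_smul]
      have c4 : η⁻¹ • θ • a = (θ⁻¹ * η)⁻¹ • a := by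
        rw [mul_inv_rev, inv_inv, mul_smul]
      rw [smul_add, smul_add, c1, c2, c3, c4]
      have : (θ * η) • a + (θ⁻¹ * η) • a + ((θ * η)⁻¹ • a + (θ⁻¹ * η)⁻¹ • a)
          = ((θ * η) • a + (θ * η)⁻¹ • a) + ((θ⁻¹ * η) • a + (θ⁻¹ * η)⁻¹ • a) := by abel
      rw [this, e3, e4, hadd]
    rw [add_comm (θ⁻¹ • a) (θ • a), e2, e1] at e5
    exact ha0 e5
  have hA4 : Nat.card A = 4 := by
    refine le_antisymm ?_ h4
    have hle : (A : Set E) ⊆ {0, a, θ • a, θ⁻¹ • a} := by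
      intro c hc
      exact hAle c hc
    have h1 := Set.ncard_le_ncard hle (Set.toFinite _)
    have h2' : (A : Set E).ncard = Nat.card A := rfl
    have h3 : ({0, a, θ • a, θ⁻¹ • a} : Set E).ncard ≤ 4 := by
      refine (Set.ncard_insert_le _ _).trans ?_
      refine (Nat.add_le_add_right (Set.ncard_insert_le _ _) 1).trans ?_
      have : ({θ • a, θ⁻¹ • a} : Set E).ncard ≤ 2 :=
        (Set.ncard_insert_le _ _).trans (by rw [Set.ncard_singleton])
      omega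
    omega
  have hB4 : Nat.card B = 4 := by
    rw [← hA4]
    apply Nat.card_congr
    refine ⟨fun b => ⟨t • (b : E), htB b b.2⟩, fun c => ⟨t⁻¹ • (c : E), htA' c c.2⟩, ?_, ?_⟩
    · intro b; exact Subtype.ext (inv_smul_smul t (b : E))
    · intro b; exact Subtype.ext (smul_inv_smul t (b : E))
  have hE16 : Nat.card E = 16 := by
    have : Nat.card (A × B) = Nat.card E := by
      apply Nat.card_congr
      refine Equiv.ofBijective (fun p => (p.1 : E) + (p.2 : E)) ⟨?_, ?_⟩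
      · rintro ⟨p, q⟩ ⟨p', q'⟩ h
        have := huniq p p.2 p' p'.2 q q.2 q' q'.2 h
        exact Prod.ext (Subtype.ext this.1) (Subtype.ext this.2)
      · intro e
        obtain ⟨p, hp, q, hq, rfl⟩ := hsup e
        exact ⟨(⟨p, hp⟩, ⟨q, hq⟩), rfl⟩
    rw [← this, Nat.card_prod, hA4, hB4]
  -- `|K|` divides `15`
  have hK15 : Nat.card K ∣ 15 := by
    set S := MulAction.stabilizer D a with hS
    have horb : MulAction.orbit D a = {e : E | e ≠ 0} := by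
      ext e
      constructor
      · rintro ⟨g, rfl⟩ h0
        exact ha0 ((smul_eq_zero_iff_eq g).1 h0)
      · intro he
        obtain ⟨g, hg, h⟩ := htr a e ha0 he
        exact ⟨⟨g, hg⟩, h⟩
    have hidx : S.index = 15 := by
      rw [hS, MulAction.index_stabilizer, horb]
      have h1 : {e : E | e ≠ 0} = ({0} : Set E)ᶜ := rfl
      rw [h1, Set.ncard_compl, Set.ncard_singleton, hE16]
    have hKn' : (K.subgroupOf D).Normal := by infer_instance
    have hinf : (K.subgroupOf D) ⊓ S = ⊥ := by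
      rw [eq_bot_iff]
      rintro g ⟨hg1, hg2⟩
      rw [Subgroup.mem_bot]
      by_contra hne
      exact ha0 (hfree g (Subgroup.mem_subgroupOf.1 hg1) (fun h => hne (Subtype.ext h)) a hg2)
    set N := K.subgroupOf D with hN
    have h3 : Nat.card N = Nat.card K :=
      Nat.card_congr (Subgroup.subgroupOfEquivOfLe hKD).toEquiv
    have h5 : N.relIndex (S ⊔ N) = Nat.card S := by
      rw [Subgroup.relIndex_sup_right, ← Subgroup.inf_relIndex_right, hinf,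
        Subgroup.relIndex_bot_left]
    have h6 : Nat.card N * Nat.card S = Nat.card ↥(S ⊔ N) := by
      rw [← h5, ← Subgroup.relIndex_bot_left, ← Subgroup.relIndex_bot_left]
      exact Subgroup.relIndex_mul_relIndex _ _ _ bot_le le_sup_right
    have h7 : Nat.card S * S.relIndex (S ⊔ N) = Nat.card ↥(S ⊔ N) := by
      rw [← Subgroup.relIndex_bot_left, ← Subgroup.relIndex_bot_left]
      exact Subgroup.relIndex_mul_relIndex _ _ _ bot_le le_sup_left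
    have h8 : S.relIndex (S ⊔ N) = Nat.card N := by
      have : Nat.card S * S.relIndex (S ⊔ N) = Nat.card S * Nat.card N := by
        rw [h7, ← h6, mul_comm]
      exact Nat.eq_of_mul_eq_mul_left Nat.card_pos this
    rw [← h3, ← h8, ← hidx]
    exact Subgroup.relIndex_dvd_index_of_le le_sup_left
  -- `θ` centralises `K`
  have hθK : ∀ k ∈ K, θ * k = k * θ := by
    have hcardA : Nat.card (MulAut K) ∣ 8 := by
      rw [hKc.card_mulAut]
      have h15 : Nat.card K ∈ Nat.divisors 15 := Nat.mem_divisors.2 ⟨hK15, by norm_num⟩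
      have hd15 : Nat.divisors 15 = {1, 3, 5, 15} := by decide
      rw [hd15] at h15
      simp only [Finset.mem_insert, Finset.mem_singleton] at h15
      rcases h15 with h | h | h | h <;> rw [h] <;> decide
    have ho : orderOf (MulAut.conjNormal θ : MulAut K) = 1 := by
      have h1 : orderOf (MulAut.conjNormal θ : MulAut K) ∣ 2 ^ 3 :=
        (orderOf_dvd_natCard _).trans hcardA
      have h3 : orderOf (MulAut.conjNormal θ : MulAut K) ∣ Nat.card D := by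
        refine (orderOf_map_dvd (MulAut.conjNormal : Γ →* MulAut K) θ).trans ?_
        exact Subgroup.orderOf_dvd_natCard D (hΘD hθ)
      refine Nat.eq_one_of_dvd_coprimes ?_ h3 h1
      apply Nat.Coprime.pow_right
      rw [Nat.coprime_comm, Nat.coprime_two_left]
      exact hodd
    rw [orderOf_eq_one_iff] at ho
    intro k hk
    have h1 : (MulAut.conjNormal θ : MulAut K) ⟨k, hk⟩ = ⟨k, hk⟩ := by rw [ho]; rfl
    have h3 : θ * k * θ⁻¹ = k := congrArg Subtype.val h1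
    exact mul_inv_eq_iff_eq_mul.1 h3
  have hθK' : θ ∈ K := hself θ (hΘD hθ) hθK
  have hθne : θ ≠ 1 := fun h => hθ1 (by rw [h, one_smul])
  exact hta0 (hfree θ hθK' hθne _ (hΘB θ hθ _ htaB))

/-- #21762 (1), linear part, in the form used by the group theory of LEMMA K2: with a Sylow
2-subgroup of order two no nonzero vector of `Zb` is fused to a vector of full support. -/
theorem not_fused (h2 : ∀ a : E, a + a = 0) (Za Zb : AddSubgroup E)
    (hsup : Za ⊔ Zb = ⊤) (hinf : Za ⊓ Zb = ⊥) (h4 : 4 ≤ Nat.card Za)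
    (T : Sylow 2 Γ) (hT : Nat.card T = 2)
    (t : Γ) (hab : ∀ a ∈ Za, t • a ∈ Zb) (hba : ∀ b ∈ Zb, t • b ∈ Za)
    (Θ : Subgroup Γ) (ha : ∀ θ ∈ Θ, ∀ a ∈ Za, θ • a ∈ Za) (hb : ∀ θ ∈ Θ, ∀ b ∈ Zb, θ • b = b)
    (hc' : ∀ θ ∈ Θ, ∀ θ' ∈ Θ, θ * θ' = θ' * θ)
    (ht : ∀ a ∈ Za, ∀ a' ∈ Za, a ≠ 0 → a' ≠ 0 → ∃ θ ∈ Θ, θ • a = a') :
    ∀ a ∈ Za, ∀ b ∈ Zb, a ≠ 0 → b ≠ 0 → ∀ g : Γ, g • (a + b) ∉ Zb := by
  classical
  intro a haA b hbB ha0 hb0 g hg
  have h2' : ∀ e : E, 2 • e = 0 := fun e => by rw [two_nsmul]; exact h2 e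
  have hdis : ∀ x ∈ Za, x ∈ Zb → x = 0 := by
    intro x hx hx'
    have : x ∈ Za ⊓ Zb := ⟨hx, hx'⟩
    rw [hinf] at this
    exact (AddSubgroup.mem_bot).1 this
  have hsup' : ∀ e : E, ∃ a ∈ Za, ∃ b ∈ Zb, e = a + b := by
    intro e
    have : e ∈ Za ⊔ Zb := by rw [hsup]; trivial
    obtain ⟨a, ha, b, hb, rfl⟩ := AddSubgroup.mem_sup.1 this
    exact ⟨a, ha, b, hb, rfl⟩
  have hcyc : IsCyclic (T : Subgroup Γ) := by
    have : Fact (Nat.Prime 2) := ⟨Nat.prime_two⟩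
    exact isCyclic_of_prime_card (p := 2) hT
  obtain ⟨D, hDn, hodd, hDT, hcard⟩ := TransOdd.exists_complement T hcyc
  have hidx : D.index = 2 := by
    have h1 := D.card_mul_index
    rw [hcard] at h1
    have h3 : 0 < Nat.card D := Nat.card_pos
    exact (Nat.eq_of_mul_eq_mul_left h3 h1).trans hT
  have hsum : ∀ x y : E, x + y = 0 → x = y := fun x y h => by
    have h1 : x + y + y = y := by rw [h, zero_add]
    rwa [add_assoc, h2, add_zero] at h1
  -- `Θ` is regular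
  have hreg : ∀ θ ∈ Θ, ∀ c ∈ Za, c ≠ 0 → θ • c = c → θ = 1 := by
    intro θ hθ c hc hc0 h
    apply FaithfulSMul.eq_of_smul_eq_smul (α := E)
    intro e
    obtain ⟨p, hp, q, hq, rfl⟩ := hsup' e
    have hp' : θ • p = p := by
      by_cases hp0 : p = 0
      · rw [hp0, smul_zero]
      · obtain ⟨η, hη, rfl⟩ := ht c hc p hp hc0 hp0
        have e1 := hc' θ hθ η hη
        rw [← mul_smul, e1, mul_smul, h]
    rw [smul_add, hp', hb θ hθ q hq, one_smul]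
  have hΘD : Θ ≤ D := by
    intro θ hθ
    have hodd' : ¬ Even (orderOf θ) := by
      rintro ⟨k, hk⟩
      have hpos := orderOf_pos θ
      have hi : θ ^ k * θ ^ k = 1 := by rw [← pow_add, ← hk, pow_orderOf_eq_one]
      have hi1 : θ ^ k ≠ 1 := by
        intro h
        have := orderOf_dvd_of_pow_eq_one h
        have := Nat.le_of_dvd (by omega) this
        omega
      have hiΘ : θ ^ k ∈ Θ := Θ.pow_mem hθ k
      apply hi1
      by_cases hc0 : a + θ ^ k • a = 0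
      · exact hreg _ hiΘ a haA ha0 (hsum _ _ hc0).symm
      · apply hreg _ hiΘ _ (Za.add_mem haA (ha _ hiΘ a haA)) hc0
        rw [smul_add, ← mul_smul, hi, one_smul, add_comm]
    rw [Nat.not_even_iff_odd] at hodd'
    obtain ⟨m, hm⟩ := hodd'
    have h1 : θ ^ 2 ∈ D := Subgroup.sq_mem_of_index_two hidx θ
    have h3 : (θ ^ 2) ^ (m + 1) = θ := by
      rw [← pow_mul, show 2 * (m + 1) = (2 * m + 1) + 1 by ring, pow_succ, ← hm,
        pow_orderOf_eq_one, one_mul]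
    rw [← h3]
    exact D.pow_mem h1 _
  -- `t⁻¹` swaps as well
  have hsq : ∀ (C : AddSubgroup E), (∀ c ∈ C, t • t • c ∈ C) → ∀ c ∈ C, ∃ c' ∈ C, t • t • c' = c := by
    intro C hC
    let f : C → C := fun c => ⟨t • t • (c : E), hC c c.2⟩
    have hf : Function.Injective f := by
      intro c c' h
      have h1 : t • t • (c : E) = t • t • (c' : E) := congrArg Subtype.val h
      exact Subtype.ext (smul_left_cancel _ (smul_left_cancel _ h1))
    have hs : Function.Surjective f := Finite.injective_iff_surjective.1 hf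
    intro c hc
    obtain ⟨c', hc'⟩ := hs ⟨c, hc⟩
    exact ⟨c', c'.2, congrArg Subtype.val hc'⟩
  have hab' : ∀ a ∈ Za, t⁻¹ • a ∈ Zb := by
    intro a ha
    obtain ⟨a', ha', rfl⟩ := hsq Za (fun c hc => hba _ (hab _ hc)) a ha
    rw [inv_smul_smul]
    exact hab _ ha'
  have hba' : ∀ b ∈ Zb, t⁻¹ • b ∈ Za := by
    intro b hb
    obtain ⟨b', hb', rfl⟩ := hsq Zb (fun c hc => hab _ (hba _ hc)) b hb
    rw [inv_smul_smul]
    exact hba _ hb'
  have hmoveB : ∀ q ∈ Zb, ∀ q' ∈ Zb, q ≠ 0 → q' ≠ 0 →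
      ∃ g : Γ, g • q = q' ∧ ∀ p ∈ Za, g • p = p := by
    intro q hq q' hq' hq0 hq0'
    obtain ⟨θ, hθ, h⟩ := ht _ (hba' q hq) _ (hba' q' hq')
      (fun h => hq0 ((smul_eq_zero_iff_eq _).1 h)) (fun h => hq0' ((smul_eq_zero_iff_eq _).1 h))
    refine ⟨t * θ * t⁻¹, ?_, fun p hp => ?_⟩
    · rw [mul_smul, mul_smul, h, smul_inv_smul]
    · rw [mul_smul, mul_smul, hb θ hθ _ (hab' p hp), smul_inv_smul]
  have hgne : g • (a + b) ≠ 0 := by
    intro h
    have h1 := (smul_eq_zero_iff_eq g).1 h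
    have h3 := hsum _ _ h1
    exact ha0 (hdis a haA (by rw [h3]; exact hbB))
  have hB : ∀ q ∈ Zb, q ≠ 0 → ∃ γ : Γ, γ • q = a + b := by
    intro q hq hq0
    obtain ⟨γ, hγ, -⟩ := hmoveB q hq _ hg hq0 hgne
    exact ⟨g⁻¹ * γ, by rw [mul_smul, hγ, inv_smul_smul]⟩
  have hall : ∀ e : E, e ≠ 0 → ∃ γ : Γ, γ • e = a + b := by
    intro e he
    obtain ⟨p, hp, q, hq, rfl⟩ := hsup' e
    by_cases hp0 : p = 0
    · have hq0 : q ≠ 0 := fun h => he (by rw [hp0, h, add_zero])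
      obtain ⟨γ, hγ⟩ := hB q hq hq0
      exact ⟨γ, by rw [hp0, zero_add, hγ]⟩
    · by_cases hq0 : q = 0
      · obtain ⟨γ, hγ⟩ := hB _ (hab p hp) (fun h => hp0 ((smul_eq_zero_iff_eq t).1 h))
        exact ⟨γ * t, by rw [hq0, add_zero, mul_smul, hγ]⟩
      · obtain ⟨θ, hθ, h1⟩ := ht p hp a haA hp0 ha0
        obtain ⟨γ, hγ, hγ'⟩ := hmoveB q hq b hbB hq0 hb0
        exact ⟨γ * θ, by rw [mul_smul, smul_add, h1, hb θ hθ q hq, smul_add, hγ, hγ' a haA]⟩
  have htr : ∀ x y : E, x ≠ 0 → y ≠ 0 → ∃ γ : Γ, γ • x = y := by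
    intro x y hx hy
    obtain ⟨γ, hγ⟩ := hall x hx
    obtain ⟨δ, hδ⟩ := hall y hy
    exact ⟨δ⁻¹ * γ, by rw [mul_smul, hγ, ← hδ, inv_smul_smul]⟩
  have htrD := TransOdd.trans_normal D 1 (by rw [hidx]; norm_num) h2' htr
  exact not_trans h2' Za Zb hdis hsup' h4 D hodd t hab hba Θ hΘD ha hb hc' ht htrD

end

end Cfsg.Agent.Omega.NOThreeL.RLow.KTwoAbs
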