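import Cfsg.Agent.Omega.NOThreeL.Low.Torus
import Cfsg.Agent.Omega.NOThreeL.Low.PmNat
import Cfsg.Agent.SectRankFour.C2.BThreeA

/-!
# [R-low] (#21762, helper597), LEMMA K2: the index-two subgroup `T₀` and the two halves of `U`

* `Two S T₀` : `T₀ < S` of index 2; `exists_two`;
* `pr N O v` : the component of `v ∈ U` at the blocks in `O`;
* `Half N T₀ i O` : `O` is the `T₀`-orbit of the block `i`, the elements of `S - T₀` swap `O` and its complement;
* `exists_half`.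
-/

set_option autoImplicit false

namespace Cfsg.Agent.Omega.NOThreeL.RLow.KTwo

open Subgroup Cfsg Cfsg.Agent.ZN Cfsg.Agent.Omega.MinPar
open Cfsg.Agent.Omega.FFThm (NatKM ActsSL)
open Cfsg.Agent.MinSimple.VModule (mem_zc zc_le_zl zc_le zc_sq le_normalizer_zl)
open Cfsg.Agent.Omega.NatPair (ap ap_mul ap_one ap_inv_ap ap_zero' ap_one' ap_inj ext2 exists_ap)
open Cfsg.Agent.Lib.SL2Mat
open Cfsg.Agent.Omega.NOThreeL.Low (Blk Rtv blk mem_blk exists_blk)
open Cfsg.Agent.Omega.NOThreeL.NF.NatR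

universe u

/-! ### Index two -/

section two

variable {G : Type u} [Group G]

/-- `T₀ < S` of index 2. -/
structure Two (S T₀ : Subgroup G) : Prop where
  le : T₀ ≤ S
  ex : ∃ t ∈ S, t ∉ T₀
  mul : ∀ a ∈ S, ∀ b ∈ S, a ∉ T₀ → b ∉ T₀ → a * b ∈ T₀

theorem exists_two [Finite G] {S H : Subgroup G} (hS : IsPGroup 2 S) (hHS : H ≤ S) (hlt : ¬ S ≤ H) :
    ∃ T₀, H ≤ T₀ ∧ Two S T₀ := by
  have := Fact.mk Nat.prime_two
  obtain ⟨p, hp, hp'⟩ := SetLike.not_le_iff_exists.1 hlt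
  obtain ⟨n, hn⟩ := IsPGroup.iff_card.1 hS
  have hH2 : IsPGroup 2 (H.subgroupOf S) := hS.to_subgroup _
  obtain ⟨m, hm⟩ := IsPGroup.iff_card.1 hH2
  have hlt : Nat.card (H.subgroupOf S) < Nat.card S := by
    have h1 := Cfsg.Agent.SectRankFour.C2.BThreeA.two_mul_card_le (A := H.subgroupOf S) (B := ⊤) le_top
      (p := ⟨p, hp⟩) trivial (by rw [Subgroup.mem_subgroupOf]; exact hp')
    rw [Subgroup.card_top] at h1
    have h2 : 0 < Nat.card (H.subgroupOf S) := Nat.card_pos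
    omega
  have hmn : m < n := by
    rw [hm, hn] at hlt
    exact (Nat.pow_lt_pow_iff_right (by norm_num)).1 hlt
  obtain ⟨K, hK, hHK⟩ := Sylow.exists_subgroup_card_pow_prime_le (G := S) 2 (n := m) (m := n - 1)
    (by rw [hn]; exact pow_dvd_pow 2 (by omega)) (H.subgroupOf S) hm (by omega)
  have hidx : K.index = 2 := by
    have h1 := K.card_mul_index
    rw [hK, hn] at h1
    have h2 : 2 ^ n = 2 ^ (n - 1) * 2 := by
      rw [← pow_succ]
      congr 1
      omega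
    rw [h2] at h1
    exact Nat.eq_of_mul_eq_mul_left (by positivity) h1
  have hmem : ∀ (x : G) (hx : x ∈ S), x ∈ K.map (S.subtype) ↔ (⟨x, hx⟩ : S) ∈ K := by
    intro x hx
    constructor
    · rintro ⟨y, hy, hyx⟩
      have : y = ⟨x, hx⟩ := Subtype.ext hyx
      rw [← this]; exact hy
    · intro h
      exact ⟨⟨x, hx⟩, h, rfl⟩
  refine ⟨K.map S.subtype, fun h hh => (hmem h (hHS hh)).2 (hHK hh), ?_, ?_, ?_⟩
  · rintro _ ⟨k, _, rfl⟩
    exact k.2
  · by_contra hcon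
    push Not at hcon
    have h2 : K = ⊤ := by
      rw [eq_top_iff]
      intro q _
      exact (hmem q q.2).1 (hcon q q.2)
    rw [h2, Subgroup.index_top] at hidx
    exact absurd hidx (by norm_num)
  · intro a ha b hb ha' hb'
    rw [hmem a ha] at ha'
    rw [hmem b hb] at hb'
    rw [hmem _ (mul_mem ha hb)]
    exact (Subgroup.mul_mem_iff_of_index_two hidx (a := ⟨a, ha⟩) (b := ⟨b, hb⟩)).2
      (iff_of_false ha' hb')

variable {S T₀ : Subgroup G} (h : Two S T₀)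
include h

theorem Two.conj {t x : G} (ht : t ∈ S) (hx : x ∈ T₀) : t * x * t⁻¹ ∈ T₀ := by
  by_cases h1 : t ∈ T₀
  · exact mul_mem (mul_mem h1 hx) (inv_mem h1)
  · refine h.mul _ (mul_mem ht (h.le hx)) _ (inv_mem ht) (fun h2 => h1 ?_) fun h2 => h1 (inv_mem_iff.1 h2)
    exact (T₀.mul_mem_cancel_right hx).1 h2

theorem Two.le_normalizer : S ≤ normalizer (T₀ : Set G) := by
  intro t ht
  rw [mem_normalizer_iff]
  intro x
  refine ⟨fun hx => h.conj ht hx, fun hx => ?_⟩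
  have h1 := h.conj (inv_mem ht) hx
  have e1 : t⁻¹ * (t * x * t⁻¹) * t⁻¹⁻¹ = x := by group
  rwa [e1] at h1

theorem Two.card [Finite G] : Nat.card S = 2 * Nat.card T₀ := by
  obtain ⟨t, ht, h1⟩ := h.ex
  refine Cfsg.Agent.SectRankFour.C2.BThreeA.card_eq_two_mul h.le ht h1 fun b hb => ?_
  by_cases hb' : b ∈ T₀
  · exact Or.inl hb'
  · exact Or.inr (h.mul b hb t ht hb' h1)

end two

/-! ### The components of `U` -/

section pr

variable {G : Type u} [Group G] {K : Type} [Field K] {S P U : Subgroup G} {k : ℕ}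
  (N : NatKM K S P U ⊥ k) (O : Set (Fin k))

open Classical in
/-- the component of `v` at `O` -/
noncomputable def pr (v : G) : G := (N.surj fun j => if j ∈ O then N.e v j else 0).choose

theorem pr_mem (v : G) : pr N O v ∈ U := (N.surj _).choose_spec.1

open Classical in
theorem e_pr (v : G) (j : Fin k) : N.e (pr N O v) j = if j ∈ O then N.e v j else 0 :=
  congrFun (N.surj _).choose_spec.2 j

variable {N O}

theorem e_pr_in {v : G} {j : Fin k} (hj : j ∈ O) : N.e (pr N O v) j = N.e v j := by rw [e_pr, if_pos hj]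

theorem e_pr_out {v : G} {j : Fin k} (hj : j ∉ O) : N.e (pr N O v) j = 0 := by rw [e_pr, if_neg hj]

theorem eq_pr {v w : G} (hw : w ∈ U) (h1 : ∀ j ∈ O, N.e w j = N.e v j) (h2 : ∀ j, j ∉ O → N.e w j = 0) :
    w = pr N O v := by
  refine e_inj (M := N) hw (pr_mem N O v) ?_
  funext j
  by_cases hj : j ∈ O
  · rw [h1 j hj, e_pr_in hj]
  · rw [h2 j hj, e_pr_out hj]

theorem pr_mul_pr {v : G} (hv : v ∈ U) : pr N O v * pr N Oᶜ v = v := by
  refine e_inj (M := N) (mul_mem (pr_mem N O v) (pr_mem N Oᶜ v)) hv ?_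
  rw [N.mul _ (pr_mem N O v) _ (pr_mem N Oᶜ v)]
  funext j
  rw [Pi.add_apply]
  by_cases hj : j ∈ O
  · rw [e_pr_in hj, e_pr_out (O := Oᶜ) (fun h => h hj), add_zero]
  · rw [e_pr_out hj, e_pr_in (O := Oᶜ) hj, zero_add]

theorem pr_mul {v w : G} (hv : v ∈ U) (hw : w ∈ U) : pr N O (v * w) = pr N O v * pr N O w := by
  symm
  refine eq_pr (mul_mem (pr_mem N O v) (pr_mem N O w)) (fun j hj => ?_) fun j hj => ?_
  · rw [N.mul _ (pr_mem N O v) _ (pr_mem N O w), N.mul v hv w hw, Pi.add_apply, Pi.add_apply, e_pr_in hj, e_pr_in hj]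
  · rw [N.mul _ (pr_mem N O v) _ (pr_mem N O w), Pi.add_apply, e_pr_out hj, e_pr_out hj, add_zero]

theorem pr_one : pr N O 1 = 1 := by
  symm
  refine eq_pr (one_mem _) (fun j _ => rfl) fun j _ => ?_
  rw [e_one (M := N)]; rfl

theorem pr_eq_one {v : G} (h : ∀ j ∈ O, N.e v j = 0) : pr N O v = 1 := by
  symm
  refine eq_pr (one_mem _) (fun j hj => ?_) fun j _ => ?_
  · rw [h j hj, e_one (M := N)]; rfl
  · rw [e_one (M := N)]; rfl

/-- `g` maps the blocks in `O` to the blocks in `O'`. -/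
def Mv (N : NatKM K S P U ⊥ k) (g : G) (O O' : Set (Fin k)) : Prop :=
  ∀ v ∈ U, (∀ j, j ∉ O → N.e v j = 0) → ∀ j, j ∉ O' → N.e (g * v * g⁻¹) j = 0

theorem pr_conj (hPU : P ≤ normalizer (U : Set G)) {g : G} (hg : g ∈ P) {O' : Set (Fin k)} (h1 : Mv N g O O')
    (h2 : Mv N g Oᶜ O'ᶜ) {v : G} (hv : v ∈ U) : g * pr N O v * g⁻¹ = pr N O' (g * v * g⁻¹) := by
  have ha := cmem hPU hg (pr_mem N O v)
  have hb := cmem hPU hg (pr_mem N Oᶜ v)
  have e1 : g * v * g⁻¹ = g * pr N O v * g⁻¹ * (g * pr N Oᶜ v * g⁻¹) := by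
    conv_lhs => rw [← pr_mul_pr (N := N) (O := O) hv]
    group
  refine eq_pr ha (fun j hj => ?_) fun j hj => ?_
  · rw [e1, N.mul _ ha _ hb, Pi.add_apply]
    rw [h2 _ (pr_mem N Oᶜ v) (fun i hi => e_pr_out hi) j (fun h => h hj), add_zero]
  · exact h1 _ (pr_mem N O v) (fun i hi => e_pr_out hi) j hj

end pr

/-! ### The orbit of a block under `T₀` -/

section half

variable {G : Type u} [Group G] {K : Type} [Field K] {S P U : Subgroup G} {k : ℕ}
  {N : NatKM K S P U ⊥ k}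

theorem blk_inj {i j : Fin k} (h : blk N i = blk N j) : i = j := by
  by_contra hij
  obtain ⟨a, ha, he⟩ := exists_blk N i ![0, 1]
  rw [h] at ha
  have h1 := ha.2 i hij
  rw [he] at h1
  exact one_ne_zero (congrFun h1 1)

/-- `t ∈ P` permutes the blocks. -/
theorem exists_sig (hPU : P ≤ normalizer (U : Set G)) {t : G} (ht : t ∈ P) : ∃ σ : Equiv.Perm (Fin k),
    (∀ v ∈ U, ∀ i, N.e (t * v * t⁻¹) (σ i) = 0 ↔ N.e v i = 0) ∧
      ∀ i v, v ∈ blk N i ↔ t * v * t⁻¹ ∈ blk N (σ i) := by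
  obtain ⟨σ, h1⟩ := N.perm t ht
  refine ⟨σ, h1, fun i v => ⟨fun hv => ⟨cmem hPU ht hv.1, fun j hj => ?_⟩, fun hv => ?_⟩⟩
  · obtain ⟨j, rfl⟩ := σ.surjective j
    exact (h1 v hv.1 j).2 (hv.2 j fun h => hj (congrArg σ h))
  · have hv' : v ∈ U := by
      have h2 := cmem hPU (inv_mem ht) hv.1
      have e1 : t⁻¹ * (t * v * t⁻¹) * t⁻¹⁻¹ = v := by group
      rwa [e1] at h2
    refine ⟨hv', fun j hj => (h1 v hv' j).1 (hv.2 _ fun h => hj (σ.injective h))⟩

/-- `O` is the `T₀`-orbit of the block `i`, the elements of `S - T₀` swap `O` and its complement. -/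
structure Half (N : NatKM K S P U ⊥ k) (T₀ : Subgroup G) (i : Fin k) (O : Set (Fin k)) : Prop where
  mem : i ∈ O
  orb : ∀ j ∈ O, ∃ t ∈ T₀, ∀ v, v ∈ blk N i ↔ t * v * t⁻¹ ∈ blk N j
  pres : ∀ t ∈ T₀, Mv N t O O
  pres' : ∀ t ∈ T₀, Mv N t Oᶜ Oᶜ
  swap : ∀ t ∈ S, t ∉ T₀ → Mv N t O Oᶜ
  swap' : ∀ t ∈ S, t ∉ T₀ → Mv N t Oᶜ O

theorem exists_half (hPU : P ≤ normalizer (U : Set G)) (hSP : S ≤ P) {T₀ : Subgroup G} (h : Two S T₀) {i : Fin k}
    (hi : S ⊓ normalizer (blk N i : Set G) ≤ T₀) : ∃ O, Half N T₀ i O := by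
  -- `B t i j` : `t` maps the block `i` to the block `j`
  let B : G → Fin k → Fin k → Prop := fun t i j => ∀ v, v ∈ blk N i ↔ t * v * t⁻¹ ∈ blk N j
  have hBmul : ∀ {s t : G} {a b c : Fin k}, B t a b → B s b c → B (s * t) a c := by
    intro s t a b c h1 h2 v
    rw [h1 v, h2 _]
    have e1 : s * t * v * (s * t)⁻¹ = s * (t * v * t⁻¹) * s⁻¹ := by group
    rw [e1]
  have hBinv : ∀ {t : G} {a b : Fin k}, B t a b → B t⁻¹ b a := by
    intro t a b h1 v
    rw [h1 (t⁻¹ * v * t⁻¹⁻¹)]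
    have e1 : t * (t⁻¹ * v * t⁻¹⁻¹) * t⁻¹ = v := by group
    rw [e1]
  have hBex : ∀ {t : G}, t ∈ S → ∀ a, ∃ b, B t a b := by
    intro t ht a
    obtain ⟨σ, _, h2⟩ := exists_sig (N := N) hPU (hSP ht)
    exact ⟨σ a, h2 a⟩
  have hBuniq : ∀ {t : G} {a b c : Fin k}, B t a b → B t a c → b = c := by
    intro t a b c h1 h2
    refine blk_inj (N := N) ?_
    ext v
    have e1 : t * (t⁻¹ * v * t) * t⁻¹ = v := by group
    have h3 := h1 (t⁻¹ * v * t)
    have h4 := h2 (t⁻¹ * v * t)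
    rw [e1] at h3 h4
    rw [← h3, h4]
  have hBst : ∀ {t : G}, t ∈ S → B t i i → t ∈ T₀ := fun {t} ht h1 =>
    hi ⟨ht, mem_normalizer_iff.2 h1⟩
  have htrans : ∀ a b, ∃ t ∈ S, B t a b := by
    intro a b
    obtain ⟨t, ht, h1⟩ := N.trans a b
    refine ⟨t, ht, ?_⟩
    obtain ⟨σ, h2, h3⟩ := exists_sig (N := N) hPU (hSP ht)
    have h4 : σ a = b := by
      by_contra hne
      obtain ⟨v, hv, hvi, hvj⟩ := exists_pt (M := N) a ![0, 1]
      have h5 : N.e v a ≠ 0 := by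
        rw [hvi]
        intro h0
        exact one_ne_zero (congrFun h0 1)
      refine h5 ((h1 v hv).1 ?_)
      obtain ⟨j', rfl⟩ := σ.surjective b
      exact (h2 v hv j').2 (hvj j' fun h6 => hne (by rw [h6]))
    intro v
    rw [← h4]
    exact h3 a v
  let O : Set (Fin k) := {j | ∃ t ∈ T₀, B t i j}
  have hB1 : B 1 i i := by
    intro v
    rw [one_mul, inv_one, mul_one]
  have hO : ∀ {t : G}, t ∈ S → ∀ {a b : Fin k}, B t a b → ((t ∈ T₀) ↔ (a ∈ O ↔ b ∈ O)) := by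
    intro t ht a b hab
    obtain ⟨s, hs, hsa⟩ := htrans i a
    have h1 : ∀ {c : Fin k} {x : G}, x ∈ S → B x i c → (c ∈ O ↔ x ∈ T₀) := by
      intro c x hx hxc
      constructor
      · rintro ⟨y, hy, hyc⟩
        have h2 : B (y⁻¹ * x) i i := hBmul hxc (hBinv hyc)
        have h3 : y⁻¹ * x ∈ T₀ := hBst (mul_mem (inv_mem (h.le hy)) hx) h2
        exact (T₀.mul_mem_cancel_left (inv_mem hy)).1 h3
      · intro hx0
        exact ⟨x, hx0, hxc⟩
    rw [h1 hs hsa, h1 (mul_mem ht hs) (hBmul hsa hab)]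
    by_cases h2 : t ∈ T₀
    · simp only [h2, true_iff]
      exact (T₀.mul_mem_cancel_left h2).symm
    · simp only [h2, false_iff]
      by_cases h3 : s ∈ T₀
      · simp only [h3, true_iff]
        intro h4
        exact h2 ((T₀.mul_mem_cancel_right h3).1 h4)
      · have h4 := h.mul t ht s hs h2 h3
        simp [h3, h4]
  have hMv : ∀ {t : G}, t ∈ S → ∀ (A A' : Set (Fin k)), (∀ a b, B t a b → (a ∈ A ↔ b ∈ A')) → Mv N t A A' := by
    intro t ht A A' h1 v hv hv0 j hj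
    obtain ⟨σ, h2, h3⟩ := exists_sig (N := N) hPU (hSP ht)
    obtain ⟨a, rfl⟩ := σ.surjective j
    exact (h2 v hv a).2 (hv0 a fun ha => hj ((h1 a (σ a) (h3 a)).1 ha))
  refine ⟨O, ⟨1, one_mem _, hB1⟩, fun j hj => hj, fun t ht => ?_, fun t ht => ?_, fun t ht ht' => ?_,
    fun t ht ht' => ?_⟩
  · exact hMv (h.le ht) _ _ fun a b hab => (hO (h.le ht) hab).1 ht
  · exact hMv (h.le ht) _ _ fun a b hab => not_congr ((hO (h.le ht) hab).1 ht)
  · refine hMv ht _ _ fun a b hab => ?_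
    have h1 := mt (hO ht hab).2 ht'
    rw [Set.mem_compl_iff]
    tauto
  · refine hMv ht _ _ fun a b hab => ?_
    have h1 := mt (hO ht hab).2 ht'
    rw [Set.mem_compl_iff]
    tauto

end half

end Cfsg.Agent.Omega.NOThreeL.RLow.KTwo
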