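import Cfsg.Agent.Omega.NOThreeL.RLow.Sing
import Cfsg.Agent.SmallSimple.S1000.TwoModule

/-!
# THEOREM R-LOW (#21762, helper597), LEMMA K2, the module half

`Γ` finite, faithful on the finite elementary abelian `2`-group `A = A₁ ⊕ A₂`, `|A₁| ≥ 4`, `t` swaps `A₁` and `A₂`,
`D ⊴ Γ` of index two and odd order, `Θ ≤ D` transitive on `A₁ ∖ {0}` and trivial on `A₂`: then no element of `Γ` maps a
nonzero vector of `A₁ ∪ A₂` to a vector outside `A₁ ∪ A₂` (`kTwo`).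
-/

set_option autoImplicit false
set_option linter.style.haveILetI false

namespace Cfsg.Agent.Omega.NOThreeL.RLow

open Subgroup Cfsg

universe u v

/-- The hypotheses of the module half of LEMMA K2. -/
structure KT {Γ : Type u} {A : Type v} [Group Γ] [AddCommGroup A] [DistribMulAction Γ A]
    (A₁ A₂ : AddSubgroup A) (t : Γ) (D Θ : Subgroup Γ) : Prop where
  two : ∀ a : A, a + a = 0
  dis : A₁ ⊓ A₂ = ⊥
  sup : A₁ ⊔ A₂ = ⊤
  four : 4 ≤ Nat.card A₁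
  t1 : ∀ a ∈ A₁, t • a ∈ A₂
  t2 : ∀ a ∈ A₂, t • a ∈ A₁
  normal : D.Normal
  odd : Odd (Nat.card D)
  idx : D.index = 2
  le : Θ ≤ D
  Θ1 : ∀ θ ∈ Θ, ∀ a ∈ A₁, θ • a ∈ A₁
  tr : ∀ a ∈ A₁, ∀ b ∈ A₁, a ≠ 0 → b ≠ 0 → ∃ θ ∈ Θ, θ • a = b
  Θ2 : ∀ θ ∈ Θ, ∀ a ∈ A₂, θ • a = a

namespace KT

variable {Γ : Type u} {A : Type v} [Group Γ] [AddCommGroup A] [DistribMulAction Γ A]
variable {A₁ A₂ : AddSubgroup A} {t : Γ} {D Θ : Subgroup Γ} (h : KT A₁ A₂ t D Θ)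
include h

theorem neg_eq (a : A) : -a = a := neg_eq_of_add_eq_zero_left (h.two a)

theorem exists_add (a : A) : ∃ b ∈ A₁, ∃ c ∈ A₂, a = b + c := by
  have h1 : a ∈ A₁ ⊔ A₂ := h.sup ▸ AddSubgroup.mem_top a
  obtain ⟨b, hb, c, hc, he⟩ := AddSubgroup.mem_sup.1 h1
  exact ⟨b, hb, c, hc, he.symm⟩

theorem zero_of {a : A} (h1 : a ∈ A₁) (h2 : a ∈ A₂) : a = 0 := by
  have : a ∈ A₁ ⊓ A₂ := ⟨h1, h2⟩
  rwa [h.dis, AddSubgroup.mem_bot] at this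

theorem eq_of {a b c d : A} (ha : a ∈ A₁) (hb : b ∈ A₁) (hc : c ∈ A₂) (hd : d ∈ A₂) (he : a + c = b + d) :
    a = b ∧ c = d := by
  have h1 : a - b = d - c := by
    rw [sub_eq_sub_iff_add_eq_add, he, add_comm]
  have h2 : a - b = 0 := h.zero_of (A₁.sub_mem ha hb) (h1 ▸ A₂.sub_mem hd hc)
  refine ⟨sub_eq_zero.1 h2, ?_⟩
  rw [h2] at h1
  exact (sub_eq_zero.1 h1.symm).symm

theorem inv2 {b : A} (hb : b ∈ A₂) : t⁻¹ • b ∈ A₁ := by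
  obtain ⟨c, hc, d, hd, he⟩ := h.exists_add (t⁻¹ • b)
  have h1 : b = t • d + t • c := by
    rw [← smul_add, add_comm, ← he, smul_inv_smul]
  have h2 : t • d = 0 := by
    refine h.zero_of (h.t2 d hd) ?_
    rw [eq_sub_of_add_eq h1.symm]
    exact A₂.sub_mem hb (h.t1 c hc)
  have h3 : d = 0 := by
    have := congrArg (fun x => t⁻¹ • x) h2
    simpa using this
  rw [he, h3, add_zero]
  exact hc

theorem inv1 {b : A} (hb : b ∈ A₁) : t⁻¹ • b ∈ A₂ := by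
  obtain ⟨c, hc, d, hd, he⟩ := h.exists_add (t⁻¹ • b)
  have h1 : b = t • d + t • c := by
    rw [← smul_add, add_comm, ← he, smul_inv_smul]
  have h2 : t • c = 0 := by
    refine h.zero_of ?_ (h.t1 c hc)
    rw [eq_sub_of_add_eq' h1.symm]
    exact A₁.sub_mem hb (h.t2 d hd)
  have h3 : c = 0 := by
    have := congrArg (fun x => t⁻¹ • x) h2
    simpa using this
  rw [he, h3, zero_add]
  exact hd

/-- `κ(θ) = θ⁻¹ θᵗ` acts as `θ⁻¹` on `A₁` -/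
theorem kap1 {θ : Γ} (hθ : θ ∈ Θ) {a : A} (ha : a ∈ A₁) : (θ⁻¹ * (t⁻¹ * θ * t)) • a = θ⁻¹ • a := by
  rw [mul_smul, mul_smul, mul_smul, h.Θ2 θ hθ _ (h.t1 a ha), inv_smul_smul]

/-- `κ(θ) = θ⁻¹ θᵗ` acts as `θᵗ` on `A₂` -/
theorem kap2 {θ : Γ} (hθ : θ ∈ Θ) {a : A} (ha : a ∈ A₂) : (θ⁻¹ * (t⁻¹ * θ * t)) • a = t⁻¹ • θ • t • a := by
  rw [mul_smul, mul_smul, mul_smul]
  exact h.Θ2 _ (Θ.inv_mem hθ) _ (h.inv1 (h.Θ1 θ hθ _ (h.t2 a ha)))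

/-- the second component of an element outside `A₁` is nonzero -/
theorem comp {x : A} (h1 : x ∉ A₁) (h2 : x ∉ A₂) : ∃ b ∈ A₁, ∃ c ∈ A₂, b ≠ 0 ∧ c ≠ 0 ∧ x = b + c := by
  obtain ⟨b, hb, c, hc, he⟩ := h.exists_add x
  refine ⟨b, hb, c, hc, fun h0 => h2 ?_, fun h0 => h1 ?_, he⟩
  · rw [he, h0, zero_add]; exact hc
  · rw [he, h0, add_zero]; exact hb

/-- full vectors are fused -/
theorem fuse {b b' c c' : A} (hb : b ∈ A₁) (hb' : b' ∈ A₁) (hc : c ∈ A₂) (hc' : c' ∈ A₂) (hb0 : b ≠ 0) (hb'0 : b' ≠ 0)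
    (hc0 : c ≠ 0) (hc'0 : c' ≠ 0) : ∃ g : Γ, g • (b + c) = b' + c' := by
  obtain ⟨θ, hθ, h1⟩ := h.tr b hb b' hb' hb0 hb'0
  obtain ⟨η, hη, h2⟩ := h.tr (t • c) (h.t2 c hc) (t • c') (h.t2 c' hc')
    (by rwa [ne_eq, smul_eq_zero_iff_eq]) (by rwa [ne_eq, smul_eq_zero_iff_eq])
  refine ⟨θ * (t⁻¹ * η * t), ?_⟩
  have h3 : (t⁻¹ * η * t) • b = b := by
    rw [mul_smul, mul_smul, h.Θ2 η hη _ (h.t1 b hb), inv_smul_smul]
  have h4 : (t⁻¹ * η * t) • c = c' := by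
    rw [mul_smul, mul_smul, h2, inv_smul_smul]
  rw [mul_smul, smul_add, h3, h4, smul_add, h1, h.Θ2 θ hθ _ hc']

/-- `Γ` is transitive if one vector of `A₁ ∪ A₂` is fused to a full vector -/
theorem trans {g : Γ} {a : A} (ha : a ∈ A₁ ∨ a ∈ A₂) (ha0 : a ≠ 0) (hg1 : g • a ∉ A₁) (hg2 : g • a ∉ A₂) :
    ∃ e ∈ A₁, e ≠ 0 ∧ ∀ x : A, x ≠ 0 → ∃ g : Γ, g • e = x := by
  obtain ⟨b, hb, c, hc, hb0, hc0, he⟩ := h.comp hg1 hg2
  -- `e = b`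
  have hA1 : ∀ x ∈ A₁, x ≠ 0 → ∃ g : Γ, g • b = x := fun x hx hx0 => by
    obtain ⟨θ, -, h1⟩ := h.tr b hb x hx hb0 hx0
    exact ⟨θ, h1⟩
  have hA2 : ∀ x ∈ A₂, x ≠ 0 → ∃ g : Γ, g • b = x := fun x hx hx0 => by
    obtain ⟨γ, h1⟩ := hA1 (t • x) (h.t2 x hx) (by rwa [ne_eq, smul_eq_zero_iff_eq])
    exact ⟨t⁻¹ * γ, by rw [mul_smul, h1, inv_smul_smul]⟩
  obtain ⟨γ, h1⟩ : ∃ γ : Γ, γ • b = a := ha.elim (fun h1 => hA1 a h1 ha0) fun h1 => hA2 a h1 ha0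
  refine ⟨b, hb, hb0, fun x hx0 => ?_⟩
  by_cases h2 : x ∈ A₁
  · exact hA1 x h2 hx0
  by_cases h3 : x ∈ A₂
  · exact hA2 x h3 hx0
  obtain ⟨b', hb', c', hc', hb'0, hc'0, he'⟩ := h.comp h2 h3
  obtain ⟨δ, h4⟩ := h.fuse hb hb' hc hc' hb0 hb'0 hc0 hc'0
  exact ⟨δ * (g * γ), by rw [mul_smul, mul_smul, h1, he, h4, he']⟩

theorem two_dvd_card [Finite A] : 2 ∣ Nat.card A := by
  obtain ⟨a, ha, ha0⟩ : ∃ a ∈ A₁, a ≠ 0 := by
    by_contra hcon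
    push Not at hcon
    have h1 : A₁ = ⊥ := (AddSubgroup.eq_bot_iff_forall _).2 hcon
    have h2 := h.four
    rw [h1, AddSubgroup.card_bot] at h2
    omega
  have h1 : addOrderOf a = 2 := addOrderOf_eq_prime (by rw [two_nsmul, h.two]) ha0
  rw [← h1]
  exact addOrderOf_dvd_natCard a

/-- `D` is transitive if `Γ` is -/
theorem transD [Finite Γ] [Finite A] {e : A} (he : e ≠ 0) (htr : ∀ x : A, x ≠ 0 → ∃ g : Γ, g • e = x) :
    ∀ x : A, x ≠ 0 → ∃ d ∈ D, d • e = x := by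
  classical
  -- the stabiliser of `e` has odd index
  have h1 : Odd (MulAction.stabilizer Γ e).index := by
    have h2 : (MulAction.stabilizer Γ e).index = Nat.card A - 1 := by
      rw [MulAction.index_stabilizer]
      have h3 : MulAction.orbit Γ e = {x : A | x ≠ 0} := by
        ext x
        constructor
        · rintro ⟨g, rfl⟩
          exact fun h0 => he (by rwa [smul_eq_zero_iff_eq] at h0)
        · intro hx
          obtain ⟨g, hg⟩ := htr x hx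
          exact ⟨g, hg⟩
      rw [h3]
      have h4 : ({x : A | x ≠ 0} : Set A) = {0}ᶜ := by ext; simp
      rw [h4, Set.ncard_compl, Set.ncard_singleton]
    rw [h2]
    have h5 := h.two_dvd_card
    have h6 : 0 < Nat.card A := Nat.card_pos
    obtain ⟨m, hm⟩ := h5
    rw [hm] at h6 ⊢
    exact ⟨m - 1, by omega⟩
  have h2 : ∃ s ∈ MulAction.stabilizer Γ e, s ∉ D := by
    by_contra hcon
    push Not at hcon
    have h3 : MulAction.stabilizer Γ e ≤ D := hcon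
    have h4 := Subgroup.relIndex_mul_index h3
    rw [h.idx] at h4
    rw [← h4] at h1
    exact (Nat.not_even_iff_odd.2 h1) ⟨_, by ring⟩
  obtain ⟨s, hs, hsD⟩ := h2
  intro x hx
  obtain ⟨g, hg⟩ := htr x hx
  by_cases hgD : g ∈ D
  · exact ⟨g, hgD, hg⟩
  · refine ⟨g * s, (Subgroup.mul_mem_iff_of_index_two h.idx).2 ⟨fun h3 => (hgD h3).elim, fun h3 => (hsD h3).elim⟩, ?_⟩
    rw [mul_smul, MulAction.mem_stabilizer_iff.1 hs, hg]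

/-- two elements agree if they agree on `A₁` and on `A₂` -/
theorem ext [FaithfulSMul Γ A] {g g' : Γ} (h1 : ∀ b ∈ A₁, g • b = g' • b) (h2 : ∀ c ∈ A₂, g • c = g' • c) : g = g' := by
  refine FaithfulSMul.eq_of_smul_eq_smul (α := A) fun a => ?_
  obtain ⟨b, hb, c, hc, rfl⟩ := h.exists_add a
  rw [smul_add, smul_add, h1 b hb, h2 c hc]

theorem kap_ne [FaithfulSMul Γ A] {θ : Γ} (hθ : θ ∈ Θ) (h1 : θ ≠ 1) : θ⁻¹ * (t⁻¹ * θ * t) ≠ 1 := fun h2 => by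
  apply h1
  rw [← inv_eq_one]
  refine h.ext (fun b hb => ?_) fun c hc => ?_
  · rw [← h.kap1 hθ hb, h2]
  · rw [h.Θ2 _ (Θ.inv_mem hθ) c hc, one_smul]

/-- `θ` and `ηᵗ` commute -/
theorem comm_conj [FaithfulSMul Γ A] {θ η : Γ} (hθ : θ ∈ Θ) (hη : η ∈ Θ) :
    Commute θ (t⁻¹ * η * t) := by
  refine h.ext (fun b hb => ?_) fun c hc => ?_
  · have h1 : ∀ b ∈ A₁, (t⁻¹ * η * t) • b = b := fun b hb => by
      rw [mul_smul, mul_smul, h.Θ2 η hη _ (h.t1 b hb), inv_smul_smul]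
    rw [mul_smul θ, mul_smul (t⁻¹ * η * t) θ, h1 b hb, h1 _ (h.Θ1 θ hθ b hb)]
  · have h1 : (t⁻¹ * η * t) • c ∈ A₂ := by
      rw [mul_smul, mul_smul]
      exact h.inv1 (h.Θ1 η hη _ (h.t2 c hc))
    rw [mul_smul θ, mul_smul (t⁻¹ * η * t) θ, h.Θ2 θ hθ c hc, h.Θ2 θ hθ _ h1]

theorem kap_pow [FaithfulSMul Γ A] {θ : Γ} (hθ : θ ∈ Θ) (m : ℤ) :
    (θ⁻¹ * (t⁻¹ * θ * t)) ^ m = (θ ^ m)⁻¹ * (t⁻¹ * θ ^ m * t) := by
  rw [((h.comm_conj hθ hθ).inv_left).mul_zpow, inv_zpow]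
  congr 1
  have := conj_zpow (i := m) (a := t⁻¹) (b := θ)
  rw [inv_inv] at this
  exact this

section main

variable {K : Subgroup Γ} (s : SK A D K)
include s

theorem kap_mem {θ : Γ} (hθ : θ ∈ Θ) : θ⁻¹ * (t⁻¹ * θ * t) ∈ K := by
  have := s.comm_mem h.normal (h.le hθ) t⁻¹
  rwa [inv_inv] at this

theorem commΘ [FaithfulSMul Γ A] {θ η : Γ} (hθ : θ ∈ Θ) (hη : η ∈ Θ) : θ * η = η * θ := by
  have h1 := s.comm _ (h.kap_mem s hθ) _ (h.kap_mem s hη)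
  have h2 : θ⁻¹ * η⁻¹ = η⁻¹ * θ⁻¹ := by
    refine h.ext (fun b hb => ?_) fun c hc => ?_
    · have h3 : (θ⁻¹ * (t⁻¹ * θ * t) * (η⁻¹ * (t⁻¹ * η * t))) • b =
        (η⁻¹ * (t⁻¹ * η * t) * (θ⁻¹ * (t⁻¹ * θ * t))) • b := by rw [h1]
      rw [mul_smul, h.kap1 hη hb, h.kap1 hθ (h.Θ1 _ (Θ.inv_mem hη) b hb), mul_smul _ _ b, h.kap1 hθ hb,
        h.kap1 hη (h.Θ1 _ (Θ.inv_mem hθ) b hb)] at h3
      rw [mul_smul, mul_smul]
      exact h3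
    · rw [mul_smul, mul_smul, h.Θ2 _ (Θ.inv_mem hη) c hc, h.Θ2 _ (Θ.inv_mem hθ) c hc, h.Θ2 _ (Θ.inv_mem hη) c hc]
  have h3 := congrArg (fun g : Γ => g⁻¹) h2
  simp only [mul_inv_rev, inv_inv] at h3
  exact h3.symm

/-- for `1 ≠ λ ∈ Θ` there is `ν ∈ Θ` with `ν = 1 + λ` and `ν⁻¹ = 1 + λ⁻¹` on `A₁` -/
theorem exists_nu [FaithfulSMul Γ A] {d : Γ} {v₁ v₂ : A} (h1 : v₁ ∈ A₁) (h2 : v₂ ∈ A₂) (h10 : v₁ ≠ 0)
    (h20 : v₂ ≠ 0) (hdv : d • v₁ = v₁ + v₂) {l : Γ} (hl : l ∈ Θ) (hl1 : l ≠ 1) :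
    ∃ n ∈ Θ, (∀ x ∈ A₁, x + l⁻¹ • x = n⁻¹ • x) ∧ ∀ x ∈ A₁, x + l • x = n • x := by
  set v := v₁ + v₂ with hv
  have hv0 : v ≠ 0 := fun h0 => by
    have := h.eq_of h1 A₁.zero_mem h2 A₂.zero_mem (by rw [← hv, h0, add_zero])
    exact h10 this.1
  -- `d⁻¹ κ(l) v ∈ A₁`
  have h3 : d⁻¹ • (l⁻¹ * (t⁻¹ * l * t)) • v ∈ A₁ := by
    obtain ⟨m, hm⟩ := s.pow d⁻¹
    have h4 := hm _ (h.kap_mem s hl)
    rw [inv_inv] at h4
    have h5 : d⁻¹ • (l⁻¹ * (t⁻¹ * l * t)) • v = (d⁻¹ * (l⁻¹ * (t⁻¹ * l * t)) * d) • v₁ := by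
      rw [mul_smul _ d v₁, hdv, mul_smul d⁻¹ _ v]
    rw [h5, h4, h.kap_pow hl, h.kap1 (Θ.zpow_mem hl m) h1]
    exact h.Θ1 _ (Θ.inv_mem (Θ.zpow_mem hl m)) _ h1
  -- `d x = κ(n) v`
  have h4 : ∀ x ∈ A₁, x ≠ 0 → ∃ n ∈ Θ, d • x = (n⁻¹ * (t⁻¹ * n * t)) • v := by
    intro x hx hx0
    obtain ⟨θ, hθ, h5⟩ := h.tr v₁ h1 x hx h10 hx0
    obtain ⟨m, hm⟩ := s.pow d
    have h6 := hm _ (h.kap_mem s (Θ.inv_mem hθ))
    refine ⟨θ⁻¹ ^ m, Θ.zpow_mem (Θ.inv_mem hθ) m, ?_⟩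
    have h7 : d • x = (d * (θ⁻¹⁻¹ * (t⁻¹ * θ⁻¹ * t)) * d⁻¹) • v := by
      rw [mul_smul _ d⁻¹ v, ← hdv, inv_smul_smul, mul_smul, h.kap1 (Θ.inv_mem hθ) h1, inv_inv, h5]
    rw [h7, h6, h.kap_pow (Θ.inv_mem hθ)]
  set y := v + (l⁻¹ * (t⁻¹ * l * t)) • v with hy
  have hy0 : y ≠ 0 := fun h0 => by
    have h5 : (l⁻¹ * (t⁻¹ * l * t)) • v = v := by
      have := eq_neg_of_add_eq_zero_right h0
      rw [this, h.neg_eq]
    exact hv0 (s.free _ (h.kap_mem s hl) (h.kap_ne hl hl1) v h5)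
  have hyA : d⁻¹ • y ∈ A₁ := by
    rw [hy, smul_add]
    refine A₁.add_mem ?_ h3
    rw [← hdv, inv_smul_smul]
    exact h1
  obtain ⟨n, hn, h5⟩ := h4 _ hyA (by rwa [ne_eq, smul_eq_zero_iff_eq])
  rw [smul_inv_smul, hy, hv, smul_add, smul_add, h.kap1 hl h1, h.kap2 hl h2, h.kap1 hn h1, h.kap2 hn h2] at h5
  have h6 := h.eq_of (A₁.add_mem h1 (h.Θ1 _ (Θ.inv_mem hl) _ h1)) (h.Θ1 _ (Θ.inv_mem hn) _ h1)
    (A₂.add_mem h2 (h.inv1 (h.Θ1 l hl _ (h.t2 _ h2)))) (h.inv1 (h.Θ1 n hn _ (h.t2 _ h2)))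
    (by rw [← h5]; abel)
  have h7 : t • v₂ + l • t • v₂ = n • t • v₂ := by
    have := congrArg (fun x => t • x) h6.2
    simpa [smul_add, smul_inv_smul] using this
  refine ⟨n, hn, fun x hx => ?_, fun x hx => ?_⟩
  · by_cases hx0 : x = 0
    · simp [hx0]
    obtain ⟨θ, hθ, rfl⟩ := h.tr v₁ h1 x hx h10 hx0
    rw [← mul_smul, ← mul_smul, h.commΘ s (Θ.inv_mem hl) hθ, h.commΘ s (Θ.inv_mem hn) hθ, mul_smul, mul_smul, ← h6.1,
      smul_add]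
  · by_cases hx0 : x = 0
    · simp [hx0]
    obtain ⟨θ, hθ, rfl⟩ := h.tr (t • v₂) (h.t2 _ h2) x hx (by rwa [ne_eq, smul_eq_zero_iff_eq]) hx0
    rw [← mul_smul l θ, ← mul_smul n θ, h.commΘ s hl hθ, h.commΘ s hn hθ, mul_smul θ l, mul_smul θ n, ← h7, smul_add]

theorem cube [FaithfulSMul Γ A] {d : Γ} {v₁ v₂ : A} (h1 : v₁ ∈ A₁) (h2 : v₂ ∈ A₂) (h10 : v₁ ≠ 0)
    (h20 : v₂ ≠ 0) (hdv : d • v₁ = v₁ + v₂) {l : Γ} (hl : l ∈ Θ) : l ^ 3 = 1 := by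
  by_cases hl1 : l = 1
  · rw [hl1, one_pow]
  obtain ⟨n, hn, h3, h4⟩ := h.exists_nu s h1 h2 h10 h20 hdv hl hl1
  refine h.ext (fun x hx => ?_) fun c hc => by rw [h.Θ2 _ (Θ.pow_mem hl 3) c hc, one_smul]
  -- `l x + l⁻¹ x = x`
  have h5 : l • x + l⁻¹ • x = x := by
    have h6 : n⁻¹ • n • x = x := inv_smul_smul _ _
    rw [← h3 _ (h.Θ1 n hn x hx), ← h4 x hx, smul_add, inv_smul_smul] at h6
    calc l • x + l⁻¹ • x = (x + x) + (l • x + l⁻¹ • x) := by rw [h.two, zero_add]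
      _ = x + l • x + (l⁻¹ • x + x) := by abel
      _ = x := h6
  have h6 : l • l • x + x = l • x := by
    have := congrArg (fun y => l • y) h5
    simpa [smul_add, smul_inv_smul] using this
  have h7 : l • l • x = l • x + x := by
    calc l • l • x = l • l • x + (x + x) := by rw [h.two, add_zero]
      _ = (l • l • x + x) + x := by abel
      _ = l • x + x := by rw [h6]
  rw [one_smul, pow_succ, pow_two, mul_smul, mul_smul]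
  have h8 : l • l • l • x = l • (l • x + x) := by rw [h7]
  rw [h8, smul_add, h7]
  calc l • x + x + l • x = (l • x + l • x) + x := by abel
    _ = x := by rw [h.two, zero_add]

/-- `κ` embeds `Θ` into the `3`-torsion of the cyclic group `K` -/
theorem card_le [Finite Γ] [FaithfulSMul Γ A] (h3 : ∀ l ∈ Θ, l ^ 3 = 1) : Nat.card Θ ≤ 3 := by
  classical
  obtain ⟨c, hc, hK⟩ := s.cyc
  haveI : IsCyclic K := ⟨⟨⟨c, hc⟩, fun k => by
    obtain ⟨n, hn⟩ := hK k k.2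
    exact Subgroup.mem_zpowers_iff.2 ⟨n, Subtype.ext (by simpa using hn.symm)⟩⟩⟩
  letI := Fintype.ofFinite K
  have h4 : ∀ l : Θ, ((⟨_, h.kap_mem s l.2⟩ : K)) ^ 3 = 1 := fun l => by
    refine Subtype.ext ?_
    have h5 := h.kap_pow l.2 3
    have h6 : ((l : Γ) ^ (3 : ℤ)) = 1 := by
      have := h3 l l.2
      exact_mod_cast this
    rw [h6, inv_one, mul_one, one_mul, inv_mul_cancel] at h5
    have h7 : (((l : Γ)⁻¹ * (t⁻¹ * (l : Γ) * t)) ^ 3) = 1 := by exact_mod_cast h5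
    simpa using h7
  let f : Θ → {a : K // a ∈ (Finset.univ.filter fun a : K => a ^ 3 = 1)} := fun l =>
    ⟨⟨_, h.kap_mem s l.2⟩, by simpa using h4 l⟩
  have hf : Function.Injective f := by
    intro l n hln
    have h5 : (l : Γ)⁻¹ * (t⁻¹ * (l : Γ) * t) = (n : Γ)⁻¹ * (t⁻¹ * (n : Γ) * t) :=
      congrArg (fun x => ((x.1 : K) : Γ)) hln
    have h6 : (l : Γ)⁻¹ = (n : Γ)⁻¹ := by
      refine h.ext (fun b hb => ?_) fun c hc => by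
        rw [h.Θ2 _ (Θ.inv_mem l.2) c hc, h.Θ2 _ (Θ.inv_mem n.2) c hc]
      rw [← h.kap1 l.2 hb, ← h.kap1 n.2 hb, h5]
    exact Subtype.ext (inv_injective h6)
  have h5 := Nat.card_le_card_of_injective f hf
  refine h5.trans ?_
  rw [Nat.card_eq_fintype_card, Fintype.card_coe]
  exact IsCyclic.card_pow_eq_one_le (by norm_num)

omit s in
theorem card_A [Finite A] : Nat.card A = Nat.card A₁ * Nat.card A₁ := by
  rw [← Nat.card_prod]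
  refine (Nat.card_congr (Equiv.ofBijective (fun x : A₁ × A₁ => (x.1 : A) + t • (x.2 : A)) ⟨?_, ?_⟩)).symm
  · rintro ⟨a, b⟩ ⟨c, d⟩ h1
    have h2 := h.eq_of a.2 c.2 (h.t1 _ b.2) (h.t1 _ d.2) h1
    have h3 : (b : A) = d := by
      have := congrArg (fun x => t⁻¹ • x) h2.2
      simpa using this
    exact Prod.ext (Subtype.ext h2.1) (Subtype.ext h3)
  · intro x
    obtain ⟨b, hb, c, hc, rfl⟩ := h.exists_add x
    exact ⟨(⟨b, hb⟩, ⟨t⁻¹ • c, h.inv2 hc⟩), by simp⟩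

omit s in
theorem card_A1_le [Finite Γ] [Finite A] {v₁ : A} (h1 : v₁ ∈ A₁) (h10 : v₁ ≠ 0) : Nat.card A₁ ≤ Nat.card Θ + 1 := by
  classical
  have h2 : Nat.card A₁ ≤ Nat.card (Option Θ) := by
    refine Nat.card_le_card_of_surjective (fun o : Option Θ => match o with
      | none => (0 : A₁)
      | some θ => ⟨(θ : Γ) • v₁, h.Θ1 θ θ.2 _ h1⟩) ?_
    intro x
    by_cases hx : x = 0
    · exact ⟨none, hx.symm⟩
    · obtain ⟨θ, hθ, h3⟩ := h.tr v₁ h1 x x.2 h10 (fun h4 => hx (Subtype.ext h4))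
      exact ⟨some ⟨θ, hθ⟩, Subtype.ext h3⟩
  rwa [Finite.card_option] at h2

omit h in
theorem card_K_dvd [Finite Γ] [Finite A] : Nat.card K ∣ Nat.card A - 1 := by
  classical
  have h1 : Nat.card {x : A // x ≠ 0} = Nat.card A - 1 := by
    have h2 : Nat.card {x : A // x ≠ 0} = ({x : A | x ≠ 0} : Set A).ncard := rfl
    have h4 : ({x : A | x ≠ 0} : Set A) = {0}ᶜ := by ext; simp
    rw [h2, h4, Set.ncard_compl, Set.ncard_singleton]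
  rw [← h1]
  letI : MulAction K {x : A // x ≠ 0} :=
    { smul := fun k x => ⟨(k : Γ) • (x : A), by rw [ne_eq, smul_eq_zero_iff_eq]; exact x.2⟩
      one_smul := fun x => Subtype.ext (one_smul Γ (x : A))
      mul_smul := fun k l x => Subtype.ext (mul_smul (k : Γ) (l : Γ) (x : A)) }
  refine SmallSimple.S1000.TwoModule.card_dvd_of_free fun k x hx => ?_
  by_contra hk
  exact x.2 (s.free k k.2 (fun h2 => hk (Subtype.ext h2)) x (congrArg Subtype.val hx))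

omit h s in
theorem arith {n : ℕ} {m : ℤ} (hn : n ∣ 15) (h1 : (n : ℤ) ∣ m ^ 3 - 1) (h2 : (3 : ℤ) ∣ m - 1) : (n : ℤ) ∣ m - 1 := by
  have h5 : (5 : ℤ) ∣ m ^ 3 - 1 → (5 : ℤ) ∣ m - 1 := by
    intro h
    have h6 : ((m ^ 3 - 1 : ℤ) : ZMod 5) = 0 := (ZMod.intCast_zmod_eq_zero_iff_dvd _ _).2 h
    have h7 : ((m - 1 : ℤ) : ZMod 5) = 0 := by
      push_cast at h6 ⊢
      generalize (m : ZMod 5) = x at h6 ⊢
      revert x
      decide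
    exact (ZMod.intCast_zmod_eq_zero_iff_dvd _ _).1 h7
  have h6 : n = 1 ∨ n = 3 ∨ n = 5 ∨ n = 15 := by
    have : n ≤ 15 := Nat.le_of_dvd (by norm_num) hn
    interval_cases n <;> omega
  obtain rfl | rfl | rfl | rfl := h6
  · simp
  · exact h2
  · exact h5 h1
  · have h7 := h5 (dvd_trans (by norm_num) h1)
    push_cast
    omega

end main

/-- **LEMMA K2, the module half** (#21762 (1)). -/
theorem kTwo [Finite Γ] [Finite A] [FaithfulSMul Γ A] {g : Γ} {a : A} (ha : a ∈ A₁ ∨ a ∈ A₂) (ha0 : a ≠ 0)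
    (hg1 : g • a ∉ A₁) (hg2 : g • a ∉ A₂) : False := by
  classical
  obtain ⟨e, he, he0, htr⟩ := h.trans ha ha0 hg1 hg2
  have htrD := h.transD he0 htr
  have htrD' : ∀ x y : A, x ≠ 0 → y ≠ 0 → ∃ d ∈ D, d • x = y := fun x y hx hy => by
    obtain ⟨d, hd, h1⟩ := htrD x hx
    obtain ⟨d', hd', h2⟩ := htrD y hy
    exact ⟨d' * d⁻¹, D.mul_mem hd' (D.inv_mem hd), by rw [mul_smul, ← h1, inv_smul_smul, h2]⟩
  haveI : Nontrivial A := ⟨⟨e, 0, he0⟩⟩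
  obtain ⟨K, s⟩ := exists_SK h.two h.normal h.odd htrD'
  have h20 : t • e ≠ 0 := by rwa [ne_eq, smul_eq_zero_iff_eq]
  have h2 := h.t1 e he
  have hv0 : e + t • e ≠ 0 := fun h0 => by
    have := h.eq_of he A₁.zero_mem h2 A₂.zero_mem (by rw [h0, add_zero])
    exact he0 this.1
  obtain ⟨d, hdv⟩ := htr _ hv0
  have h3 : ∀ l ∈ Θ, l ^ 3 = 1 := fun l hl => h.cube s he h2 he0 h20 hdv hl
  have h4 := h.card_le s h3
  have h5 := h.card_A1_le he he0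
  have h6 := h.four
  have h7 : Nat.card A₁ = 4 := by omega
  have h8 : Nat.card A = 16 := by rw [h.card_A, h7]
  have h9 : Nat.card K ∣ 15 := by
    have := card_K_dvd s
    rwa [h8] at this
  -- an element `θ ≠ 1`
  obtain ⟨θ, hθ1⟩ : ∃ θ : Θ, θ ≠ 1 := by
    by_contra hcon
    push Not at hcon
    haveI : Subsingleton Θ := ⟨fun a b => by rw [hcon a, hcon b]⟩
    have := Nat.card_of_subsingleton (1 : Θ)
    omega
  have hθ := θ.2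
  have hθ1' : (θ : Γ) ≠ 1 := fun h0 => hθ1 (Subtype.ext h0)
  obtain ⟨m, hm⟩ := s.pow (θ : Γ)
  set κ := (θ : Γ)⁻¹ * (t⁻¹ * (θ : Γ) * t) with hκ
  have hκK : κ ∈ K := h.kap_mem s hθ
  have hκ1 : κ ≠ 1 := h.kap_ne hθ hθ1'
  have hκ3 : κ ^ 3 = 1 := by
    have h10 := h.kap_pow hθ 3
    have h11 : ((θ : Γ) ^ (3 : ℤ)) = 1 := by
      have := h3 θ hθ
      exact_mod_cast this
    rw [h11, inv_one, mul_one, one_mul, inv_mul_cancel] at h10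
    exact_mod_cast h10
  have hord : orderOf κ = 3 := orderOf_eq_prime hκ3 hκ1
  have h3m : (3 : ℤ) ∣ m - 1 := by
    have h10 : (θ : Γ) * κ * (θ : Γ)⁻¹ = κ := by
      have h11 : Commute (θ : Γ) κ := ((Commute.refl _).inv_right).mul_right (h.comm_conj hθ hθ)
      rw [h11.eq, mul_inv_cancel_right]
    have h11 : κ ^ (m - 1) = 1 := by
      rw [zpow_sub_one, ← hm κ hκK, h10, mul_inv_cancel]
    have h12 := orderOf_dvd_iff_zpow_eq_one.2 h11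
    rw [hord] at h12
    exact_mod_cast h12
  have h10 : ∀ k ∈ K, (θ : Γ) * k * (θ : Γ)⁻¹ = k := by
    intro k hk
    have h11 : ((θ : Γ) ^ 3) * k * ((θ : Γ) ^ 3)⁻¹ = k ^ (m ^ 3) := by
      have e1 := hm k hk
      have e2 : (θ : Γ) * k ^ m * (θ : Γ)⁻¹ = (k ^ m) ^ m := hm _ (K.zpow_mem hk m)
      have e3 : (θ : Γ) * (k ^ m) ^ m * (θ : Γ)⁻¹ = ((k ^ m) ^ m) ^ m := hm _ (K.zpow_mem (K.zpow_mem hk m) m)
      calc ((θ : Γ) ^ 3) * k * ((θ : Γ) ^ 3)⁻¹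
          = θ * (θ * (θ * k * (θ : Γ)⁻¹) * (θ : Γ)⁻¹) * (θ : Γ)⁻¹ := by
            rw [pow_succ, pow_two]
            simp only [mul_inv_rev, mul_assoc]
        _ = ((k ^ m) ^ m) ^ m := by rw [e1, e2, e3]
        _ = k ^ (m ^ 3) := by rw [← zpow_mul, ← zpow_mul]; congr 1; ring
    rw [h3 θ hθ, one_mul, inv_one, mul_one] at h11
    have h12 : k ^ (m ^ 3 - 1) = 1 := by
      rw [zpow_sub_one, ← h11, mul_inv_cancel]
    have h13 : (orderOf k : ℤ) ∣ m ^ 3 - 1 := orderOf_dvd_iff_zpow_eq_one.2 h12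
    have h14 : orderOf k ∣ 15 := (Subgroup.orderOf_dvd_natCard K hk).trans h9
    have h15 := arith h14 h13 h3m
    have h16 : k ^ (m - 1) = 1 := orderOf_dvd_iff_zpow_eq_one.1 h15
    rw [hm k hk]
    rw [zpow_sub_one] at h16
    exact mul_inv_eq_one.1 h16
  have h11 : (θ : Γ) ∈ K := s.cen θ (h.le hθ) fun k hk => by
    have := h10 k hk
    rw [mul_inv_eq_iff_eq_mul] at this
    exact this
  exact h20 (s.free θ h11 hθ1' _ (h.Θ2 θ hθ _ h2))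

end KT

end Cfsg.Agent.Omega.NOThreeL.RLow
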