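import Cfsg.Agent.Omega.NO3S.KeyRad.Lin
import Cfsg.Agent.Omega.NOThreeL.RLow.SymR

/-!
# THEOREM R-LOW (#21762), parts RC / RD: `B` on the blocks of the bad natural line, radical or not

`s : SitR S V F B P`, `N : NatKM K S P (zl S P) (cv S P) k`, `blk N i = [U, L_i]` (`NO3S/KeyRad`).

* `root_cent` : the root group of the block `i` centralises all `v ∈ U` with `e v i 1 = 0`;
* `comm` (M1), `fix` (M2), `exists_up` (M3), `blk_conj`;
* `line_comm`, `c_blk`, `c_line` : `B` centralises the line of a bad block, `[w, B] ≤ line`;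
* `two_lt_card` : `2 < |K|`; `line_le_E`, `I_le`;
* `p7a` : `StP7a` over `SitR` (trivial radical).
-/

set_option autoImplicit false
set_option linter.unusedSectionVars false

namespace Cfsg.Agent.Omega.NOThreeL.RLow.Moved

open Subgroup Cfsg Cfsg.Agent.ZN Cfsg.Agent.Omega.MinPar Cfsg.Agent.Omega.Frame Cfsg.Agent.Omega.FrameNOFF
open Cfsg.Agent.Omega.NOne.Flat (Hyp EE WW NN BadX)
open Cfsg.Agent.Omega.NOne.NearFF (c)
open Cfsg.Agent.Omega.FrameFF (cv)
open Cfsg.Agent.Omega.FFThm (NatK NatKM ActsSL)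
open Cfsg.Agent.Omega.NO3S.ThmB
open Cfsg.Agent.Omega.NO3S.KeyRad (blk)
open Cfsg.Agent.Omega.NOThreeL.Low (Blk)
open Cfsg.Agent.Omega.NOThreeL.Low.Nat (QB)
open Cfsg.Agent.Omega.NatPair
open Cfsg.Agent.Lib.SL2Mat
open Cfsg.Agent.MinSimple.VModule (le_normalizer_zl)

universe u

/-! ### The root group of a block, radical or not -/

section root

variable {G : Type u} [Group G] {K : Type} [Field K] {S P U D : Subgroup G} {k : ℕ} {M : NatKM K S P U D k} (h : Nb M)
include h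

/-- elements of `Z` have coordinates in the lines -/
theorem z_one {z : G} (hz : z ∈ U) (hzS : ∀ s ∈ S, s * z = z * s) (j : Fin k) : M.e z j 1 = 0 := by
  obtain ⟨t, ht, h1, -⟩ := M.unip fun _ => 1
  have h2 := h1 z hz j
  rw [hzS t ht, mul_inv_cancel_right] at h2
  have h3 := congrFun h2 0
  rw [ap_up_0, one_mul] at h3
  exact left_eq_add.1 h3

/-- elements of `Z - D` have full support -/
theorem z_ne {z : G} (hz : z ∈ U) (hzS : ∀ s ∈ S, s * z = z * s) (hzD : z ∉ D) (j : Fin k) : M.e z j ≠ 0 := by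
  intro h0
  refine hzD ((M.ker z hz).1 (funext fun l => ?_))
  obtain ⟨t, ht, h2⟩ := M.trans j l
  have h3 := h2 z hz
  rw [hzS t ht, mul_inv_cancel_right] at h3
  exact h3.2 h0

theorem z_zero_ne {z : G} (hz : z ∈ U) (hzS : ∀ s ∈ S, s * z = z * s) (hzD : z ∉ D) (j : Fin k) :
    M.e z j 0 ≠ 0 := fun h0 => z_ne h hz hzS hzD j (vec_eq h0 (z_one h hz hzS j))

/-- **The root group of the block `i` centralises `{v : e v i 1 = 0}`.** -/
theorem root_cent [CharP K 2] {z : G} (hz : z ∈ U) (hzS : ∀ s ∈ S, s * z = z * s) (hzD : z ∉ D) {g : G}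
    (hg : g ∈ P) {i : Fin k} {x : K} (hA : ActsSL M.e U D g (sg i (up x))) {v : G} (hv : v ∈ U)
    (hv1 : M.e v i 1 = 0) : g * v = v * g := by
  classical
  -- the root elements centralise `Z`
  have hroot : ∀ y : K, ∀ g ∈ P, ActsSL M.e U D g (sg i (up y)) → g * z = z * g := by
    intro y g hg hA
    obtain ⟨r, hr, hrA⟩ := M.unip (Function.update (0 : Fin k → K) i y)
    have e1 : (fun l => up (Function.update (0 : Fin k → K) i y l)) = sg i (up y) := by
      funext l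
      by_cases hl : l = i
      · rw [hl, Function.update_self, sg_self]
      · rw [Function.update_of_ne hl, Pi.zero_apply, sg_ne hl, up_zero]
    rw [e1] at hrA
    have h1 := h.same hg (h.SP' hr) hA hrA hz
    rw [hzS r hr, mul_inv_cancel_right] at h1
    exact mul_inv_eq_iff_eq_mul.1 h1
  have hz0 := z_zero_ne h hz hzS hzD i
  have hz1 := z_one h hz hzS i
  -- an element `y` with `e y i = (e v i 0, 0)` centralised by `g`
  obtain ⟨y, hy, hy0, hy1, hgy⟩ : ∃ y ∈ U, M.e y i 0 = M.e v i 0 ∧ M.e y i 1 = 0 ∧ g * y = y * g := by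
    by_cases hvz : M.e v i 0 = M.e z i 0
    · exact ⟨z, hz, hvz.symm, hz1, hroot x g hg hA⟩
    · set l : K := M.e v i 0 / M.e z i 0 + 1 with hl
      have hl0 : l ≠ 0 := by
        intro h0
        apply hvz
        have h1 := CharTwo.add_eq_zero.1 h0
        rw [div_eq_iff hz0, one_mul] at h1
        exact h1
      obtain ⟨t, ht, htA⟩ := M.lift (sg i (dg l hl0))
      obtain ⟨r, hr, hrA⟩ := M.lift (sg i (up (l⁻¹ ^ 2 * x)))
      have h1 := h.acts_mul (mul_mem hr (inv_mem ht)) htA (h.acts_mul (inv_mem ht) hrA (h.acts_inv ht htA))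
      have e1 : sg i (dg l hl0) * (sg i (up (l⁻¹ ^ 2 * x)) * (sg i (dg l hl0))⁻¹) = sg i (up x) := by
        have e2 : dg l hl0 * up (l⁻¹ ^ 2 * x) = up x * dg l hl0 := by
          rw [dg_up]
          congr 2
          field_simp
        rw [← mul_assoc, ← sg_mul, e2, sg_mul, mul_inv_cancel_right]
      rw [e1] at h1
      have htz := h.memV ht hz
      have h2 : g * (t * z * t⁻¹) * g⁻¹ = t * z * t⁻¹ := by
        rw [h.same hg (mul_mem ht (mul_mem hr (inv_mem ht))) hA h1 htz]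
        have h3 := hroot _ r hr hrA
        calc t * (r * t⁻¹) * (t * z * t⁻¹) * (t * (r * t⁻¹))⁻¹ = t * (r * z * r⁻¹) * t⁻¹ := by group
          _ = t * z * t⁻¹ := by rw [h3, mul_inv_cancel_right]
      refine ⟨t * z * t⁻¹ * z⁻¹, mul_mem htz (inv_mem hz), ?_, ?_, ?_⟩
      · rw [h.e_div htz hz, Pi.add_apply, Pi.add_apply, htA.1 z hz i, sg_self, ap_zero', dg_00, dg_01, zero_mul,
          add_zero, hl, add_mul, div_mul_cancel₀ _ hz0, one_mul, add_assoc, CharTwo.add_self_eq_zero, add_zero]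
      · rw [h.e_div htz hz, Pi.add_apply, Pi.add_apply, htA.1 z hz i, sg_self, ap_one', dg_10, dg_11, zero_mul,
          zero_add, hz1, mul_zero, add_zero]
      · have h3 : Commute g (t * z * t⁻¹) := mul_inv_eq_iff_eq_mul.1 h2
        have h4 : Commute g z := hroot x g hg hA
        exact h3.mul_right h4.inv_right
  have h1 : g * (v * y⁻¹) = v * y⁻¹ * g := by
    refine NO3S.KeyRad.cent_sg h hg hA (mul_mem hv (inv_mem hy)) ?_
    rw [h.e_div hv hy, Pi.add_apply]
    refine vec_eq ?_ ?_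
    · rw [Pi.add_apply, hy0, CharTwo.add_self_eq_zero]; rfl
    · rw [Pi.add_apply, hy1, hv1, add_zero]; rfl
  have h2 : Commute g (v * y⁻¹ * y) := (show Commute g (v * y⁻¹) from h1).mul_right hgy
  rw [inv_mul_cancel_right] at h2
  exact h2

end root

section sit

variable {G : Type u} [Group G] [Finite G] {S : Sylow 2 G} {V F B P : Subgroup G}

theorem qb (s : SitR S V F B P) : QB (S : Subgroup G) (zl (S : Subgroup G) P) B (EE V F) where
  BS := s.BS
  ab := fun _ hb _ hc => (SymR.bh s).B_comm hb hc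
  sq := fun b hb => by rw [← pow_two]; exact s.sq b hb
  quad := fun v hv b hb c' hc => SymR.quad s (s.UV hv) hb hc
  t1 := fun w hw hwE hall => SymR.false_of_few s (s.UV hw) hwE hall

/-- **(I2)** -/
theorem two_lt (s : SitR S V F B P) : 2 < (NN V F).relIndex B := by
  rw [(SymR.bh s).relIndex_B]
  exact SymR.two_lt s

/-- `B` does not centralise `w ∈ V - E`. -/
theorem exists_moved (s : SitR S V F B P) {w : G} (hw : w ∈ V) (hwE : w ∉ EE V F) :
    ∃ b ∈ B, c w b ∉ F := by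
  by_contra hall
  push Not at hall
  have h1 : B ≤ NN V F := fun b hb => (SymR.bh s).mem_NN_of_c hw hwE hb (hall b hb)
  have h2 := two_lt s
  rw [relIndex_eq_one.2 h1] at h2
  omega

variable {K : Type} [Field K] {k : ℕ}
  {N : NatKM K (S : Subgroup G) P (zl (S : Subgroup G) P) (cv (S : Subgroup G) P) k}

theorem nb (s : SitR S V F B P) (N : NatKM K (S : Subgroup G) P (zl (S : Subgroup G) P) (cv (S : Subgroup G) P) k) :
    Nb N := Inst.nb s.ctx.char2 s.hP N

theorem exists_z (s : SitR S V F B P)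
    (N : NatKM K (S : Subgroup G) P (zl (S : Subgroup G) P) (cv (S : Subgroup G) P) k) (i : Fin k) :
    ∃ z ∈ zc (S : Subgroup G), z ∉ cv (S : Subgroup G) P := by
  by_contra hall
  push Not at hall
  have h1 : zl (S : Subgroup G) P ≤ cv (S : Subgroup G) P :=
    MinSimple.VModule.zl_le hall (nb s N).DP'
  obtain ⟨v, hv, hvi, -⟩ := Nb.exists_single N i ![1, 0]
  rw [(N.ker v hv).2 (h1 hv)] at hvi
  exact one_ne_zero (congrFun hvi 0).symm

theorem zcomm {z : G} (hz : z ∈ zc (S : Subgroup G)) : ∀ s ∈ (S : Subgroup G), s * z = z * s :=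
  (MinSimple.VModule.mem_zc.1 hz).2.1

variable [CharP K 2]

/-- **The root group of the block `i` centralises `{v ∈ U : e v i 1 = 0}`.** -/
theorem root_line (s : SitR S V F B P) {g : G} (hg : g ∈ P) {i : Fin k} {x : K}
    (hA : ActsSL N.e (zl (S : Subgroup G) P) (cv (S : Subgroup G) P) g (sg i (up x))) {v : G}
    (hv : v ∈ zl (S : Subgroup G) P) (hv1 : N.e v i 1 = 0) : g * v = v * g := by
  obtain ⟨z, hz, hzD⟩ := exists_z s N i
  exact root_cent (nb s N) (MinSimple.VModule.zc_le_zl _ _ hz) (zcomm hz) hzD hg hA hv hv1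

/-- **Some block is bad.** -/
theorem exists_bad (s : SitR S V F B P)
    (N : NatKM K (S : Subgroup G) P (zl (S : Subgroup G) P) (cv (S : Subgroup G) P) k) :
    ∃ i, ¬ blk N i ≤ EE V F :=
  NO3S.KeyRad.exists_blk (nb s N) (MinSimple.VModule.zc_le_zl _ _) (fun _ hz => zcomm hz)
    (fun _ hZ hP => MinSimple.VModule.zl_le hZ hP) ((SymR.Z_le_I s).trans (SymR.I_le_E s)) s.bad

/-- **(M1)** an element of `P` which is trivial on the block `i` modulo `D` centralises `blk N i`. -/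
theorem comm (s : SitR S V F B P)
    (N : NatKM K (S : Subgroup G) P (zl (S : Subgroup G) P) (cv (S : Subgroup G) P) k) {g : G} (hg : g ∈ P)
    {i : Fin k} (h : ∀ v ∈ zl (S : Subgroup G) P, (∀ l, l ≠ i → N.e v l = 0) → N.e (g * v * g⁻¹) = N.e v) :
    ∀ w ∈ blk N i, g * w = w * g :=
  fun _ hw => NO3S.KeyRad.comm_blk (nb s N) hg h hw

variable {i : Fin k}

theorem blkU (s : SitR S V F B P) {w : G} (hw : w ∈ blk N i) : w ∈ zl (S : Subgroup G) P :=
  NO3S.KeyRad.blk_le (nb s N) i hw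

theorem BP (s : SitR S V F B P) : B ≤ P := s.BS.trans s.hP.le

/-- **(M2)** `B` fixes the bad blocks. -/
theorem fix (s : SitR S V F B P) (hi : ¬ blk N i ≤ EE V F) {b : G} (hb : b ∈ B) {σ : Equiv.Perm (Fin k)}
    (hσ : ∀ v ∈ zl (S : Subgroup G) P, ∀ j, N.e (b * v * b⁻¹) (σ j) = 0 ↔ N.e v j = 0) : σ i = i :=
  NO3S.KeyRad.fix (nb s N) (qb s) hi hb hσ

/-- `b` maps vectors with support in the bad block `i` to such vectors. -/
theorem supp (s : SitR S V F B P) (hi : ¬ blk N i ≤ EE V F) {b : G} (hb : b ∈ B) {v : G}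
    (hv : v ∈ zl (S : Subgroup G) P) (h0 : ∀ l, l ≠ i → N.e v l = 0) : ∀ l, l ≠ i → N.e (b * v * b⁻¹) l = 0 := by
  intro l hl
  obtain ⟨σ, hσ⟩ := N.perm b (BP s hb)
  have hσi := fix s hi hb hσ
  have h1 := (hσ v hv (σ.symm l)).2 (h0 _ fun h2 => hl (by rw [← hσi, ← h2, σ.apply_symm_apply]))
  rwa [σ.apply_symm_apply] at h1

variable [Finite K]

/-- **(M3)** `b ∈ B` acts on the bad block `i` as a root element of `L_i`, on `blk N i` exactly. -/
theorem exists_up (s : SitR S V F B P) (hi : ¬ blk N i ≤ EE V F) {b : G} (hb : b ∈ B) :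
    ∃ x : K, (∀ v ∈ zl (S : Subgroup G) P, N.e (b * v * b⁻¹) i = ap (up x) (N.e v i)) ∧
      ∀ g ∈ P, ActsSL N.e (zl (S : Subgroup G) P) (cv (S : Subgroup G) P) g (sg i (up x)) →
        ∀ w ∈ blk N i, b * w * b⁻¹ = g * w * g⁻¹ := by
  obtain ⟨x, hx⟩ := NO3S.KeyRad.exists_up (nb s N) (qb s) hi hb
  refine ⟨x, hx, fun g hg hA w hw => ?_⟩
  refine NO3S.KeyRad.eq_lift (nb s N) (qb s) (BP s hb) hg hx (fun v hv => ?_) hw
  rw [hA.1 v hv i, sg_self]

/-- **(M2')** -/
theorem blk_conj (s : SitR S V F B P) (hi : ¬ blk N i ≤ EE V F) {b : G} (hb : b ∈ B) {w : G} (hw : w ∈ blk N i) :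
    b * w * b⁻¹ ∈ blk N i := by
  obtain ⟨x, -, hx⟩ := exists_up s hi hb
  obtain ⟨g, hg, hA⟩ := N.lift (sg i (up x))
  rw [hx g hg hA w hw]
  have h1 := mul_mem (NO3S.KeyRad.mem_blk hg hA (blkU s hw)) hw
  rwa [inv_mul_cancel_right] at h1

/-- `B` centralises the line of a bad block. -/
theorem line_comm (s : SitR S V F B P) (hi : ¬ blk N i ≤ EE V F) {b : G} (hb : b ∈ B) {w : G} (hw : w ∈ blk N i)
    (h1 : N.e w i 1 = 0) : b * w = w * b := by
  obtain ⟨x, -, hx⟩ := exists_up s hi hb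
  obtain ⟨g, hg, hA⟩ := N.lift (sg i (up x))
  have h2 := hx g hg hA w hw
  rw [root_line s hg hA (blkU s hw) h1, mul_inv_cancel_right] at h2
  exact mul_inv_eq_iff_eq_mul.1 h2

/-- `[w, b] ∈ blk N i` -/
theorem c_blk (s : SitR S V F B P) (hi : ¬ blk N i ≤ EE V F) {b : G} (hb : b ∈ B) {w : G} (hw : w ∈ blk N i) :
    c w b ∈ blk N i := by
  have e1 : c w b = w * (b * w * b⁻¹)⁻¹ := by rw [c]; group
  rw [e1]
  exact mul_mem hw (inv_mem (blk_conj s hi hb hw))

/-- `[w, b]` is in the line -/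
theorem c_line (s : SitR S V F B P) (hi : ¬ blk N i ≤ EE V F) {b : G} (hb : b ∈ B) {w : G}
    (hw : w ∈ zl (S : Subgroup G) P) : N.e (c w b) i 1 = 0 := by
  obtain ⟨x, hx, -⟩ := exists_up s hi hb
  have hbw := (nb s N).memV (BP s hb) hw
  have e1 : c w b = w * (b * w * b⁻¹)⁻¹ := by rw [c]; group
  rw [e1, (nb s N).e_div hw hbw, Pi.add_apply, Pi.add_apply, hx w hw, ap_up_1, CharTwo.add_self_eq_zero]

/-- the line of a bad block is in `E` -/
theorem line_le_E (s : SitR S V F B P) (hi : ¬ blk N i ≤ EE V F) {w : G} (hw : w ∈ blk N i)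
    (h1 : N.e w i 1 = 0) : w ∈ EE V F := by
  by_contra hE
  obtain ⟨b, hb, hbF⟩ := exists_moved s (s.UV (blkU s hw)) hE
  apply hbF
  have h2 : c w b = 1 := by
    have h3 := line_comm s hi hb hw h1
    rw [c]
    have h4 : w * b * w⁻¹ * b⁻¹ = 1 := by rw [← h3]; group
    rw [← h4]
    try group
  rw [h2]
  exact one_mem F

/-- `I ≤ (line of the bad block) F` -/
theorem I_le (s : SitR S V F B P) (hi : ¬ blk N i ≤ EE V F) {a : G} (ha : a ∈ V ⊓ B) :
    ∃ r ∈ blk N i, N.e r i 1 = 0 ∧ r⁻¹ * a ∈ F ∧ ∃ w ∈ blk N i, ∃ b ∈ B, r = c w b := by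
  obtain ⟨w, hw, hwE⟩ := SetLike.not_le_iff_exists.1 hi
  obtain ⟨b, hb, hbF⟩ := (SymR.bh s).surj (s.UV (blkU s hw)) hwE ha
  exact ⟨c w b, c_blk s hi hb hw, c_line s hi hb (blkU s hw), hbF, w, hw, b, hb, rfl⟩

/-- **`2 < |K|`** -/
theorem two_lt_card (s : SitR S V F B P)
    (N : NatKM K (S : Subgroup G) P (zl (S : Subgroup G) P) (cv (S : Subgroup G) P) k) : 2 < Nat.card K := by
  by_contra hle
  push Not at hle
  obtain ⟨i, hi⟩ := exists_bad s N
  obtain ⟨w, hw, hwE⟩ := SetLike.not_le_iff_exists.1 hi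
  have h01 : ∀ x : K, x ≠ 0 → x = 1 := by
    intro x hx
    by_contra hx1
    have : Fintype K := Fintype.ofFinite K
    classical
    have h1 : ({0, 1, x} : Finset K).card ≤ Fintype.card K := Finset.card_le_univ _
    rw [Finset.card_eq_three.2 ⟨0, 1, x, zero_ne_one, Ne.symm hx, Ne.symm hx1, rfl⟩, ← Nat.card_eq_fintype_card] at h1
    omega
  obtain ⟨g, hg, hA⟩ := N.lift (sg i (up (1 : K)))
  have key : ∀ b ∈ B, b * w * b⁻¹ ≠ w → b * w * b⁻¹ = g * w * g⁻¹ := by
    intro b hb hne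
    obtain ⟨x, -, hx⟩ := exists_up s hi hb
    by_cases hx0 : x = 0
    · exfalso
      apply hne
      have h1 := hx 1 (one_mem _) (by rw [hx0, up_zero, sg_one]; exact Nb.acts_one) w hw
      rwa [one_mul, inv_one, mul_one] at h1
    · exact hx g hg (by rw [h01 x hx0]; exact hA) w hw
  exact SymR.false_of_few s (s.UV (blkU s hw)) hwE fun b hb b' hb' h1 h2 => (key b hb h1).trans (key b' hb' h2).symm

end sit

/-! ### Trivial radical: P7a over `SitR` -/

section bot

variable {G : Type u} [Group G] [Finite G] {S : Sylow 2 G} {V F B P : Subgroup G}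

theorem amb (s : SitR S V F B P) : Half.Amb (S : Subgroup G) P (zl (S : Subgroup G) P) :=
  Half.amb_of_loc s.ctx.char2 S s.hP.toIsPar.isLoc

/-- **P7a** over `SitR`. -/
theorem p7a (s : SitR S V F B P) {K : Type} [Field K] [Finite K] [CharP K 2] {k : ℕ}
    (N : NatKM K (S : Subgroup G) P (zl (S : Subgroup G) P) ⊥ k) (i : Fin k) (hbad : ∃ w, Blk N i w ∧ w ∉ EE V F) :
    ∀ b ∈ B, ∃ x : K, ∀ v, Blk N i v → Blk N i (b * v * b⁻¹) ∧ N.e (b * v * b⁻¹) i = ap (up x) (N.e v i) := by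
  intro b hb
  have hA := amb s
  have hQ := qb s
  have hi : Low.Nat.Bad N.toNatK (EE V F) i := by
    obtain ⟨w, hw, hwE⟩ := hbad
    refine ⟨N.e w i, ?_⟩
    rwa [NO1.NSix.em_eq N.toNatK hw.1 hw.2]
  obtain ⟨x, hx⟩ := hQ.exists_up hA hi hb
  refine ⟨x, fun v hv => ⟨⟨hA.conj_mem (hQ.BP hA hb) hv.1, fun j hj => ?_⟩, hx v hv.1⟩⟩
  obtain ⟨σ, hσ⟩ := N.perm b (hQ.BP hA hb)
  have hσi : σ i = i := hQ.fix hA hi hb hσ
  have h1 := (hσ v hv.1 (σ.symm j)).2 (hv.2 _ fun h2 => hj (by rw [← hσi, ← h2, σ.apply_symm_apply]))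
  rwa [σ.apply_symm_apply] at h1

end bot

end Cfsg.Agent.Omega.NOThreeL.RLow.Moved
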