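import Cfsg.Agent.S1161
import Cfsg.Agent.Lib.Cores
import Mathlib

/-!
# THEOREM R-LOW (#21762), (0)

`exists_K`: `Γ` a finite group, faithful on the elementary abelian `2`-group `A ≠ 0`, transitive on `A#`, with cyclic
Sylow `2`-subgroups.  Then there are normal subgroups `K ≤ D` with `D` of odd order and transitive, `K` cyclic and
fixed point free, `C_D(K) ≤ K` and `[D, Γ] ≤ K`.

-/

set_option autoImplicit false
set_option linter.style.haveILetI false

namespace Cfsg.Agent.Omega.NOThreeL.RLow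

open Subgroup Cfsg Cfsg.Agent.Lib.Cores
open scoped commutatorElement

variable {Γ : Type*} [Group Γ]

/-! ### Conjugation on a cyclic normal subgroup -/

theorem exists_pow {K : Subgroup Γ} (hK : K.Normal) (hc : IsCyclic K) (g : Γ) :
    ∃ m : ℤ, ∀ k ∈ K, g * k * g⁻¹ = k ^ m := by
  haveI := hc
  let f : K →* K :=
    { toFun := fun k => ⟨g * k.1 * g⁻¹, hK.conj_mem k.1 k.2 g⟩
      map_one' := by ext; simp
      map_mul' := fun x y => by ext; simp [mul_assoc] }
  obtain ⟨m, hm⟩ := MonoidHom.map_cyclic f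
  refine ⟨m, fun k hk => ?_⟩
  have := congrArg Subtype.val (hm ⟨k, hk⟩)
  simpa [f] using this

/-- Commutators centralise a cyclic normal subgroup. -/
theorem comm_cent {K : Subgroup Γ} (hK : K.Normal) (hc : IsCyclic K) (a b : Γ) :
    ∀ k ∈ K, a * b * a⁻¹ * b⁻¹ * k = k * (a * b * a⁻¹ * b⁻¹) := by
  obtain ⟨m, hm⟩ := exists_pow hK hc a
  obtain ⟨n, hn⟩ := exists_pow hK hc b
  have key : ∀ k ∈ K, (a * b) * k * (a * b)⁻¹ = (b * a) * k * (b * a)⁻¹ := by
    intro k hk
    have e1 : (a * b) * k * (a * b)⁻¹ = a * (b * k * b⁻¹) * a⁻¹ := by group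
    have e2 : (b * a) * k * (b * a)⁻¹ = b * (a * k * a⁻¹) * b⁻¹ := by group
    rw [e1, e2, hn k hk, hm k hk, hm _ (K.zpow_mem hk n), hn _ (K.zpow_mem hk m), ← zpow_mul,
      ← zpow_mul, mul_comm]
  intro k hk
  -- k = conj by (b a) of k'
  have hk' : (b * a)⁻¹ * k * (b * a) ∈ K := by
    have := hK.conj_mem k hk (b * a)⁻¹
    simpa using this
  have h1 := key _ hk'
  have h2 : (b * a) * ((b * a)⁻¹ * k * (b * a)) * (b * a)⁻¹ = k := by group
  rw [h2] at h1
  have h3 : a * b * ((b * a)⁻¹ * k * (b * a)) * (a * b)⁻¹ =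
    (a * b * a⁻¹ * b⁻¹) * k * (a * b * a⁻¹ * b⁻¹)⁻¹ := by group
  rw [h3] at h1
  calc a * b * a⁻¹ * b⁻¹ * k = ((a * b * a⁻¹ * b⁻¹) * k * (a * b * a⁻¹ * b⁻¹)⁻¹)
      * (a * b * a⁻¹ * b⁻¹) := by group
    _ = _ := by rw [h1]

/-! ### The odd complement -/

theorem exists_compl [Finite Γ] (S : Sylow 2 Γ) (hS : IsCyclic S) :
    ∃ D : Subgroup Γ, D.Normal ∧ Odd (Nat.card D) ∧ ∃ n, D.index = 2 ^ n := by
  by_cases h2 : 2 ∣ Nat.card Γ
  · have hmin : (Nat.card Γ).minFac = 2 := (Nat.minFac_eq_two_iff _).2 h2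
    have hc := hS.isComplement' hmin
    refine ⟨(MonoidHom.transferSylow S (hS.normalizer_le_centralizer hmin)).ker,
      (MonoidHom.transferSylow S (hS.normalizer_le_centralizer hmin)).normal_ker, ?_, ?_⟩
    · have h := hc.card_mul_card
      have hnd := S.not_dvd_index
      have e : (S : Subgroup Γ).index = Nat.card (MonoidHom.transferSylow S
          (hS.normalizer_le_centralizer hmin)).ker := hc.index_eq_card
      rw [e] at hnd
      exact Nat.odd_iff.2 (by omega)
    · obtain ⟨n, hn⟩ := S.2.exists_card_eq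
      exact ⟨n, by rw [hc.symm.index_eq_card]; exact hn⟩
  · refine ⟨⊤, inferInstance, ?_, 0, by simp⟩
    rw [card_top]
    exact Nat.odd_iff.2 (by omega)

variable {A : Type*} [AddCommGroup A] [DistribMulAction Γ A]

theorem trans_of_index [Finite Γ] [Finite A] [Nontrivial A] (h2 : ∀ a : A, 2 • a = 0) {D : Subgroup Γ}
    (hD : D.Normal) {n : ℕ} (hn : D.index = 2 ^ n)
    (htr : ∀ a b : A, a ≠ 0 → b ≠ 0 → ∃ g : Γ, g • a = b) :
    ∀ a b : A, a ≠ 0 → b ≠ 0 → ∃ g ∈ D, g • a = b := by
  classical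
  haveI := Fintype.ofFinite A
  intro a b ha hb
  have horb : MulAction.orbit Γ a = {x : A | x ≠ 0} := by
    ext x
    constructor
    · rintro ⟨g, rfl⟩
      intro h0
      have : g⁻¹ • (g • a) = 0 := by
        have h0' : g • a = 0 := h0
        rw [h0', smul_zero]
      rw [inv_smul_smul] at this
      exact ha this
    · intro hx
      obtain ⟨g, hg⟩ := htr a x ha hx
      exact ⟨g, hg⟩
  have heven : 2 ∣ Nat.card A := by
    have h := addOrderOf_dvd_natCard (G := A) a
    have h3 : addOrderOf a = 2 := by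
      refine addOrderOf_eq_prime (h2 a) ha
    rwa [h3] at h
  have hcard : (MulAction.stabilizer Γ a).index = Nat.card A - 1 := by
    rw [MulAction.index_stabilizer, horb]
    have : {x : A | x ≠ 0} = ({0} : Set A)ᶜ := by ext; simp
    rw [this, Set.ncard_compl, Set.ncard_singleton]
  have htop : D ⊔ MulAction.stabilizer Γ a = ⊤ := by
    rw [← index_eq_one]
    have i1 : (D ⊔ MulAction.stabilizer Γ a).index ∣ 2 ^ n := hn ▸ index_dvd_of_le le_sup_left
    have i2 : (D ⊔ MulAction.stabilizer Γ a).index ∣ Nat.card A - 1 :=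
      hcard ▸ index_dvd_of_le le_sup_right
    have hpos : 0 < Nat.card A := Nat.card_pos
    have hodd : ¬ 2 ∣ (D ⊔ MulAction.stabilizer Γ a).index := by
      intro h
      have := h.trans i2
      omega
    obtain ⟨j, -, hj⟩ := (Nat.dvd_prime_pow Nat.prime_two).1 i1
    rcases Nat.eq_zero_or_pos j with h0 | h0
    · rw [hj, h0, pow_zero]
    · exact absurd (hj ▸ dvd_pow_self 2 h0.ne') hodd
  obtain ⟨g, hg⟩ := htr a b ha hb
  have hg' : g ∈ D ⊔ MulAction.stabilizer Γ a := htop ▸ mem_top g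
  haveI := hD
  obtain ⟨d, hd, s, hs, rfl⟩ := mem_sup_of_normal_left.1 hg'
  refine ⟨d, hd, ?_⟩
  rw [mul_smul] at hg
  rwa [MulAction.mem_stabilizer_iff.1 hs] at hg

/-- The cyclic normal subgroup `K = F(D)`. -/
structure KK (A : Type*) [AddCommGroup A] [DistribMulAction Γ A] (D K : Subgroup Γ) : Prop where
  norD : D.Normal
  norK : K.Normal
  le : K ≤ D
  odd : Odd (Nat.card D)
  tr : ∀ a b : A, a ≠ 0 → b ≠ 0 → ∃ g ∈ D, g • a = b
  cyc : IsCyclic K
  fpf : ∀ k ∈ K, k ≠ 1 → ∀ a : A, k • a = a → a = 0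
  self : ∀ d ∈ D, (∀ k ∈ K, d * k = k * d) → d ∈ K
  comm : ∀ d ∈ D, ∀ g : Γ, d * g * d⁻¹ * g⁻¹ ∈ K

theorem exists_K_of_normal [Finite Γ] [Finite A] [Nontrivial A] [FaithfulSMul Γ A]
    (h2 : ∀ a : A, 2 • a = 0)
    {D : Subgroup Γ} (hD : D.Normal) (hodd : Odd (Nat.card D))
    (htr : ∀ a b : A, a ≠ 0 → b ≠ 0 → ∃ g ∈ D, g • a = b) : ∃ K, KK A D K := by
  haveI := hD
  haveI : FaithfulSMul D A := ⟨fun {x y} h => Subtype.ext (eq_of_smul_eq_smul (α := A) fun a => h a)⟩
  obtain ⟨hcyc, hfpf, hcomm⟩ := Cfsg.Agent.S1161.result (D := D) (E := A) hodd Nat.prime_two h2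
    (fun a b ha hb => by
      obtain ⟨g, hg, e⟩ := htr a b ha hb
      exact ⟨⟨g, hg⟩, e⟩)
  haveI := fittingSubgroup_characteristic (G := D)
  set K := (fittingSubgroup D).map D.subtype with hK
  have hKn : K.Normal := ConjAct.normal_of_characteristic_of_normal
  have hKc : IsCyclic K := by
    haveI := hcyc
    exact isCyclic_of_surjective (D.subtype.subgroupMap (fittingSubgroup D))
      (D.subtype.subgroupMap_surjective (fittingSubgroup D))
  have hself : ∀ d ∈ D, (∀ k ∈ K, d * k = k * d) → d ∈ K := by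
    -- C := C_D(K)
    have hle : centralizer (fittingSubgroup D : Set D) ≤ fittingSubgroup D := by
      apply le_fittingSubgroup inferInstance
      set C := centralizer (fittingSubgroup D : Set D) with hC
      have hKC : fittingSubgroup D ≤ C := by
        rw [hC, le_centralizer_iff_isMulCommutative]
        haveI := hcyc
        exact ⟨⟨fun a b => by
          letI := IsCyclic.commGroup (α := fittingSubgroup D)
          exact mul_comm a b⟩⟩
      -- commutator C ≤ center C
      have hcq : ∀ a b : C ⧸ center C, a * b = b * a := by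
        intro a b
        obtain ⟨a, rfl⟩ := QuotientGroup.mk'_surjective (center C) a
        obtain ⟨b, rfl⟩ := QuotientGroup.mk'_surjective (center C) b
        rw [← map_mul, ← map_mul]
        change ((a * b : C) : C ⧸ center C) = ((b * a : C) : C ⧸ center C)
        rw [QuotientGroup.eq, mem_center_iff]
        intro c
        have hm : (a * b)⁻¹ * (b * a) = ⁅b⁻¹, a⁻¹⁆ := by
          rw [commutatorElement_def]; group
        have hin : ((⁅b⁻¹, a⁻¹⁆ : C) : D) ∈ fittingSubgroup D := by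
          apply hcomm
          rw [commutatorElement_def]
          push_cast
          rw [← commutatorElement_def]
          exact commutator_mem_commutator (mem_top _) (mem_top _)
        rw [hm]
        apply Subtype.ext
        have := (mem_centralizer_iff.1 c.2) _ hin
        exact this.symm
      have hnq : Group.IsNilpotent (C ⧸ center C) := by
        letI : CommGroup (C ⧸ center C) := { (inferInstance : Group (C ⧸ center C)) with mul_comm := hcq }
        exact CommGroup.isNilpotent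
      exact Subgroup.isNilpotent_of_ker_le_center (QuotientGroup.mk' (center C)) (by rw [QuotientGroup.ker_mk'])
    intro d hd h
    refine ⟨⟨d, hd⟩, hle ?_, rfl⟩
    rw [mem_centralizer_iff]
    intro k hk
    apply Subtype.ext
    exact (h k.1 ⟨k, hk, rfl⟩).symm
  refine ⟨K, hD, hKn, map_subtype_le _, hodd, htr, hKc, ?_, hself, ?_⟩
  · rintro _ ⟨k, hk, rfl⟩ hk1 a ha
    exact hfpf k hk (fun h => hk1 (by rw [h]; rfl)) a ha
  · intro d hd g
    refine hself _ ?_ (comm_cent hKn hKc d g)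
    have : g * d⁻¹ * g⁻¹ ∈ D := hD.conj_mem _ (D.inv_mem hd) g
    have := D.mul_mem hd this
    simpa [mul_assoc] using this

theorem exists_K [Finite Γ] [Finite A] [Nontrivial A] [FaithfulSMul Γ A]
    (h2 : ∀ a : A, 2 • a = 0) (S : Sylow 2 Γ) (hS : IsCyclic S)
    (htr : ∀ a b : A, a ≠ 0 → b ≠ 0 → ∃ g : Γ, g • a = b) :
    ∃ D K, KK (Γ := Γ) A D K ∧ ∃ n, D.index = 2 ^ n := by
  obtain ⟨D, hD, hodd, n, hn⟩ := exists_compl S hS
  obtain ⟨K, hK⟩ := exists_K_of_normal h2 hD hodd (trans_of_index h2 hD hn htr)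
  exact ⟨D, K, hK, n, hn⟩

end Cfsg.Agent.Omega.NOThreeL.RLow
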