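import Cfsg.Agent.S1161

/-!
# THEOREM R-LOW (#21762, helper597), tool (0): odd normal subgroups transitive on `A ∖ {0}`

`Γ` finite, faithful on the finite elementary abelian `2`-group `A`, `D ⊴ Γ` of odd order, transitive on `A ∖ {0}`.
By S1161 there is a cyclic normal subgroup `K ≤ D` of `Γ` acting freely, with `C_D(K) = K`; every element of `Γ` acts on
`K` as a power map and `[D, Γ] ≤ K` (`SK`, `exists_SK`).
-/

set_option autoImplicit false
set_option linter.style.haveILetI false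

namespace Cfsg.Agent.Omega.NOThreeL.RLow

open Subgroup Cfsg

universe u v

variable {Γ : Type u} {A : Type v} [Group Γ] [AddCommGroup A] [DistribMulAction Γ A]

/-- The singer kernel `K` of `D ⊴ Γ`. -/
structure SK (A : Type v) [AddCommGroup A] [DistribMulAction Γ A] (D K : Subgroup Γ) : Prop where
  le : K ≤ D
  free : ∀ k ∈ K, k ≠ 1 → ∀ a : A, k • a = a → a = 0
  comm : ∀ k ∈ K, ∀ l ∈ K, k * l = l * k
  pow : ∀ g : Γ, ∃ m : ℤ, ∀ k ∈ K, g * k * g⁻¹ = k ^ m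
  cen : ∀ d ∈ D, (∀ k ∈ K, d * k = k * d) → d ∈ K
  cyc : ∃ c ∈ K, ∀ k ∈ K, ∃ n : ℤ, k = c ^ n

namespace SK

variable {D K : Subgroup Γ} (s : SK A D K)
include s

/-- `[D, Γ] ≤ K` -/
theorem comm_mem (hD : D.Normal) {d : Γ} (hd : d ∈ D) (g : Γ) : d⁻¹ * (g * d * g⁻¹) ∈ K := by
  refine s.cen _ (D.mul_mem (D.inv_mem hd) (hD.conj_mem d hd g)) fun k hk => ?_
  obtain ⟨m, hm⟩ := s.pow d
  obtain ⟨n, hn⟩ := s.pow g⁻¹
  have h1 : g⁻¹ * k * g ∈ K := by
    have := hn k hk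
    rw [inv_inv] at this
    rw [this]
    exact K.zpow_mem hk _
  have h2 : g * d * g⁻¹ * k * (g * d * g⁻¹)⁻¹ = d * k * d⁻¹ := by
    have h3 := hm _ h1
    calc g * d * g⁻¹ * k * (g * d * g⁻¹)⁻¹ = g * (d * (g⁻¹ * k * g) * d⁻¹) * g⁻¹ := by group
      _ = g * (g⁻¹ * k * g) ^ m * g⁻¹ := by rw [h3]
      _ = (g * (g⁻¹ * k * g) * g⁻¹) ^ m := (conj_zpow).symm
      _ = k ^ m := by congr 1; group
      _ = d * k * d⁻¹ := (hm k hk).symm
  have h3 : g * d * g⁻¹ * k = d * k * d⁻¹ * (g * d * g⁻¹) := by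
    rw [← h2]; group
  calc d⁻¹ * (g * d * g⁻¹) * k = d⁻¹ * (g * d * g⁻¹ * k) := by group
    _ = d⁻¹ * (d * k * d⁻¹ * (g * d * g⁻¹)) := by rw [h3]
    _ = k * (d⁻¹ * (g * d * g⁻¹)) := by group

end SK

/-- **(0)** of #21762, from S1161. -/
theorem exists_SK [Finite Γ] [Finite A] [Nontrivial A] [FaithfulSMul Γ A] (h2 : ∀ a : A, a + a = 0) {D : Subgroup Γ}
    (hD : D.Normal) (hodd : Odd (Nat.card D)) (htr : ∀ a b : A, a ≠ 0 → b ≠ 0 → ∃ d ∈ D, d • a = b) :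
    ∃ K : Subgroup Γ, SK A D K := by
  classical
  haveI : FaithfulSMul D A := ⟨fun {d e} h => Subtype.ext (FaithfulSMul.eq_of_smul_eq_smul (α := A) h)⟩
  obtain ⟨h3, h4, h5⟩ := Cfsg.Agent.S1161.result (D := D) (E := A) hodd Nat.prime_two (fun e => by rw [two_nsmul, h2])
    (fun a b ha hb => by
      obtain ⟨d, hd, he⟩ := htr a b ha hb
      exact ⟨⟨d, hd⟩, he⟩)
  set F := Cfsg.fittingSubgroup ↥D with hF
  have hFn : F.Normal := by
    rw [hF]
    unfold Cfsg.fittingSubgroup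
    exact Subgroup.sSup_normal _ fun N hN => hN.1
  haveI := h3
  letI := IsCyclic.commGroup (α := F)
  have hcomm : ∀ k ∈ F, ∀ l ∈ F, k * l = l * k := fun k hk l hl =>
    congrArg Subtype.val (mul_comm (⟨k, hk⟩ : F) ⟨l, hl⟩)
  -- `F` is invariant under `Γ`
  have hchar : ∀ (φ : ↥D ≃* ↥D), ∀ k ∈ F, φ k ∈ F := by
    intro φ
    have h6 : F.map φ.toMonoidHom ≤ F := by
      rw [hF]
      unfold Cfsg.fittingSubgroup
      rw [Subgroup.map_le_iff_le_comap]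
      refine sSup_le fun N hN => ?_
      rw [← Subgroup.map_le_iff_le_comap]
      refine le_sSup ⟨hN.1.map _ φ.surjective, ?_⟩
      haveI := hN.2
      exact Group.nilpotent_of_surjective (φ.toMonoidHom.subgroupMap N)
        (MonoidHom.subgroupMap_surjective _ _)
    exact fun k hk => h6 (Subgroup.mem_map_of_mem _ hk)
  let cj : Γ → (↥D ≃* ↥D) := fun g => MulAut.conjNormal g
  have hcj : ∀ (g : Γ) (d : ↥D), ((cj g d : ↥D) : Γ) = g * d * g⁻¹ := fun g d => by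
    simp [cj, MulAut.conjNormal_apply]
  refine ⟨F.map D.subtype, ?_, ?_, ?_, ?_, ?_, ?_⟩
  · rintro _ ⟨k, -, rfl⟩
    exact k.2
  · rintro _ ⟨k, hk, rfl⟩ hk1 a ha
    exact h4 k hk (fun h => hk1 (by rw [h]; rfl)) a ha
  · rintro _ ⟨k, hk, rfl⟩ _ ⟨l, hl, rfl⟩
    exact congrArg Subtype.val (hcomm k hk l hl)
  · intro g
    let σ : F →* F := ((cj g).toMonoidHom.comp F.subtype).codRestrict F (fun k => hchar (cj g) k k.2)
    obtain ⟨m, hm⟩ := MonoidHom.map_cyclic σ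
    refine ⟨m, ?_⟩
    rintro _ ⟨k, hk, rfl⟩
    have h6 := congrArg (fun x : F => ((x : ↥D) : Γ)) (hm ⟨k, hk⟩)
    have h7 : ((σ ⟨k, hk⟩ : ↥D) : Γ) = g * (k : Γ) * g⁻¹ := hcj g k
    change g * (k : Γ) * g⁻¹ = (k : Γ) ^ m
    rw [← h7]
    simpa using h6
  · intro d hd hdk
    -- `C = C_D(F)` is nilpotent and normal
    let C : Subgroup ↥D := centralizer (F : Set ↥D)
    have hCn : C.Normal := inferInstance
    have hCF : C ≤ F := by
      rw [hF]
      refine le_sSup ⟨hCn, ?_⟩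
      have h8 : ∀ x y : ↥D, x * y * x⁻¹ * y⁻¹ ∈ F := fun x y =>
        h5 (Subgroup.commutator_mem_commutator (Subgroup.mem_top x) (Subgroup.mem_top y))
      rw [Group.isNilpotent_iff]
      refine ⟨2, ?_⟩
      rw [eq_top_iff]
      intro x _
      rw [Subgroup.mem_upperCentralSeries_succ_iff]
      intro y
      rw [Subgroup.upperCentralSeries_one, Subgroup.mem_center_iff]
      intro w
      have h9 : ((x * y * x⁻¹ * y⁻¹ : C) : ↥D) ∈ F := by
        have := h8 (x : ↥D) (y : ↥D)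
        simpa using this
      have h10 := Subgroup.mem_centralizer_iff.1 w.2 _ h9
      exact Subtype.ext h10.symm
    exact ⟨⟨d, hd⟩, hCF (Subgroup.mem_centralizer_iff.2 fun k hk => Subtype.ext (hdk k ⟨k, hk, rfl⟩).symm), rfl⟩
  · obtain ⟨c, hc⟩ := IsCyclic.exists_generator (α := F)
    refine ⟨((c : ↥D) : Γ), ⟨c, c.2, rfl⟩, ?_⟩
    rintro _ ⟨k, hk, rfl⟩
    obtain ⟨n, hn⟩ := Subgroup.mem_zpowers_iff.1 (hc ⟨k, hk⟩)
    refine ⟨n, ?_⟩
    have := congrArg (fun x : F => ((x : ↥D) : Γ)) hn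
    simpa using this.symm

end Cfsg.Agent.Omega.NOThreeL.RLow
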