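import Cfsg.Agent.Omega.NOThreeL.RLow.Defs

/-!
# THEOREM R-LOW: the situation at one bad line

`SitP S V F B P` : `SitR` (`Defs.lean`) without `LV` and `good`, with `pt` for the bad line only.  Parts RA, RB, RC use
nothing else; the second consumer is `RR S ≤ Q` (`RZ/Low/Main.lean`), where only the lines of some of the
`P ∈ P*(S)` are in `V`.
-/

set_option autoImplicit false

namespace Cfsg.Agent.Omega.NOThreeL.RLow

open Subgroup Cfsg Cfsg.Agent.ZN Cfsg.Agent.Omega.MinPar Cfsg.Agent.Omega.Frame Cfsg.Agent.Omega.FrameNOFF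
open Cfsg.Agent.Omega.Node.NO3L (Data)
open Cfsg.Agent.Omega.NOThreeL.Basic (CaseA)
open Cfsg.Agent.Omega.NOne.Flat (Hyp EE WW NN BadX)
open scoped Pointwise

universe u

variable {G : Type u} [Group G] [Finite G]

/-- **The situation at one bad line** `U = V_P`. -/
structure SitP (S : Sylow 2 G) (V F B P : Subgroup G) : Prop where
  ctx : Ctx G
  D : Data (S : Subgroup G)
  notA : ¬ CaseA (S : Subgroup G)
  flat : Hyp V F
  VS : V ≤ (S : Subgroup G)
  hP : IsParS (S : Subgroup G) P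
  UV : zl (S : Subgroup G) P ≤ V
  /-- `U = V_P` is bad -/
  bad : ¬ zl (S : Subgroup G) P ≤ EE V F
  FB : F ≤ B
  BW : B ≤ WW V F
  /-- `B` is normal in `X = C_G(F)` -/
  XB : centralizer (F : Set G) ≤ normalizer (B : Set G)
  comm : B ≤ centralizer (B : Set G)
  sq : ∀ b ∈ B, b ^ 2 = 1
  BS : B ≤ (S : Subgroup G)
  CB : WW V F ⊓ centralizer (B : Set G) ≤ (S : Subgroup G)
  ZB : zc (S : Subgroup G) ≤ B
  /-- **(S+)**: the points of `U` meet `F` trivially -/
  pt : ∀ g ∈ P, MulAut.conj g • zc (S : Subgroup G) ⊓ F = ⊥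
  /-- box R: `|Z| ≥ 4` -/
  card : 2 < Nat.card (zc (S : Subgroup G))

/-- `SitR` gives `SitP`. -/
theorem SitR.toP {S : Sylow 2 G} {V F B P : Subgroup G} (s : SitR S V F B P) : SitP S V F B P :=
  ⟨s.ctx, s.D, s.notA, s.flat, s.VS, s.hP, s.UV, s.bad, s.FB, s.BW, s.XB, s.comm, s.sq, s.BS, s.CB, s.ZB,
    s.pt P s.hP s.bad, s.card⟩

end Cfsg.Agent.Omega.NOThreeL.RLow
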