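import Cfsg.Agent.LieRecognition.OddTransFitting
import Cfsg.Agent.LieRecognition.FT61.Main

/-!
# [R-low], #21762 (0): normal subgroups of odd order transitive on the vectors

`Γ` finite, faithful on the elementary abelian 2-group `E`, `D` normal in `Γ` of odd order and
transitive on the nonzero vectors.  Then there is a cyclic `K ⊴ Γ`, `K ≤ D`, fixed-point-free,
self-centralising in `D`, with `⁅D, Γ⁆ ≤ K`.
-/

set_option autoImplicit false

namespace Cfsg.Agent.Omega.NOThreeL.RLow.TransOdd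

open Cfsg.Agent.Lib.Cores Cfsg.Agent.LieRecognition
open scoped commutatorElement

variable {Γ E : Type*} [Group Γ] [Finite Γ] [AddCommGroup E] [Finite E]
    [DistribMulAction Γ E] [FaithfulSMul Γ E]

/-- #21762 (0). -/
theorem core [Nontrivial E] (D : Subgroup Γ) [hDn : D.Normal] (hodd : Odd (Nat.card D))
    (h2 : ∀ e : E, 2 • e = 0)
    (htr : ∀ a b : E, a ≠ 0 → b ≠ 0 → ∃ d ∈ D, d • a = b) :
    ∃ K : Subgroup Γ, K ≤ D ∧ K.Normal ∧ IsCyclic K ∧
      (∀ g ∈ K, g ≠ 1 → ∀ e : E, g • e = e → e = 0) ∧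
      (∀ d ∈ D, (∀ k ∈ K, d * k = k * d) → d ∈ K) ∧
      (∀ d ∈ D, ∀ t : Γ, d * t * d⁻¹ * t⁻¹ ∈ K) := by
  have hf : FaithfulSMul D E := ⟨fun {x y} h => Subtype.ext
    (FaithfulSMul.eq_of_smul_eq_smul (fun e : E => h e))⟩
  have htr' : ∀ a b : E, a ≠ 0 → b ≠ 0 → ∃ d : D, d • a = b := by
    intro a b ha hb
    obtain ⟨d, hd, h⟩ := htr a b ha hb
    exact ⟨⟨d, hd⟩, h⟩
  obtain ⟨hcyc, hfree⟩ :=
    OddTransFitting.fitting_isCyclic_and_free (D := D) (E := E) hodd Nat.prime_two h2 htr'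
  have : Group.IsSolvable D := FT61.Main.isSolvable hodd Nat.prime_two h2 htr'
  have hcent := Cfsg.Agent.S0044.centralizer_fitting_le D fittingSubgroup_normal
  have hch : (Cfsg.fittingSubgroup D).Characteristic := fittingSubgroup_characteristic
  set K : Subgroup Γ := (Cfsg.fittingSubgroup D).map D.subtype with hK
  have hKn : K.Normal := by rw [hK]; infer_instance
  have hKc : IsCyclic K := by
    rw [hK]
    exact isCyclic_of_surjective
      ((Cfsg.fittingSubgroup D).equivMapOfInjective D.subtype D.subtype_injective).toMonoidHom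
      (MulEquiv.surjective _)
  have hKD : K ≤ D := Subgroup.map_subtype_le _
  have hself : ∀ d ∈ D, (∀ k ∈ K, d * k = k * d) → d ∈ K := by
    intro d hd h
    refine ⟨⟨d, hd⟩, hcent ?_, rfl⟩
    rw [Subgroup.mem_centralizer_iff]
    intro k hk
    apply Subtype.ext
    exact (h k ⟨k, hk, rfl⟩).symm
  refine ⟨K, hKD, hKn, hKc, ?_, hself, ?_⟩
  · rintro g ⟨k, hk, rfl⟩ hg1 e he
    exact hfree k hk (fun h => hg1 (by rw [h]; rfl)) e he
  · intro d hd t
    apply hself
    · have h1 : t * d⁻¹ * t⁻¹ ∈ D := hDn.conj_mem _ (D.inv_mem hd) t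
      have : d * t * d⁻¹ * t⁻¹ = d * (t * d⁻¹ * t⁻¹) := by group
      rw [this]; exact D.mul_mem hd h1
    · intro k hk
      -- conjugation by any two elements commutes on the cyclic `K`
      have hpow : ∀ g : Γ, ∃ m : ℤ, ∀ k ∈ K, g * k * g⁻¹ = k ^ m := by
        intro g
        obtain ⟨⟨z, hz⟩, hgen⟩ := hKc.exists_generator
        obtain ⟨m, hm⟩ := Subgroup.mem_zpowers_iff.1 (hgen ⟨g * z * g⁻¹, hKn.conj_mem z hz g⟩)
        have hm' : z ^ m = g * z * g⁻¹ := congrArg Subtype.val hm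
        refine ⟨m, fun k hk => ?_⟩
        obtain ⟨n, hn⟩ := Subgroup.mem_zpowers_iff.1 (hgen ⟨k, hk⟩)
        have hn' : z ^ n = k := congrArg Subtype.val hn
        rw [← hn', ← zpow_mul, mul_comm n m, zpow_mul, hm', conj_zpow]
      obtain ⟨m, hm⟩ := hpow d
      obtain ⟨n, hn⟩ := hpow t
      have key : ∀ k ∈ K, d * (t * k * t⁻¹) * d⁻¹ = t * (d * k * d⁻¹) * t⁻¹ := by
        intro k hk
        rw [hn k hk, hm k hk, hm (k ^ n) (K.zpow_mem hk n), hn (k ^ m) (K.zpow_mem hk m),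
          ← zpow_mul, ← zpow_mul, mul_comm]
      have hk' : t⁻¹ * k * t ∈ K := by
        have := hKn.conj_mem k hk t⁻¹; simpa using this
      have hk'' : d⁻¹ * (t⁻¹ * k * t) * d ∈ K := by
        have := hKn.conj_mem _ hk' d⁻¹; simpa using this
      have h3 := key _ hk''
      have h4 : d * (t * (d⁻¹ * (t⁻¹ * k * t) * d) * t⁻¹) * d⁻¹
          = (d * t * d⁻¹ * t⁻¹) * k * (d * t * d⁻¹ * t⁻¹)⁻¹ := by group
      have h5 : t * (d * (d⁻¹ * (t⁻¹ * k * t) * d) * d⁻¹) * t⁻¹ = k := by group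
      rw [h4, h5] at h3
      exact mul_inv_eq_iff_eq_mul.1 h3

/-- #21762 (3b): a subgroup with a common fixed vector has its odd part in the centre. -/
theorem central_of_fix [Nontrivial E] (D : Subgroup Γ) [hDn : D.Normal]
    (hodd : Odd (Nat.card D)) (h2 : ∀ e : E, 2 • e = 0)
    (htr : ∀ a b : E, a ≠ 0 → b ≠ 0 → ∃ d ∈ D, d • a = b)
    (P : Subgroup Γ) (e : E) (he : e ≠ 0) (hPe : ∀ p ∈ P, p • e = e) :
    ∀ d ∈ D, d ∈ P → ∀ p ∈ P, d * p = p * d := by
  obtain ⟨K, -, -, -, hfree, -, hcomm⟩ := core D hodd h2 htr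
  intro d hd hdP p hp
  by_contra hne
  have hmem : d * p * d⁻¹ * p⁻¹ ∈ P :=
    P.mul_mem (P.mul_mem (P.mul_mem hdP hp) (P.inv_mem hdP)) (P.inv_mem hp)
  refine he (hfree _ (hcomm d hd p) (fun h => hne ?_) e (hPe _ hmem))
  have h1 : d * p * d⁻¹ = p := mul_inv_eq_one.1 h
  exact mul_inv_eq_iff_eq_mul.1 h1

/-- Burnside: a cyclic Sylow 2-subgroup has a normal complement (of odd order). -/
theorem exists_complement {Γ : Type*} [Group Γ] [Finite Γ] (T : Sylow 2 Γ)
    (hcyc : IsCyclic (T : Subgroup Γ)) :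
    ∃ D : Subgroup Γ, D.Normal ∧ Odd (Nat.card D) ∧
      (∀ g : Γ, ∃ d ∈ D, ∃ t ∈ (T : Subgroup Γ), g = d * t) ∧
      Nat.card Γ = Nat.card D * Nat.card (T : Subgroup Γ) := by
  by_cases h2 : 2 ∣ Nat.card Γ
  · have hmin : (Nat.card Γ).minFac = 2 := (Nat.minFac_eq_two_iff _).2 h2
    have hle := IsCyclic.normalizer_le_centralizer hmin hcyc
    have hc := MonoidHom.ker_transferSylow_isComplement' T hle
    have hnd := MonoidHom.not_dvd_card_ker_transferSylow T hle
    refine ⟨(MonoidHom.transferSylow T hle).ker, inferInstance, ?_, ?_, ?_⟩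
    · rw [← Nat.not_even_iff_odd, even_iff_two_dvd]
      exact hnd
    · intro g
      obtain ⟨⟨d, t⟩, hdt⟩ := hc.2 g
      exact ⟨d, d.2, t, t.2, hdt.symm⟩
    · exact hc.card_mul_card.symm
  · have hT : (T : Subgroup Γ) = ⊥ := by
      rw [← Subgroup.card_eq_one]
      obtain ⟨n, hn⟩ := (IsPGroup.iff_card.1 T.isPGroup')
      rcases Nat.eq_zero_or_pos n with h0 | h0
      · rw [hn, h0, pow_zero]
      · exfalso
        apply h2
        have h3 : Nat.card (T : Subgroup Γ) ∣ Nat.card Γ := Subgroup.card_subgroup_dvd_card _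
        rw [hn] at h3
        exact (dvd_pow_self 2 h0.ne').trans h3
    refine ⟨⊤, inferInstance, ?_, fun g => ⟨g, trivial, 1, Subgroup.one_mem _, by simp⟩, ?_⟩
    · rw [Subgroup.card_top, ← Nat.not_even_iff_odd, even_iff_two_dvd]
      exact h2
    · rw [hT]; simp

/-- A normal subgroup of 2-power index in a group transitive on the nonzero vectors is transitive. -/
theorem trans_normal {Γ E : Type*} [Group Γ] [Finite Γ] [AddCommGroup E] [Finite E]
    [DistribMulAction Γ E] (D : Subgroup Γ) [hDn : D.Normal] (n : ℕ) (hD : D.index ∣ 2 ^ n)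
    (h2 : ∀ e : E, 2 • e = 0)
    (htr : ∀ a b : E, a ≠ 0 → b ≠ 0 → ∃ g : Γ, g • a = b) :
    ∀ a b : E, a ≠ 0 → b ≠ 0 → ∃ d ∈ D, d • a = b := by
  intro a b ha hb
  have horb : MulAction.orbit Γ a = {x : E | x ≠ 0} := by
    ext x
    constructor
    · rintro ⟨g, rfl⟩ h0
      exact ha ((smul_eq_zero_iff_eq g).1 h0)
    · intro hx
      obtain ⟨g, hg⟩ := htr a x ha hx
      exact ⟨g, hg⟩
  have hcard : (MulAction.stabilizer Γ a).index + 1 = Nat.card E := by
    rw [MulAction.index_stabilizer, horb]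
    have h1 : {x : E | x ≠ 0} = ({0} : Set E)ᶜ := rfl
    rw [h1, Set.ncard_compl, Set.ncard_singleton]
    have : 0 < Nat.card E := Nat.card_pos
    omega
  have heven : 2 ∣ Nat.card E := by
    have ho : addOrderOf a = 2 := by
      apply addOrderOf_eq_prime (h2 a) ha
    rw [← ho]
    exact addOrderOf_dvd_natCard a
  have hodd : Nat.Coprime (MulAction.stabilizer Γ a).index (2 ^ n) := by
    apply Nat.Coprime.pow_right
    rw [Nat.coprime_comm, Nat.coprime_two_left, ← Nat.not_even_iff_odd, even_iff_two_dvd]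
    omega
  have htop : D ⊔ MulAction.stabilizer Γ a = ⊤ := by
    rw [← Subgroup.index_eq_one]
    refine Nat.eq_one_of_dvd_coprimes hodd ?_ ?_
    · exact Subgroup.index_dvd_of_le le_sup_right
    · exact (Subgroup.index_dvd_of_le le_sup_left).trans hD
  obtain ⟨g, hg⟩ := htr a b ha hb
  have hg' : g ∈ D ⊔ MulAction.stabilizer Γ a := by rw [htop]; trivial
  obtain ⟨d, hd, s, hs, rfl⟩ := Subgroup.mem_sup_of_normal_left.1 hg'
  refine ⟨d, hd, ?_⟩
  rw [← hg, mul_smul, MulAction.mem_stabilizer_iff.1 hs]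

end Cfsg.Agent.Omega.NOThreeL.RLow.TransOdd
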